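import Cfsg.Agent.Mrg.Omega.OM.Dich
import Cfsg.Agent.Mrg.Omega.OM.WeakCl
import Cfsg.Agent.Mrg.Omega.NO3S.Level.Lim


/-!
# TEXT R1 (4), (5), (6) (helper609 #14539) at every level

The pair `(B, ZJ)` instead of `(bau S, zj S)`:

* `LB S K B ZJ` : `ZJ ≤ K ≤ B = C_S(ZJ)`, `ZJ` is a group of exponent 2 and `N_G(T) ≤ N_G(ZJ)` for every 2-subgroup
  `T ≥ K` of `G`;
* `LB.neg`, `LB.lev` : the instances `(jj S, bau S, zj S)` (stage `-1`) and `(K, C_S(Ω₁Z(K)), Ω₁Z(K))`,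
  `K = lev S n`;
* `lev_eq` : `lev T j = lev S j` for every 2-subgroup `T ≥ lev S n`, `j ≤ n`;
* `K0`, `Fam`, `Fam.dich` : **(5)**, `gen` : **(6) (O1+)**, as in `OM/Dich.lean`.
-/

set_option autoImplicit false

namespace Cfsg.Agent.Omega.OM.LevD

open Subgroup Cfsg Cfsg.Agent.ZN.ChoiceBase Cfsg.Agent.ZN.ChoiceSit
open Cfsg.Agent.ZN (jj zj bau zc zl o2)
open Cfsg.Agent.MinSimple.MinParabolic (IsMinPar)
open Cfsg.Agent.MinSimple.VModule (oddGen mem_oddGen le_normalizer_oddGen oddGen_le)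
open Cfsg.Agent.Omega.LemmaK (Block WeakNormal)
open Cfsg.Agent.Omega.NO3S.Level
open Cfsg.Agent.Omega.OM.WeakCl (WC)
open Cfsg.Agent.Omega.OM.Dich (norm_cent oddGen_sup_syl)
open scoped Pointwise

universe u

variable {G : Type u} [Group G]

/-! ### The pair `(B, ZJ)` -/

/-- The pair `(B, ZJ)` of a level `K`: `ZJ = Ω₁Z(K)`, `B = C_S(ZJ)`. -/
structure LB [Finite G] (S : Sylow 2 G) (K B ZJ : Subgroup G) : Prop where
  KB : K ≤ B
  eqB : B = (S : Subgroup G) ⊓ centralizer (ZJ : Set G)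
  nrm : ∀ T : Subgroup G, IsPGroup 2 T → K ≤ T → normalizer (T : Set G) ≤ normalizer (ZJ : Set G)
  ZK : ZJ ≤ K
  sq : ∀ z ∈ ZJ, z ^ 2 = 1

/-- a subgroup which is weakly closed in `S` is normalised by `N_G(T)` for every 2-subgroup `T` over it -/
theorem norm_of_wc [Finite G] {S : Sylow 2 G} {K : Subgroup G} (h : NO3b.Wc.WC (S : Subgroup G) K)
    {T : Subgroup G} (hT : IsPGroup 2 T) (hK : K ≤ T) {g : G} (hg : g ∈ normalizer (T : Set G)) : cj g K = K := by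
  obtain ⟨R, hR⟩ := hT.exists_le_sylow
  obtain ⟨x, hx⟩ := MulAction.exists_smul_eq G S R
  have hRx : (R : Subgroup G) = cj x (S : Subgroup G) := by rw [← hx, Sylow.coe_subgroup_smul]; rfl
  rw [hRx] at hR
  have h1 : cj x⁻¹ K = K := h.eq x⁻¹ (by
    have := cj_mono x⁻¹ (hK.trans hR)
    rwa [cj_inv_cj] at this)
  have h2 : cj (x⁻¹ * g) K = K := h.eq _ (by
    have h3 : cj g K ≤ cj x (S : Subgroup G) := (cj_mono g hK).trans ((cj_eq_of_mem_normalizer hg).le.trans hR)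
    have := cj_mono x⁻¹ h3
    rwa [cj_inv_cj, cj_cj] at this)
  rw [← cj_cj] at h2
  have h3 := congrArg (cj x) h2
  rw [cj_cj_inv] at h3
  rw [h3]
  have h4 := congrArg (cj x) h1
  rw [cj_cj_inv] at h4
  exact h4.symm

/-- the next level over a 2-group -/
theorem nxt_eq [Finite G] {S : Sylow 2 G} {K T : Subgroup G} (hK : NO3b.Wc.WC (S : Subgroup G) K)
    (hN : NO3b.Wc.WC (S : Subgroup G) (nxt (S : Subgroup G) K)) (hT : IsPGroup 2 T)
    (hle : nxt (S : Subgroup G) K ≤ T) : nxt T K = nxt (S : Subgroup G) K := by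
  obtain ⟨R, hR⟩ := hT.exists_le_sylow
  obtain ⟨x, hx⟩ := MulAction.exists_smul_eq G S R
  have hRx : (R : Subgroup G) = cj x (S : Subgroup G) := by rw [← hx, Sylow.coe_subgroup_smul]; rfl
  rw [hRx] at hR
  have key : ∀ L : Subgroup G, NO3b.Wc.WC (S : Subgroup G) L → L ≤ cj x (S : Subgroup G) → cj x⁻¹ L = L := by
    intro L hL hLx
    refine hL.eq x⁻¹ ?_
    have := cj_mono x⁻¹ hLx
    rwa [cj_inv_cj] at this
  have h1 : cj x⁻¹ K = K := key K hK ((le_nxt hK.le).trans (hle.trans hR))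
  have h2 := key _ hN (hle.trans hR)
  have hxK : x⁻¹ ∈ normalizer (K : Set G) := mem_normalizer_iff_cj.2 h1
  have hX : cj x⁻¹ (zc K) = zc K := cj_eq_of_mem_normalizer (normalizer_le_zc K hxK)
  apply le_antisymm
  · rw [← cj_cj_inv (g := x) (H := nxt (S : Subgroup G) K), h2]
    have h3 : cj x⁻¹ (nxt T K) ≤ nxt (S : Subgroup G) K := by
      have hTS : cj x⁻¹ T ≤ (S : Subgroup G) := by
        have := cj_mono x⁻¹ hR
        rwa [cj_inv_cj] at this
      show Subgroup.map _ _ ≤ _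
      rw [nxt, Subgroup.map_sup]
      refine sup_le ?_ ?_
      · refine le_trans ?_ (inf_centralizer_le_nxt _ K)
        refine le_inf ((cj_mono x⁻¹ inf_le_left).trans hTS) ((cj_mono x⁻¹ inf_le_right).trans ?_)
        rw [cj_centralizer, hX]
      · rw [Subgroup.map_le_iff_le_comap]
        refine sSup_le fun A hA => ?_
        rw [← Subgroup.map_le_iff_le_comap]
        refine BO.le_nxt ⟨(cj_mono x⁻¹ hA.1).trans hTS, hA.2.conj (normalizer_le_zc K hxK)⟩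
    have h4 := cj_mono x h3
    rwa [cj_cj_inv] at h4
  · refine sup_le ?_ (sSup_le fun A hA => ?_)
    · refine le_trans ?_ (inf_centralizer_le_nxt T K)
      exact le_inf ((inf_centralizer_le_nxt _ K).trans hle) inf_le_right
    · exact BO.le_nxt ⟨(BO.le_nxt hA).trans hle, hA.2⟩

/-- `lev T j = lev S j` for every 2-subgroup `T ≥ lev S n`, `j ≤ n`. -/
theorem lev_eq [Finite G] (S : Sylow 2 G) {T : Subgroup G} (hT : IsPGroup 2 T) {n : ℕ}
    (hle : lev (S : Subgroup G) n ≤ T) : ∀ j, j ≤ n → lev T j = lev (S : Subgroup G) j := by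
  intro j hj
  induction j with
  | zero => exact MinSimple.EmptyTI.jj_eq S hT ((lev_mono (S : Subgroup G) (Nat.zero_le n)).trans hle)
  | succ j ih =>
    show nxt T (lev T j) = nxt (S : Subgroup G) (lev (S : Subgroup G) j)
    rw [ih (by omega)]
    exact nxt_eq (lev_wc j) (lev_wc (j + 1)) hT ((lev_mono (S : Subgroup G) hj).trans hle)

/-- stage `-1` -/
theorem LB.neg [Finite G] (S : Sylow 2 G) :
    LB S (jj (S : Subgroup G)) (bau (S : Subgroup G)) (zj (S : Subgroup G)) where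
  KB := jj_le_bau _
  eqB := rfl
  nrm := fun _ hT hK g hg => by
    have h1 : g ∈ normalizer (jj (S : Subgroup G) : Set G) :=
      mem_normalizer_iff_cj.2 (norm_of_wc (wc_jj S) hT hK hg)
    have h7 := normalizer_le_of_cj (F := zj) zj_cj (jj (S : Subgroup G))
    have h8 : zj (jj (S : Subgroup G)) = zj (S : Subgroup G) := zj_congr (jj_eq_of_jj_le le_rfl (jj_le _))
    rw [h8] at h7
    exact h7 h1
  ZK := fun _ hz => (mem_zj.1 hz).1
  sq := fun _ hz => (mem_zj.1 hz).2.1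

/-- stage `n` -/
theorem LB.lev [Finite G] (S : Sylow 2 G) (n : ℕ) :
    LB S (lev (S : Subgroup G) n) ((S : Subgroup G) ⊓ centralizer (zc (lev (S : Subgroup G) n) : Set G))
      (zc (lev (S : Subgroup G) n)) where
  KB := le_inf (lev_le _ n) (le_centralizer_zc _)
  eqB := rfl
  nrm := fun _ hT hK _ hg => normalizer_le_zc _ (mem_normalizer_iff_cj.2 (norm_of_wc (lev_wc n) hT hK hg))
  ZK := zc_le _
  sq := fun _ hz => (mem_zc.1 hz).2.1

namespace LB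

variable [Finite G] {S : Sylow 2 G} {K B ZJ : Subgroup G}

theorem BS (h : LB S K B ZJ) : B ≤ (S : Subgroup G) := h.eqB.le.trans inf_le_left

theorem Bc (h : LB S K B ZJ) : B ≤ centralizer (ZJ : Set G) := h.eqB.le.trans inf_le_right

theorem Bp (h : LB S K B ZJ) : IsPGroup 2 B := S.isPGroup'.to_le h.BS

theorem ZB (h : LB S K B ZJ) : ZJ ≤ B := h.ZK.trans h.KB

/-- a 2-group over `K` normalises `ZJ` -/
theorem two_le_ZJ (h : LB S K B ZJ) {T : Subgroup G} (hT : IsPGroup 2 T) (hK : K ≤ T) :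
    T ≤ normalizer (ZJ : Set G) := le_normalizer.trans (h.nrm T hT hK)

theorem S_le_ZJ (h : LB S K B ZJ) : (S : Subgroup G) ≤ normalizer (ZJ : Set G) :=
  h.two_le_ZJ S.isPGroup' (h.KB.trans h.BS)

/-- `B` is a Sylow 2-subgroup of `C_G(Z_J)`. -/
theorem syl (h : LB S K B ZJ) : Syl B (centralizer (ZJ : Set G)) := by
  refine ⟨h.Bc, h.Bp, fun T hT h2 hBT => ?_⟩
  -- `S` is a Sylow subgroup of `N_G(ZJ)`
  have hS : Syl (S : Subgroup G) (normalizer (ZJ : Set G)) :=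
    ⟨h.S_le_ZJ, S.isPGroup', fun Q _ hQ2 hSQ => S.is_maximal' hQ2 hSQ⟩
  obtain ⟨Q, hQ, hTQ⟩ := exists_syl h2 (hT.trans (centralizer_le_normalizer _))
  obtain ⟨x, hx, e⟩ := syl_conj hS hQ
  have h3 : T ≤ cj x B := by
    rw [h.eqB, cj_inf, cj_centralizer, cj_eq_of_mem_normalizer hx, e]
    exact le_inf hTQ hT
  have h4 := Subgroup.card_le_of_le h3
  rw [card_cj] at h4
  exact (Subgroup.eq_of_le_of_card_ge hBT h4).symm

/-- Frattini: `N_G(Z_J) = C_G(Z_J) N_G(B)`. -/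
theorem exists_frattini (h : LB S K B ZJ) {g : G} (hg : g ∈ normalizer (ZJ : Set G)) :
    ∃ d ∈ centralizer (ZJ : Set G), ∃ n ∈ normalizer (B : Set G), g = d * n := by
  have h1 := h.syl
  have h2 : Syl (cj g B) (centralizer (ZJ : Set G)) := by
    have e := cj_eq_of_mem_normalizer (norm_cent hg)
    refine ⟨?_, isPGroup_cj g h1.2.1, fun T hT hp hle => ?_⟩
    · rw [← e]; exact cj_mono g h1.1
    · have h3 : cj g⁻¹ T ≤ centralizer (ZJ : Set G) := by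
        have e' := cj_eq_of_mem_normalizer (inv_mem (norm_cent hg))
        rw [← e']; exact cj_mono _ hT
      have h4 := h1.2.2 (cj g⁻¹ T) h3 (isPGroup_cj _ hp) (cj_le_iff.1 hle)
      rw [← h4, cj_cj_inv]
  obtain ⟨d, hd, e⟩ := syl_conj h1 h2
  refine ⟨d, hd, d⁻¹ * g, ?_, by group⟩
  rw [mem_normalizer_iff_cj, ← cj_cj, ← e, cj_inv_cj]

theorem norm_zj_le (h : LB S K B ZJ) :
    normalizer (ZJ : Set G) ≤ centralizer (ZJ : Set G) ⊔ normalizer (B : Set G) := by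
  intro g hg
  obtain ⟨d, hd, n, hn, rfl⟩ := h.exists_frattini hg
  exact mul_mem (mem_sup_left hd) (mem_sup_right hn)

/-- `N_G(B) ≤ N_G(ZJ)` -/
theorem norm_B_le (h : LB S K B ZJ) : normalizer (B : Set G) ≤ normalizer (ZJ : Set G) := h.nrm B h.Bp h.KB

/-- `C_T(ZJ) = B` for every 2-group `T ≥ B` -/
theorem inf_eq (h : LB S K B ZJ) {T : Subgroup G} (hT : IsPGroup 2 T) (hB : B ≤ T) :
    T ⊓ centralizer (ZJ : Set G) = B :=
  h.syl.2.2 _ inf_le_right (hT.to_le inf_le_left) (le_inf hB h.Bc)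

/-- `B` is normal in every 2-group over it. -/
theorem two_le (h : LB S K B ZJ) {T : Subgroup G} (hT : IsPGroup 2 T) (hB : B ≤ T) :
    T ≤ normalizer (B : Set G) := by
  intro t ht
  rw [mem_normalizer_iff_cj]
  have h1 := h.two_le_ZJ hT (h.KB.trans hB) ht
  rw [← h.inf_eq hT hB, cj_inf, cj_centralizer, cj_eq_of_mem_normalizer h1,
    cj_eq_of_mem_normalizer (le_normalizer ht)]

theorem weakNormal (h : LB S K B ZJ) : WeakNormal 2 B := fun _ hT hB => h.two_le hT hB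

/-- `B` is weakly closed -/
theorem wc (h : LB S K B ZJ) (hK : NO3b.Wc.WC (S : Subgroup G) K) (hZ : normalizer (K : Set G) ≤ normalizer (ZJ : Set G)) :
    WC B := by
  intro T hT hB g hg
  -- `K^g = K`
  have h1 : cj g K = K := by
    obtain ⟨R, hR⟩ := hT.exists_le_sylow
    obtain ⟨x, hx⟩ := MulAction.exists_smul_eq G S R
    have hRx : (R : Subgroup G) = cj x (S : Subgroup G) := by rw [← hx, Sylow.coe_subgroup_smul]; rfl
    rw [hRx] at hR
    have key : ∀ y : G, cj y K ≤ T → cj (x⁻¹ * y) K = K := by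
      intro y hy
      refine hK.eq _ ?_
      have := cj_mono x⁻¹ (hy.trans hR)
      rwa [cj_inv_cj, cj_cj] at this
    have h2 := key g ((cj_mono g h.KB).trans hg)
    have h3 := key 1 (by
      have e : cj (1 : G) K = K := by rw [cj_eq_of_mem_normalizer (one_mem _)]
      rw [e]
      exact h.KB.trans hB)
    rw [mul_one] at h3
    rw [← cj_cj] at h2
    have h4 := congrArg (cj x) (h2.trans h3.symm)
    rwa [cj_cj_inv, cj_cj_inv] at h4
  have h2 : cj g ZJ = ZJ := cj_eq_of_mem_normalizer (hZ (mem_normalizer_iff_cj.2 h1))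
  have h3 : cj g B ≤ B := by
    rw [← h.inf_eq hT hB]
    refine le_inf ?_ ?_
    · rw [h.inf_eq hT hB]; exact hg
    · rw [h.inf_eq hT hB]
      refine (cj_mono g h.Bc).trans ?_
      rw [cj_centralizer, h2]
  exact Subgroup.eq_of_le_of_card_ge h3 (card_cj _ _).ge

end LB

/-- `B` is weakly closed, stage `n` -/
theorem wc_lev [Finite G] (S : Sylow 2 G) (n : ℕ) :
    WC ((S : Subgroup G) ⊓ centralizer (zc (lev (S : Subgroup G) n) : Set G)) :=
  (LB.lev S n).wc (lev_wc n) (normalizer_le_zc _)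

/-! ### The family of blocks -/

/-- A family of blocks over `B`, invariant under `N_G(B)`, whose modules generate a group containing `Z_J`. -/
structure Fam (B ZJ : Subgroup G) (𝓑 : Subgroup G → Subgroup G → Prop) : Prop where
  blk : ∀ L V, 𝓑 L V → Block 2 B L V
  conj : ∀ n ∈ normalizer (B : Set G), ∀ L V, 𝓑 L V → 𝓑 (cj n L) (cj n V)
  zj_le : ZJ ≤ ⨆ i : {x : Subgroup G × Subgroup G // 𝓑 x.1 x.2}, i.1.2

/-- `⟨C_G(Z_J), all blocks⟩` -/
def K0 (ZJ : Subgroup G) (𝓑 : Subgroup G → Subgroup G → Prop) : Subgroup G :=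
  centralizer (ZJ : Set G) ⊔ ⨆ i : {x : Subgroup G × Subgroup G // 𝓑 x.1 x.2}, i.1.1

section fam

variable {S : Sylow 2 G} {K B ZJ : Subgroup G} {𝓑 : Subgroup G → Subgroup G → Prop}

theorem cent_le_K0 : centralizer (ZJ : Set G) ≤ K0 ZJ 𝓑 := le_sup_left

theorem blk_le_K0 {L V : Subgroup G} (h : 𝓑 L V) : L ≤ K0 ZJ 𝓑 :=
  le_sup_of_le_right (le_iSup (fun i : {x : Subgroup G × Subgroup G // 𝓑 x.1 x.2} => i.1.1) ⟨(L, V), h⟩)

variable [Finite G]

theorem B_le_K0 (hB : LB S K B ZJ) : B ≤ K0 ZJ 𝓑 := hB.Bc.trans cent_le_K0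

/-- `N_G(B)` normalises `K0`. -/
theorem norm_K0 (hB : LB S K B ZJ) (F : Fam B ZJ 𝓑) :
    normalizer (B : Set G) ≤ normalizer (K0 ZJ 𝓑 : Set G) := by
  intro n hn
  refine mem_normalizer_of_cj_le ?_
  have e : cj n (K0 ZJ 𝓑) = cj n (centralizer (ZJ : Set G)) ⊔
      ⨆ i : {x : Subgroup G × Subgroup G // 𝓑 x.1 x.2}, cj n i.1.1 := by
    rw [K0, cj, Subgroup.map_sup, Subgroup.map_iSup]
  rw [e, cj_centralizer, cj_eq_of_mem_normalizer (hB.norm_B_le hn)]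
  exact sup_le cent_le_K0 (iSup_le fun i => blk_le_K0 (F.conj n hn _ _ i.2))

/-- A 2-group normalised by `K0` centralises `Z_J`. -/
theorem Fam.le_cent (F : Fam B ZJ 𝓑) {W : Subgroup G} (hW : IsPGroup 2 W)
    (hK : K0 ZJ 𝓑 ≤ normalizer (W : Set G)) : W ≤ centralizer (ZJ : Set G) := by
  have : Fact (Nat.Prime 2) := ⟨Nat.prime_two⟩
  have h1 : (⨆ i : {x : Subgroup G × Subgroup G // 𝓑 x.1 x.2}, i.1.2) ≤ centralizer (W : Set G) := by
    refine iSup_le fun i => ?_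
    have h2 := (F.blk _ _ i.2).le_centralizer hW ((blk_le_K0 i.2).trans hK)
    exact le_centralizer_iff.1 h2
  exact le_centralizer_iff.1 (F.zj_le.trans h1)

/-- **(5)** If `K0` normalises a nontrivial 2-subgroup, then `O₂(K0)` is one, it lies in `B` and is
normalised by `⟨K0, N_G(B)⟩`. -/
theorem Fam.dich (hB : LB S K B ZJ) (F : Fam B ZJ 𝓑) {R : Subgroup G} (hR : IsPGroup 2 R) (hR1 : R ≠ ⊥)
    (hK : K0 ZJ 𝓑 ≤ normalizer (R : Set G)) :
    o2 (K0 ZJ 𝓑) ≠ ⊥ ∧ o2 (K0 ZJ 𝓑) ≤ B ∧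
      K0 ZJ 𝓑 ⊔ normalizer (B : Set G) ≤ normalizer (o2 (K0 ZJ 𝓑) : Set G) := by
  set K₁ := K0 ZJ 𝓑 with hKdef
  have h1 : R ≤ K₁ := (F.le_cent hR hK).trans cent_le_K0
  have h2 : R ≤ o2 K₁ := le_o2 hR h1 hK
  have h3 : o2 K₁ ≤ centralizer (ZJ : Set G) := F.le_cent (isPGroup_o2 K₁) (le_normalizer_o2 K₁)
  refine ⟨fun h => hR1 (by rw [eq_bot_iff, ← h]; exact h2), ?_, sup_le (le_normalizer_o2 K₁) ?_⟩
  · have h4 : o2 K₁ ≤ o2 (centralizer (ZJ : Set G)) :=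
      le_o2 (isPGroup_o2 K₁) h3 (cent_le_K0.trans (le_normalizer_o2 K₁))
    exact h4.trans (o2_le_syl hB.syl)
  · intro n hn
    have h5 := norm_K0 hB F hn
    rw [mem_normalizer_iff_cj, ← pCore_cj, cj_eq_of_mem_normalizer h5]

/-! ### (6) -/

/-- The fixed point statement (helper857 #12910 (c)) for `T`, `H`: if `[Ω₁(Z(T)), H] = 1` and `K ≰ O₂(H)` then
`O²(H)` centralises `Ω₁(Z(O₂(H)))`. -/
def FixPt (K T H : Subgroup G) : Prop :=
  ¬ K ≤ o2 H → H ≤ centralizer (zc T : Set G) → zc (o2 H) ≤ centralizer (oddGen H : Set G)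

/-- `H` is generated by `T` and the blocks over `B` in `𝓑` if it moves `Ω₁(Z(T))` and `K ≰ O₂(H)`. -/
def BlkGen (K ZJ : Subgroup G) (𝓑 : Subgroup G → Subgroup G → Prop) (T H : Subgroup G) : Prop :=
  ¬ K ≤ o2 H → ¬ H ≤ centralizer (zc T : Set G) → H ≤ K0 ZJ 𝓑 ⊔ T

/-- `N_G(ZJ) ≤ M`, if `M ≥ K0, N_G(B)` -/
theorem norm_le_M (hB : LB S K B ZJ) {M : Subgroup G} (hK : K0 ZJ 𝓑 ≤ M) (hN : normalizer (B : Set G) ≤ M) :
    normalizer (ZJ : Set G) ≤ M := hB.norm_zj_le.trans (sup_le (cent_le_K0.trans hK) hN)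

/-- **(6) (O1+).** `H` has characteristic 2 and a Sylow 2-subgroup `T ≥ B`; `M` contains `K0` and `N_G(B)`. Then `H` is
generated by `H ∩ M` and the minimal parabolics `Y` over `T` with `K ≰ O₂(Y)`, `[Ω₁(Z(T)), Y] = 1` and
`O₂(Y) ≰ B`. -/
theorem gen (hB : LB S K B ZJ) {M H T : Subgroup G} (hK : K0 ZJ 𝓑 ≤ M)
    (hN : normalizer (B : Set G) ≤ M) (hT : Syl T H) (hBT : B ≤ T)
    (hc : H ⊓ centralizer (o2 H : Set G) ≤ o2 H)
    (hfix : ∀ Y : Subgroup G, IsMinPar T Y → Y ≤ H → FixPt K T Y)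
    (hblk : ∀ Y : Subgroup G, IsMinPar T Y → Y ≤ H → BlkGen K ZJ 𝓑 T Y) :
    H ≤ (H ⊓ M) ⊔ ⨆ Y : {Y : Subgroup G // IsMinPar T Y ∧ Y ≤ H ∧ ¬ K ≤ o2 Y ∧
      Y ≤ centralizer (zc T : Set G) ∧ ¬ o2 Y ≤ B}, (Y : Subgroup G) := by
  have hZM := norm_le_M hB hK hN
  have hTN : normalizer (T : Set G) ≤ M := (hB.nrm T hT.2.1 (hB.KB.trans hBT)).trans hZM
  have hTM : T ≤ M := le_normalizer.trans hTN
  have hD : centralizer (ZJ : Set G) ≤ M := cent_le_K0.trans hK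
  refine MinSimple.MinParabolic.le_of_forall hT.1 ?_ fun Y hY hYH => ?_
  · exact le_sup_of_le_left (inf_le_inf_left _ hTN)
  have hcase : Y ≤ M → Y ≤ (H ⊓ M) ⊔ ⨆ Y : {Y : Subgroup G // IsMinPar T Y ∧ Y ≤ H ∧ ¬ K ≤ o2 Y ∧
      Y ≤ centralizer (zc T : Set G) ∧ ¬ o2 Y ≤ B}, (Y : Subgroup G) :=
    fun h => le_sup_of_le_left (le_inf hYH h)
  have hTY : Syl T Y := ⟨hY.le, hT.2.1, fun Q hQ h2 hTQ => hT.2.2 Q (hQ.trans hYH) h2 hTQ⟩
  by_cases h1 : K ≤ o2 Y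
  · exact hcase ((le_normalizer_o2 Y).trans ((hB.nrm _ (isPGroup_o2 Y) h1).trans hZM))
  by_cases h2 : Y ≤ centralizer (zc T : Set G)
  · by_cases h3 : o2 Y ≤ B
    · apply hcase
      -- `Z_J ≤ Ω₁(Z(O₂(Y)))`
      have h4 : o2 H ≤ o2 Y := by
        refine le_o2 (isPGroup_o2 H) ((o2_le_syl hT).trans hY.le) (hYH.trans (le_normalizer_o2 H))
      have hcY : Y ⊓ centralizer (o2 Y : Set G) ≤ o2 Y := by
        rintro x ⟨hx, hxc⟩
        exact h4 (hc ⟨hYH hx, centralizer_le (by exact_mod_cast h4) hxc⟩)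
      have h5 : ZJ ≤ zc (o2 Y) := by
        intro z hz
        have hzT : z ∈ T := hBT (hB.ZB hz)
        have hcz : ∀ y ∈ o2 Y, y * z = z * y := fun y hy =>
          (mem_centralizer_iff.1 (hB.Bc (h3 hy)) z hz).symm
        exact mem_zc.2 ⟨hcY ⟨hY.le hzT, mem_centralizer_iff.2 hcz⟩, hB.sq z hz, hcz⟩
      have h6 := h5.trans (hfix Y hY hYH h1 h2)
      have h7 : oddGen Y ≤ M := (le_centralizer_iff.1 h6).trans hD
      have h8 : oddGen Y ⊔ T = Y := oddGen_sup_syl hTY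
      rw [← h8]
      exact sup_le h7 hTM
    · exact le_sup_of_le_right (le_iSup (fun Y : {Y : Subgroup G // IsMinPar T Y ∧ Y ≤ H ∧ ¬ K ≤ o2 Y ∧
        Y ≤ centralizer (zc T : Set G) ∧ ¬ o2 Y ≤ B} => (Y : Subgroup G))
        ⟨Y, hY, hYH, h1, h2, h3⟩)
  · exact hcase ((hblk Y hY hYH h1 h2).trans (sup_le hK hTM))

end fam

end Cfsg.Agent.Omega.OM.LevD
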