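import Cfsg.Agent.Mrg.Omega.OM.Lev.Uni
import Cfsg.Agent.Mrg.Omega.OM.UniPlus
import Cfsg.Agent.Mrg.Omega.SQ1.FFSymMain

section


/-!
# A `T`-equivariant choice of the minimal blocks for `q = 2` at levels

`SQ1/BauSMin.lean` over `SIn.In` : `In.trans`, `In.V_split`, `In.Y_eq`, `In.star_iff`, `In.exists_blks`, `Blk.conj`.
-/

set_option autoImplicit false

namespace Cfsg.Agent.Omega.OM.Lev.SIn

open Subgroup Cfsg Cfsg.Agent.PLocal.ThompsonJ Cfsg.Agent.ZN Cfsg.Agent.ZN.ChoiceBase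
open Cfsg.Agent.PLocal.ElemAbSup
open Cfsg.Agent.Omega.SQ1.Bau (elem_comm elem_sq mem_sup_comm card_sup_comm mem_sup_norm)
open Cfsg.Agent.Omega.SQ1.BauS (Sim PermR RR mem_RR)
open scoped Pointwise

universe u w

variable {G : Type u} [Group G]

/-- the normal closure of `B` in `X` -/
def LL (T Z X : Subgroup G) : Subgroup G :=
  Subgroup.closure {y | ∃ x ∈ X, ∃ b ∈ BB T Z, y = x * b * x⁻¹}

/-- the ambient group of the equivariant block -/
def PX {ι : Type w} (H T V Z : Subgroup G) (d r : ι → G) (i : ι) : Subgroup G :=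
  RR T d i ⊔ PP H T V Z (r i)

/-- `X` is minimal over the stabiliser. -/
structure XBlk (H T V Z : Subgroup G) {ι : Type w} (d r : ι → G) (i : ι) (X : Subgroup G) :
    Prop where
  RX : RR T d i ≤ X
  XP : X ≤ PX H T V Z d r i
  mv : ∃ l ∈ X, l * d i * l⁻¹ ≠ d i
  min : ∀ K : Subgroup G, K ≤ X → RR T d i ≤ K → (∃ x ∈ K, x * d i * x⁻¹ ≠ d i) → X ≤ K

namespace In

variable {H T Q V J Z : Subgroup G} {ι : Type w} {N : ι → Subgroup G} {d t r : ι → G}

/-- `T` is transitive on the pairs. -/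
theorem trans (h : In H T Q V J Z N d t r) [Finite G] (i j : ι) : ∃ x ∈ T, x * d i * x⁻¹ = d j := by
  by_contra hcon
  push Not at hcon
  -- the orbit of `j`
  let O : Set ι := {k | ∃ x ∈ T, x * d j * x⁻¹ = d k}
  have hi : i ∉ O := by
    rintro ⟨x, hx, e⟩
    apply hcon x⁻¹ (inv_mem hx)
    rw [← e]; group
  let D : Subgroup G := Subgroup.closure {y | ∃ k ∈ O, y = d k}
  have hDZ : D ≤ Z := by
    rw [closure_le]
    rintro _ ⟨k, -, rfl⟩
    exact h.d_mem_Z k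
  have key : ∀ x : G, (∀ k ∈ O, x * d k * x⁻¹ ∈ D) → x ∈ normalizer (D : Set G) := by
    intro x hx
    refine mem_normalizer_of_cj_le ?_
    rw [cj, Subgroup.map_le_iff_le_comap, closure_le]
    rintro _ ⟨k, hk, rfl⟩
    exact hx k hk
  have h1 : H ≤ H ⊓ normalizer (D : Set G) := by
    refine h.max _ (fun x hx => ⟨h.TH hx, key x ?_⟩) inf_le_left i ⟨r i, ⟨h.rH i, key _ ?_⟩, Sim.rfl'⟩
    · rintro k ⟨y, hy, e⟩
      obtain ⟨k', hk', -⟩ := h.perm x hx k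
      rw [hk']
      refine subset_closure ⟨k', ⟨x * y, mul_mem hx hy, ?_⟩, rfl⟩
      rw [← hk', ← e]; group
    · intro k hk
      have hik : i ≠ k := fun e => hi (by rw [e]; exact hk)
      rw [h.r_d' hik]
      exact subset_closure ⟨k, hk, rfl⟩
  have hjO : j ∈ O := ⟨1, one_mem _, by group⟩
  have h2 : r j * d j * (r j)⁻¹ ∈ D :=
    (mem_normalizer_iff.1 (h1 (h.rH j)).2 _).1 (subset_closure ⟨j, hjO, rfl⟩)
  rcases Blk.Z_inf_N h (h.r_N j (h.dN j)) (hDZ h2) with h3 | h3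
  · exact h.r_d_ne_one j h3
  · exact h.r_d_ne j h3

theorem finite_index (h : In H T Q V J Z N d t r) [Finite G] : Finite ι :=
  Finite.of_injective d fun _ _ e => h.d_inj e

/-- Modulo `⟨N i⟩` the elements of `V` are fixed by all `t i`. -/
theorem split_fin (h : In H T Q V J Z N d t r) {v : G} (hv : v ∈ V) (F : Finset ι) :
    ∃ w ∈ ⨆ i, N i, ∀ i ∈ F, t i * (v * w) * (t i)⁻¹ = v * w := by
  classical
  have hNV : (⨆ i, N i) ≤ V := iSup_le h.NV
  induction F using Finset.induction_on with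
  | empty => exact ⟨1, one_mem _, by simp⟩
  | insert j F hj ih =>
    obtain ⟨w, hw, hwF⟩ := ih
    have hvw : v * w ∈ V := mul_mem hv (hNV hw)
    rcases h.t_comm j _ hvw with h1 | h1
    · refine ⟨w, hw, fun i hi => ?_⟩
      rcases Finset.mem_insert.1 hi with h2 | h2
      · rw [h2]; exact h1
      · exact hwF i h2
    · set m := r j * d j * (r j)⁻¹ with hm
      have hmN : m ∈ N j := h.r_N j (h.dN j)
      refine ⟨w * m, mul_mem hw (mem_iSup_of_mem j hmN), fun i hi => ?_⟩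
      have e : t i * (v * (w * m)) * (t i)⁻¹ = (t i * (v * w) * (t i)⁻¹) * (t i * m * (t i)⁻¹) := by
        group
      rw [e]
      by_cases hij : i = j
      · subst hij
        rw [h1, h.t_m i, ← hm]
        have e2 : d i * (v * w) * (d i * m) = (d i * (v * w)) * d i * m := by group
        rw [e2, h.Vcomm _ (h.dV i) _ hvw, mul_assoc (v * w), h.mulself (h.dV i)]
        group
      · have h2 : i ∈ F := by
          rcases Finset.mem_insert.1 hi with h2 | h2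
          · exact absurd h2 hij
          · exact h2
        rw [hwF i h2, h.t_N' (fun e => hij e.symm) hmN]
        group

theorem cent_J (h : In H T Q V J Z N d t r) {v : G} (hv : v ∈ V)
    (hc : ∀ i, t i * v * (t i)⁻¹ = v) : ∀ y ∈ J, y * v = v * y := by
  intro y hy
  have h1 : y * v * y⁻¹ = v := by
    refine h.EE_induction (P := fun x => x * v * x⁻¹ = v) (by group) ?_ ?_ (h.Jt hy)
    · intro i x _ hx
      have e : t i * x * v * (t i * x)⁻¹ = t i * (x * v * x⁻¹) * (t i)⁻¹ := by group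
      rw [e, hx, hc i]
    · intro x y _ _ hxy hx
      rw [← hxy v hv, hx]
  calc y * v = (y * v * y⁻¹) * y := by group
    _ = v * y := by rw [h1]

theorem V_split (h : In H T Q V J Z N d t r) [Finite G] {v : G} (hv : v ∈ V) :
    ∃ w ∈ ⨆ i, N i, v * w ∈ Z := by
  classical
  have := h.finite_index
  have := Fintype.ofFinite ι
  obtain ⟨w, hw, hwc⟩ := h.split_fin hv Finset.univ
  have hNV : (⨆ i, N i) ≤ V := iSup_le h.NV
  have hvw : v * w ∈ V := mul_mem hv (hNV hw)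
  refine ⟨w, hw, ?_⟩
  have hc := h.cent_J hvw fun i => hwc i (Finset.mem_univ i)
  exact h.V1Z _ hvw hc

theorem Y_eq (h : In H T Q V J Z N d t r) [Finite G] [Nonempty ι] : YY Z V = ⨆ i, VV Z N i := by
  apply le_antisymm
  · refine sup_le ?_ ?_
    · obtain ⟨i⟩ := ‹Nonempty ι›
      exact le_sup_left.trans (le_iSup (fun i => VV Z N i) i)
    · intro v hv
      obtain ⟨w, hw, hvw⟩ := h.V_split hv
      have hN : (⨆ i, N i) ≤ ⨆ i, VV Z N i := iSup_mono fun i => le_sup_right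
      obtain ⟨i⟩ := ‹Nonempty ι›
      have h1 : v * w ∈ ⨆ i, VV Z N i := mem_iSup_of_mem i (mem_sup_left hvw)
      have h2 := mul_mem h1 (inv_mem (hN hw))
      rwa [mul_inv_cancel_right] at h2
  · exact iSup_le fun i => Blk.VV_le_Y h

/-- `B ∩ Q = ⋂ Q_i` -/
theorem star_iff (h : In H T Q V J Z N d t r) [Finite G] {x : G} :
    x ∈ BB T Z ⊓ Q ↔ x ∈ BB T Z ∧ ∀ i, x ∈ QQ T Z N i := by
  constructor
  · exact fun hx => ⟨hx.1, fun i => Blk.star_le_QQ h hx⟩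
  · rintro ⟨hx, hxi⟩
    refine ⟨hx, h.cT (BB_le T Z hx) fun v hv => ?_⟩
    obtain ⟨w, hw, hvw⟩ := h.V_split hv
    have h1 : (⨆ i, N i) ≤ centralizer ({x} : Set G) := iSup_le fun i n hn => by
      rw [mem_centralizer_iff]
      intro y hy
      rw [show y = x from hy]
      exact (mem_centralizer_iff.1 (hxi i).2 n hn).symm
    have h2 := mem_centralizer_iff.1 (h1 hw) x rfl
    have h3 := (mem_BB.1 hx).2 _ hvw
    have e : x * v * w = v * w * x := by rw [mul_assoc, h3]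
    have e2 : x * v * w = v * x * w := by rw [e, mul_assoc, ← h2, mul_assoc]
    exact mul_right_cancel e2

theorem perm' (h : In H T Q V J Z N d t r) {x : G} (hx : x ∈ T) {i j : ι}
    (hij : x * d i * x⁻¹ = d j) {v : G} (hv : v ∈ N i) : x * v * x⁻¹ ∈ N j := by
  obtain ⟨k, h1, h2⟩ := h.perm x hx i
  have h3 : k = j := h.d_inj (by rw [← h1, hij])
  subst h3
  exact h2 v hv

theorem PP_conj (h : In H T Q V J Z N d t r) [Finite G] (hp : PermR T V d r) {x : G} (hx : x ∈ T)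
    {i j : ι} (hij : x * d i * x⁻¹ = d j) : cj x (PP H T V Z (r i)) ≤ PP H T V Z (r j) := by
  have hxH := h.TH hx
  rw [cj, PP, Subgroup.map_sup, Subgroup.map_sup]
  refine sup_le (sup_le ?_ ?_) ?_
  · rintro _ ⟨b, hb, rfl⟩
    exact mem_sup_left (mem_sup_left (h.T_bau hx hb))
  · rw [MonoidHom.map_zpowers, zpowers_le]
    change x * r i * x⁻¹ ∈ _
    have hxr : x * r i * x⁻¹ ∈ H := mul_mem (mul_mem hxH (h.rH i)) (inv_mem hxH)
    rcases hp x hx i j hij with h1 | h1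
    · have h2 : (r j)⁻¹ * (x * r i * x⁻¹) ∈ H ⊓ centralizer (V : Set G) := by
        refine ⟨H.mul_mem (H.inv_mem (h.rH j)) hxr, mem_centralizer_iff.2 fun v hv => ?_⟩
        have h3 := h1.mul_left (r j)⁻¹
        rw [inv_mul_cancel] at h3
        exact (sim_one_iff.1 h3 v hv).symm
      have h4 : r j * ((r j)⁻¹ * (x * r i * x⁻¹)) ∈ PP H T V Z (r j) :=
        mul_mem (mem_sup_left (mem_sup_right (mem_zpowers _))) (mem_sup_right h2)
      rwa [mul_inv_cancel_left] at h4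
    · have h2 : r j * (x * r i * x⁻¹) ∈ H ⊓ centralizer (V : Set G) := by
        refine ⟨mul_mem (h.rH j) hxr, mem_centralizer_iff.2 fun v hv => ?_⟩
        have h3 := h1.mul_left (r j)
        rw [mul_inv_cancel] at h3
        exact (sim_one_iff.1 h3 v hv).symm
      have h4 : (r j)⁻¹ * (r j * (x * r i * x⁻¹)) ∈ PP H T V Z (r j) :=
        mul_mem (inv_mem (mem_sup_left (mem_sup_right (mem_zpowers _)))) (mem_sup_right h2)
      rwa [inv_mul_cancel_left] at h4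
  · rintro _ ⟨c, hc, rfl⟩
    refine mem_sup_right ⟨H.mul_mem (H.mul_mem hxH hc.1) (H.inv_mem hxH),
      mem_centralizer_iff.2 fun v hv => ?_⟩
    have h1 := mem_centralizer_iff.1 hc.2 _ (h.Vn' hxH v hv)
    change v * (x * c * x⁻¹) = x * c * x⁻¹ * v
    calc v * (x * c * x⁻¹) = x * ((x⁻¹ * v * x) * c) * x⁻¹ := by group
      _ = x * (c * (x⁻¹ * v * x)) * x⁻¹ := by rw [h1]
      _ = _ := by group

theorem RR_norm_PP (h : In H T Q V J Z N d t r) [Finite G] (hp : PermR T V d r) (i : ι) :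
    RR T d i ≤ normalizer ((PP H T V Z (r i) : Subgroup G) : Set G) := fun _ hx =>
  mem_normalizer_of_cj_le (h.PP_conj hp (mem_RR.1 hx).1 (mem_RR.1 hx).2)

theorem PX_norm_PP (h : In H T Q V J Z N d t r) [Finite G] (hp : PermR T V d r) (i : ι) :
    PX H T V Z d r i ≤ normalizer ((PP H T V Z (r i) : Subgroup G) : Set G) :=
  sup_le (h.RR_norm_PP hp i) le_normalizer

theorem B_le_RR (h : In H T Q V J Z N d t r) [Finite G] (i : ι) : BB T Z ≤ RR T d i := fun _ hb =>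
  mem_RR.2 ⟨BB_le T Z hb, (h.EE_good (h.bau_EE hb)).fixd i⟩

theorem PX_norm_N (h : In H T Q V J Z N d t r) [Finite G] (i : ι) :
    PX H T V Z d r i ≤ normalizer (N i : Set G) := by
  refine sup_le ?_ (h.PP_norm_N i)
  intro x hx
  refine mem_normalizer_of_cj_le ?_
  rintro _ ⟨v, hv, rfl⟩
  exact h.perm' (mem_RR.1 hx).1 (mem_RR.1 hx).2 hv

/-- An element normalising `N i` which fixes `d i` acts on `N i` like `t i` or trivially. -/
theorem act_of_fix (h : In H T Q V J Z N d t r) [Finite G] {i : ι} {x : G}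
    (hN : ∀ v ∈ N i, x * v * x⁻¹ ∈ N i) (hd : x * d i * x⁻¹ = d i) :
    (∀ v ∈ N i, x * v * x⁻¹ = v) ∨ ∀ v ∈ N i, ((t i)⁻¹ * x) * v * ((t i)⁻¹ * x)⁻¹ = v := by
  set m := r i * d i * (r i)⁻¹ with hm
  have hmN : m ∈ N i := h.r_N i (h.dN i)
  have hall : ∀ y : G, y * d i * y⁻¹ = d i → y * m * y⁻¹ = m → ∀ v ∈ N i, y * v * y⁻¹ = v := by
    intro y h1 h2 v hv
    rcases h.mem_N i hv with h3 | h3 | h3 | h3
    · rw [h3]; group
    · rw [h3, h1]
    · rw [h3, ← hm, h2]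
    · rw [h3, ← hm]
      have e : y * (d i * m) * y⁻¹ = (y * d i * y⁻¹) * (y * m * y⁻¹) := by group
      rw [e, h1, h2]
  have hm1 : m ≠ 1 := h.r_d_ne_one i
  have hmd : m ≠ d i := h.r_d_ne i
  rcases h.mem_N i (hN m hmN) with h3 | h3 | h3 | h3
  · exfalso
    apply hm1
    calc m = x⁻¹ * (x * m * x⁻¹) * x := by group
      _ = 1 := by rw [h3]; group
  · exfalso
    apply hmd
    calc m = x⁻¹ * (x * m * x⁻¹) * x := by group
      _ = x⁻¹ * (x * d i * x⁻¹) * x := by rw [h3, hd]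
      _ = d i := by group
  · exact Or.inl (hall x hd h3)
  · refine Or.inr (hall _ ?_ ?_)
    · have e : (t i)⁻¹ * x * d i * ((t i)⁻¹ * x)⁻¹ = (t i)⁻¹ * (x * d i * x⁻¹) * t i := by group
      rw [e, hd]
      calc (t i)⁻¹ * d i * t i = (t i)⁻¹ * (t i * d i * (t i)⁻¹) * t i := by rw [h.t_d i]
        _ = d i := by group
    · have e : (t i)⁻¹ * x * m * ((t i)⁻¹ * x)⁻¹ = (t i)⁻¹ * (x * m * x⁻¹) * t i := by group
      rw [e, h3, ← hm]
      have h4 := h.t_m i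
      rw [← hm] at h4
      calc (t i)⁻¹ * (d i * m) * t i = (t i)⁻¹ * (t i * m * (t i)⁻¹) * t i := by rw [h4]
        _ = m := by group

theorem exists_xblk (h : In H T Q V J Z N d t r) [Finite G] (i : ι) : ∃ X, XBlk H T V Z d r i X := by
  classical
  obtain ⟨L, hL, hmin⟩ := (Set.toFinite {U : Subgroup G | RR T d i ≤ U ∧ U ≤ PX H T V Z d r i ∧
    ∃ l ∈ U, l * d i * l⁻¹ ≠ d i}).exists_minimalFor id _
    ⟨PX H T V Z d r i, le_sup_left, le_rfl, r i,
      mem_sup_right (mem_sup_left (mem_sup_right (mem_zpowers _))), h.r_d_ne i⟩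
  exact ⟨L, hL.1, hL.2.1, hL.2.2, fun X hX hB hm => hmin ⟨hB, hX.trans hL.2.1, hm⟩ hX⟩

end In

namespace XBlk

open In

variable {H T Q V J Z X : Subgroup G} {ι : Type w} {N : ι → Subgroup G} {d t r : ι → G} {i : ι}

theorem X_N (k : XBlk H T V Z d r i X) (h : In H T Q V J Z N d t r) [Finite G] {x v : G} (hx : x ∈ X)
    (hv : v ∈ N i) : x * v * x⁻¹ ∈ N i :=
  (mem_normalizer_iff.1 (h.PX_norm_N i (k.XP hx)) v).1 hv

theorem X_N' (k : XBlk H T V Z d r i X) (h : In H T Q V J Z N d t r) [Finite G] {x v : G} (hx : x ∈ X)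
    (hv : v ∈ N i) : x⁻¹ * v * x ∈ N i := by
  have := k.X_N h (inv_mem hx) hv
  rwa [inv_inv] at this

theorem B_le_LL (T Z X : Subgroup G) : BB T Z ≤ LL T Z X := fun b hb =>
  subset_closure ⟨1, one_mem _, b, hb, by group⟩

theorem LL_le_PP (k : XBlk H T V Z d r i X) (h : In H T Q V J Z N d t r) [Finite G]
    (hp : PermR T V d r) : LL T Z X ≤ PP H T V Z (r i) := by
  rw [LL, closure_le]
  rintro _ ⟨x, hx, b, hb, rfl⟩
  exact (mem_normalizer_iff.1 (h.PX_norm_PP hp i (k.XP hx)) b).1 (B_le_PP H T V Z _ hb)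

theorem LL_le_X (k : XBlk H T V Z d r i X) (h : In H T Q V J Z N d t r) [Finite G] : LL T Z X ≤ X := by
  rw [LL, closure_le]
  rintro _ ⟨x, hx, b, hb, rfl⟩
  exact mul_mem (mul_mem hx (k.RX (h.B_le_RR i hb))) (inv_mem hx)

theorem LL_norm {T Z X : Subgroup G} [Finite G] : X ≤ normalizer ((LL T Z X : Subgroup G) : Set G) := by
  intro x hx
  refine mem_normalizer_of_cj_le ?_
  rw [cj, LL, Subgroup.map_le_iff_le_comap, closure_le]
  rintro _ ⟨y, hy, b, hb, rfl⟩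
  refine subset_closure ⟨x * y, mul_mem hx hy, b, hb, ?_⟩
  change x * (y * b * y⁻¹) * x⁻¹ = _
  group

theorem mv_LL (k : XBlk H T V Z d r i X) (h : In H T Q V J Z N d t r) [Finite G] :
    ∃ l ∈ LL T Z X, l * d i * l⁻¹ ≠ d i := by
  obtain ⟨x, hx, hm⟩ := k.mv
  refine ⟨x * t i * x⁻¹, subset_closure ⟨x, hx, t i, h.t_bau i, rfl⟩, fun e => ?_⟩
  have h1 : t i * (x⁻¹ * d i * x) * (t i)⁻¹ = x⁻¹ * d i * x := by
    calc t i * (x⁻¹ * d i * x) * (t i)⁻¹ =
        x⁻¹ * (x * t i * x⁻¹ * d i * (x * t i * x⁻¹)⁻¹) * x := by group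
      _ = x⁻¹ * d i * x := by rw [e]
  rcases h.t_ne i (k.X_N' h hx (h.dN i)) h1 with h2 | h2
  · apply h.d1 i
    calc d i = x * (x⁻¹ * d i * x) * x⁻¹ := by group
      _ = 1 := by rw [h2]; group
  · apply hm
    calc x * d i * x⁻¹ = x * (x⁻¹ * d i * x) * x⁻¹ := by rw [h2]
      _ = d i := by group

/-- the kernel of the stabiliser on `N i` -/
def R0 (T : Subgroup G) (N : ι → Subgroup G) (d : ι → G) (i : ι) : Subgroup G :=
  RR T d i ⊓ centralizer (N i : Set G)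

theorem mem_cent {N : Subgroup G} {x : G} :
    x ∈ centralizer (N : Set G) ↔ ∀ v ∈ N, x * v * x⁻¹ = v := by
  rw [mem_centralizer_iff]
  constructor
  · intro h v hv
    rw [← h v hv]; group
  · intro h v hv
    calc v * x = (x * v * x⁻¹) * x := by rw [h v hv]
      _ = x * v := by group

theorem cent_conj (k : XBlk H T V Z d r i X) (h : In H T Q V J Z N d t r) [Finite G] {x c : G}
    (hx : x ∈ X) (hc : c ∈ centralizer (N i : Set G)) :
    x * c * x⁻¹ ∈ centralizer (N i : Set G) := by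
  rw [mem_cent] at hc ⊢
  intro v hv
  have h1 := hc _ (k.X_N' h hx hv)
  calc x * c * x⁻¹ * v * (x * c * x⁻¹)⁻¹ = x * (c * (x⁻¹ * v * x) * c⁻¹) * x⁻¹ := by group
    _ = x * (x⁻¹ * v * x) * x⁻¹ := by rw [h1]
    _ = v := by group

theorem syl_R0 (k : XBlk H T V Z d r i X) (h : In H T Q V J Z N d t r) [Finite G]
    (hp : PermR T V d r) : ChoiceSit.Syl (R0 T N d i) (X ⊓ centralizer (N i : Set G)) := by
  refine ⟨inf_le_inf_right _ k.RX, h.Tp.to_le (inf_le_left.trans inf_le_left), ?_⟩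
  intro P hPC hP hQP
  refine le_antisymm ?_ hQP
  intro x hx
  have hxC := hPC hx
  have hfix := mem_cent.1 hxC.2
  obtain ⟨y, hy, p, hp', rfl⟩ := mem_sup_norm (h.RR_norm_PP hp i) (k.XP hxC.1)
  have hyd := (mem_RR.1 hy).2
  have hpd : p * d i * p⁻¹ = d i := by
    have h1 := hfix _ (h.dN i)
    have e : y * p * d i * (y * p)⁻¹ = y * (p * d i * p⁻¹) * y⁻¹ := by group
    rw [e] at h1
    calc p * d i * p⁻¹ = y⁻¹ * (y * (p * d i * p⁻¹) * y⁻¹) * y := by group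
      _ = y⁻¹ * (y * d i * y⁻¹) * y := by rw [h1, hyd]
      _ = d i := by group
  obtain ⟨b, hb, hbp⟩ := h.PP_fix hp' hpd
  have hs : Sim V (y * p) (y * b) := hbp.mul_left y
  have hz : y * b ∈ R0 T N d i := by
    refine ⟨mul_mem hy (h.B_le_RR i hb), mem_cent.2 fun v hv => ?_⟩
    rw [← hs v (h.NV i hv)]
    exact hfix v hv
  have hcP : (y * b)⁻¹ * (y * p) ∈ P := mul_mem (inv_mem (hQP hz)) hx
  have hyH : y * b ∈ H := h.TH (mem_RR.1 hz.1).1
  have hpH : y * p ∈ H := mul_mem (h.TH (mem_RR.1 hy).1) (h.PP_le i hp')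
  have hcV : ∀ v ∈ V, (y * b)⁻¹ * (y * p) * v = v * ((y * b)⁻¹ * (y * p)) := by
    refine sim_one_iff.1 ?_
    have := hs.mul_left (y * b)⁻¹
    rwa [inv_mul_cancel] at this
  have hcQ : (y * b)⁻¹ * (y * p) ∈ Q := by
    obtain ⟨n, hn⟩ := hP ⟨_, hcP⟩
    exact h.two _ (mul_mem (inv_mem hyH) hpH) hcV ⟨n, by simpa using congrArg Subtype.val hn⟩
  have hQR : (y * b)⁻¹ * (y * p) ∈ R0 T N d i := by
    have hq : ∀ v ∈ V, (y * b)⁻¹ * (y * p) * v * ((y * b)⁻¹ * (y * p))⁻¹ = v := fun v hv => by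
      rw [hcV v hv]; group
    exact ⟨mem_RR.2 ⟨h.QT hcQ, hq _ (h.dV i)⟩, mem_cent.2 fun v hv => hq v (h.NV i hv)⟩
  have h2 := mul_mem hz hQR
  rwa [mul_inv_cancel_left] at h2

theorem R0_norm (k : XBlk H T V Z d r i X) (h : In H T Q V J Z N d t r) [Finite G]
    (hp : PermR T V d r) : X ≤ normalizer ((R0 T N d i : Subgroup G) : Set G) := by
  set C := X ⊓ centralizer (N i : Set G) with hC
  have hR : RR T d i ≤ normalizer ((R0 T N d i : Subgroup G) : Set G) := by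
    intro x hx
    refine mem_normalizer_of_cj_le ?_
    rintro _ ⟨y, hy, rfl⟩
    exact ⟨(RR T d i).mul_mem ((RR T d i).mul_mem hx hy.1) ((RR T d i).inv_mem hx),
      k.cent_conj h (k.RX hx) hy.2⟩
  obtain ⟨l, hl, hm⟩ := k.mv
  have hs := k.syl_R0 h hp
  rw [← hC] at hs
  have hlC : cj l C = C := by
    refine cj_eq_of_mem_normalizer (mem_normalizer_of_cj_le ?_)
    rintro _ ⟨x, hx, rfl⟩
    exact ⟨X.mul_mem (X.mul_mem hl hx.1) (X.inv_mem hl), k.cent_conj h hl hx.2⟩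
  have hs' : ChoiceSit.Syl (cj l (R0 T N d i)) C := by
    refine ⟨?_, isPGroup_cj l hs.2.1, ?_⟩
    · rw [← hlC]; exact cj_mono l hs.1
    · intro P hP hP2 hQP
      have h1 : cj l⁻¹ P = R0 T N d i := by
        refine hs.2.2 _ ?_ (isPGroup_cj _ hP2) ?_
        · rw [cj_le_iff, inv_inv, hlC]; exact hP
        · rw [← cj_le_iff]; exact hQP
      rw [← h1, cj_cj_inv]
  obtain ⟨c, hc, hcc⟩ := ChoiceSit.syl_conj hs' hs
  rw [cj_cj] at hcc
  have hcl : c * l ∈ normalizer ((R0 T N d i : Subgroup G) : Set G) := mem_normalizer_iff_cj.2 hcc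
  refine (k.min (X ⊓ normalizer ((R0 T N d i : Subgroup G) : Set G)) inf_le_left
    (le_inf k.RX hR) ⟨c * l, ⟨mul_mem hc.1 hl, hcl⟩, ?_⟩).trans inf_le_right
  have h1 := mem_cent.1 hc.2 _ (k.X_N h hl (h.dN i))
  have e : c * l * d i * (c * l)⁻¹ = c * (l * d i * l⁻¹) * c⁻¹ := by group
  rw [e, h1]; exact hm

/-- **`⟨B^X⟩` is a minimal block.** -/
theorem blk (k : XBlk H T V Z d r i X) (h : In H T Q V J Z N d t r) [Finite G]
    (hp : PermR T V d r) : Blk H T V Z d r i (LL T Z X) where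
  BL := B_le_LL T Z X
  LP := k.LL_le_PP h hp
  mv := k.mv_LL h
  min := by
    intro K hK hB hm
    have hRK : RR T d i ≤ K ⊔ R0 T N d i := by
      intro x hx
      rcases h.act_of_fix (fun v hv => h.perm' (mem_RR.1 hx).1 (mem_RR.1 hx).2 hv)
        (mem_RR.1 hx).2 with h1 | h1
      · exact mem_sup_right ⟨hx, mem_cent.2 h1⟩
      · have h2 : (t i)⁻¹ * x ∈ R0 T N d i :=
          ⟨(RR T d i).mul_mem ((RR T d i).inv_mem (h.B_le_RR i (h.t_bau i))) hx, mem_cent.2 h1⟩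
        have h3 : t i * ((t i)⁻¹ * x) ∈ K ⊔ R0 T N d i :=
          mul_mem (mem_sup_left (hB (h.t_bau i))) (mem_sup_right h2)
        rwa [mul_inv_cancel_left] at h3
    have hKX : K ≤ X := hK.trans (k.LL_le_X h)
    have hX : X ≤ K ⊔ R0 T N d i := by
      obtain ⟨y, hy, hym⟩ := hm
      exact k.min _ (sup_le hKX (inf_le_left.trans k.RX)) hRK ⟨y, mem_sup_left hy, hym⟩
    rw [LL, closure_le]
    rintro _ ⟨x, hx, b, hb, rfl⟩
    obtain ⟨y, hy, z, hz, rfl⟩ := mem_sup_norm (hKX.trans (k.R0_norm h hp)) (hX hx)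
    have h1 : z * b * z⁻¹ ∈ K := hB (h.T_bau (mem_RR.1 hz.1).1 hb)
    have e : y * z * b * (y * z)⁻¹ = y * (z * b * z⁻¹) * y⁻¹ := by group
    rw [e]
    exact K.mul_mem (K.mul_mem hy h1) (K.inv_mem hy)

end XBlk

namespace Blk

open In

variable {H T Q V J Z L : Subgroup G} {ι : Type w} {N : ι → Subgroup G} {d t r : ι → G} {i j : ι}

/-- Conjugates of minimal blocks under `T`. -/
theorem conj (k : Blk H T V Z d r i L) (h : In H T Q V J Z N d t r) [Finite G] (hp : PermR T V d r)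
    {x : G} (hx : x ∈ T) (hij : x * d i * x⁻¹ = d j) : Blk H T V Z d r j (cj x L) where
  BL := by
    intro b hb
    rw [mem_cj]
    have := h.T_bau (inv_mem hx) hb
    rw [inv_inv] at this
    exact k.BL this
  LP := (cj_mono x k.LP).trans (h.PP_conj hp hx hij)
  mv := by
    obtain ⟨l, hl, hm⟩ := k.mv
    refine ⟨x * l * x⁻¹, ⟨l, hl, rfl⟩, fun e => hm ?_⟩
    rw [← hij] at e
    calc l * d i * l⁻¹ = x⁻¹ * (x * l * x⁻¹ * (x * d i * x⁻¹) * (x * l * x⁻¹)⁻¹) * x := by group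
      _ = x⁻¹ * (x * d i * x⁻¹) * x := by rw [e]
      _ = d i := by group
  min := by
    intro X hX hB hm
    have h1 : L ≤ cj x⁻¹ X := by
      refine k.min _ ?_ ?_ ?_
      · rw [cj_le_iff, inv_inv]; exact hX
      · intro b hb
        rw [mem_cj, inv_inv]
        exact hB (h.T_bau hx hb)
      · obtain ⟨y, hy, hym⟩ := hm
        refine ⟨x⁻¹ * y * x, ?_, fun e => hym ?_⟩
        · rw [mem_cj, inv_inv]
          have e : x * (x⁻¹ * y * x) * x⁻¹ = y := by group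
          rwa [e]
        · rw [← hij]
          calc y * (x * d i * x⁻¹) * y⁻¹ = x * (x⁻¹ * y * x * d i * (x⁻¹ * y * x)⁻¹) * x⁻¹ := by
                group
            _ = x * d i * x⁻¹ := by rw [e]
    have h2 := cj_mono x h1
    rwa [cj_cj_inv] at h2

end Blk

namespace In

variable {H T Q V J Z : Subgroup G} {ι : Type w} {N : ι → Subgroup G} {d t r : ι → G}

/-- **A `T`-equivariant choice of minimal blocks.** -/
theorem exists_blks (h : In H T Q V J Z N d t r) [Finite G] (hp : PermR T V d r) :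
    ∃ L : ι → Subgroup G, (∀ i, Blk H T V Z d r i (L i)) ∧
      ∀ x ∈ T, ∀ i j, x * d i * x⁻¹ = d j → cj x (L i) = L j := by
  classical
  by_cases hne : Nonempty ι
  swap
  · exact ⟨fun _ => ⊥, fun i => absurd ⟨i⟩ hne, fun _ _ i => absurd ⟨i⟩ hne⟩
  obtain ⟨i₀⟩ := hne
  obtain ⟨X, hX⟩ := h.exists_xblk i₀
  choose τ hτ hτd using fun j => h.trans i₀ j
  refine ⟨fun j => cj (τ j) (LL T Z X), fun j => (hX.blk h hp).conj h hp (hτ j) (hτd j), ?_⟩
  intro x hx i j hij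
  change cj x (cj (τ i) (LL T Z X)) = cj (τ j) (LL T Z X)
  rw [cj_cj]
  have h1 : (τ j)⁻¹ * (x * τ i) ∈ RR T d i₀ := by
    refine mem_RR.2 ⟨mul_mem (inv_mem (hτ j)) (mul_mem hx (hτ i)), ?_⟩
    calc (τ j)⁻¹ * (x * τ i) * d i₀ * ((τ j)⁻¹ * (x * τ i))⁻¹
        = (τ j)⁻¹ * (x * (τ i * d i₀ * (τ i)⁻¹) * x⁻¹) * τ j := by group
      _ = (τ j)⁻¹ * (τ j * d i₀ * (τ j)⁻¹) * τ j := by rw [hτd i, hij, hτd j]
      _ = d i₀ := by group
  have h2 := cj_eq_of_mem_normalizer (XBlk.LL_norm (T := T) (Z := Z) (hX.RX h1))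
  calc cj (x * τ i) (LL T Z X) = cj (τ j) (cj ((τ j)⁻¹ * (x * τ i)) (LL T Z X)) := by
        rw [cj_cj, mul_inv_cancel_left]
    _ = _ := by rw [h2]

end In

end Cfsg.Agent.Omega.OM.Lev.SIn

end

section


/-!
# UNI+ at a level (helper609 #14539 (3), #15330, helper186)

`OM/UniPlus.lean` (sections `frame`, `mtl`) over the frame `FrL B Q V X ZJ L W Z C A q` of `Lev/Uni.lean`:

* `nb`, `nb_of`, `mem_C_iff`, `not_comm`, `perm_comm`, `C_le_of_two_lt`, `mem_C_of`, `card_ZJ`, `caseA`;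
* `uniPlusX` : **UNI+** for blocks with `V' ≤ X` : `q' = q`, `Z' = Z i`, `V' ≤ W i ZJ`, `ZJ ∩ C i = C_ZJ(L')`, for `q = 2`:
  `V' = W i`, `L' ≤ L i C(W i ZJ)`;
* `uniPlus` : the form of `OM/UniPlus.lean`, for blocks with `V' ≤ X` or `[V', V] ≠ 1`; `uniPlus'` : in a group of
  characteristic 2 type with `N_G(B) ≤ N_G(X)`;
* `two'` : **(2')**.
-/

set_option autoImplicit false

namespace Cfsg.Agent.Omega.OM.Lev.UniPlus

open Subgroup Cfsg Cfsg.Agent.PLocal.ThompsonJ Cfsg.Agent.ZN Cfsg.Agent.ZN.ChoiceBase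
open Cfsg.Agent.PLocal.ElemAbSup
open Cfsg.Agent.Omega.SQ1.Bau (mem_sup_comm card_sup_comm elem_comm elem_sq)
open Cfsg.Agent.Omega.OM.BlockUniq
open Cfsg.Agent.Omega.OM.Uni (Md FB)
open Cfsg.Agent.Omega.OM.UniPlus (NB exists_comm_range exists_eq_comm Z_le_zc odd_relIndex exists_fix uni_two)
open Cfsg.Agent.Omega.OM.Lev.Uni (FrL)
open Cfsg.Agent.Omega.OM.WeakCl
open scoped Pointwise commutatorElement

universe u

variable {G : Type u} [Group G]

/-! ### The frame -/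

section frame

variable {ι : Type*} {B Q V X ZJ : Subgroup G} {L W Z C A : ι → Subgroup G} {q : ℕ}
variable {L' V' Z' : Subgroup G} {q' : ℕ}

theorem nb (h : FrL B Q V X ZJ L W Z C A q) (i : ι) : NB B (L i) (W i) (Z i) q := ⟨h.blk i, h.cardZ i⟩

theorem W_le_B (h : FrL B Q V X ZJ L W Z C A q) (i : ι) : W i ≤ B := (h.WV i).trans (h.VQ.trans h.QB)

/-- a block `L'` over `B` with `[V', B] = Z i` is natural. -/
theorem nb_of [Finite G] (h : FrL B Q V X ZJ L W Z C A q) (h' : FB B L' V' Z' q) {i : ι} (hc : ⁅V', B⁆ = Z i) :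
    Z' = Z i ∧ NB B L' V' (Z i) q := by
  have h1 : Z i ≤ Z' := by rw [← hc]; exact h'.comm_le le_rfl
  obtain ⟨k, hk, hs⟩ := h'.sup
  rw [hc] at hs
  have hcjW : cj k (Z i) ≤ V' := by
    rintro _ ⟨z, hz, rfl⟩
    exact h'.nV k hk z (h'.ZV (h1 hz))
  have hcc := card_sup_comm (A := Z i) (B := cj k (Z i)) fun a ha b hb' => h'.comm (h'.ZV (h1 ha)) (hcjW hb')
  rw [card_cj, h.cardZ i] at hcc
  have h2 : Nat.card V' ≤ q * q := by
    refine (Subgroup.card_le_of_le hs).trans ?_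
    calc Nat.card ↥(Z i ⊔ cj k (Z i) : Subgroup G) = Nat.card ↥(Z i ⊔ cj k (Z i) : Subgroup G) * 1 := (mul_one _).symm
      _ ≤ Nat.card ↥(Z i ⊔ cj k (Z i) : Subgroup G) * Nat.card ↥(Z i ⊓ cj k (Z i) : Subgroup G) :=
          Nat.mul_le_mul_left _ Nat.card_pos
      _ = q * q := hcc
  rw [h'.card] at h2
  have h3 : Nat.card Z' ≤ q := Nat.le_of_mul_le_mul_right h2 (by have := h'.one; omega)
  have h4 : Z i = Z' := Subgroup.eq_of_le_of_card_ge h1 (by rw [h.cardZ i]; exact h3)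
  refine ⟨h4.symm, ?_⟩
  rw [h4]
  exact ⟨h', by rw [← h4]; exact h.cardZ i⟩

/-- `ZJ ∩ C i = C_{ZJ}(L i)` -/
theorem mem_C_iff [Finite G] (h : FrL B Q V X ZJ L W Z C A q) {i : ι} {z : G} (hz : z ∈ ZJ) :
    z ∈ C i ↔ ∀ l ∈ L i, l * z = z * l := by
  constructor
  · exact fun hc l hl => h.LC i l hl z hz hc
  · intro hL
    obtain ⟨w, hw, c, hc, hcJ, e⟩ := h.split_ZJ i hz
    have h1 : w = 1 := by
      refine (nb h i).cent hw fun l hl => ?_
      have h2 := hL l hl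
      have h3 := h.LC i l hl c hcJ hc
      have e1 : w = z * c⁻¹ := by rw [e]; group
      have c1 : Commute l z := h2
      have c2 : Commute l c := h3
      rw [e1]
      exact (c1.mul_right c2.inv_right).eq
    rw [e, h1, one_mul]
    exact hc

/-- **UNI+ (A), first step**: a module not commuting with `W i`. -/
theorem not_comm [Finite G] (h : FrL B Q V X ZJ L W Z C A q) (h' : Md B V' Z' q') {i : ι} {w' w : G} (hw' : w' ∈ V')
    (hw : w ∈ W i) (hne : w' * w ≠ w * w') : q' = q ∧ ⁅V', B⁆ = Z i := by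
  have hb := h.blk i
  have hWB := W_le_B h i
  have hn1 : ¬ ∀ u ∈ W i, w' * u = u * w' := fun h1 => hne (h1 w hw)
  have hn2 : ¬ ∀ u ∈ V', w * u = u * w := fun h1 => hne (h1 w' hw').symm
  have hge : Z i ≤ ⁅V', B⁆ := by
    intro z hz
    obtain ⟨v, hv, e⟩ := exists_eq_comm hb.toMd (h.cardZ i) (h'.VB hw') hn1 hz
    rw [e]
    exact commutator_mem_commutator hw' (hWB hv)
  have hle1 : q' ≤ q := by
    obtain ⟨R, -, h2, -, h4⟩ := exists_comm_range h' (hWB hw) hn2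
    rw [← h4, ← h.cardZ i]
    refine Subgroup.card_le_of_le fun r hr => ?_
    obtain ⟨v, hv, rfl⟩ := h2 r hr
    have h5 := hb.com v (h'.VB hv) w hw
    have e : w * v * w⁻¹ * v⁻¹ = (v * w * v⁻¹ * w⁻¹)⁻¹ := by group
    rw [e]
    exact inv_mem h5
  have hcZ : W i ⊓ centralizer (V' : Set G) ≤ Z i := by
    rintro u ⟨hu, huc⟩
    exact hb.mem_Z (h'.VB hw') hn1 hu (mem_centralizer_iff.1 huc w' hw')
  have hcc := Subgroup.card_le_of_le hcZ
  rw [h.cardZ i] at hcc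
  have hWc : Nat.card (W i) = q * q := by rw [hb.card, h.cardZ i]
  have hq0 : 0 < q := by have := hb.one; omega
  have hle2 : q ≤ q' := by
    have h1 := h'.card_le hWB
    rw [hWc] at h1
    exact Nat.le_of_mul_le_mul_right (h1.trans (Nat.mul_le_mul_left _ hcc)) hq0
  have hq : q' = q := le_antisymm hle1 hle2
  refine ⟨hq, le_antisymm ?_ hge⟩
  have h1 := h'.comm_eq hWB (by
    rw [hWc, hq]
    exact Nat.mul_le_mul_left _ hcc)
  rw [← h1, Subgroup.commutator_le]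
  intro v hv u hu
  exact hb.com v (h'.VB hv) u hu

/-- An element permuting the `Z j` with `[ZJ, g] ≤ Z i` centralises `ZJ ∩ C i`. -/
theorem perm_comm [Finite ι] (h : FrL B Q V X ZJ L W Z C A q) {i : ι} {g : G}
    (hp : ∀ j, ∃ k, cj g (Z j) = Z k) (hg : ∀ z ∈ ZJ, g * z * g⁻¹ * z⁻¹ ∈ Z i) :
    ∀ c ∈ ZJ, c ∈ C i → g * c = c * g := by
  classical
  have := Fintype.ofFinite ι
  have hZW : ∀ j, Z j ≤ W j := fun j => (h.blk j).ZV
  have hZC : ∀ {j k : ι}, k ≠ j → Z j ≤ C k := fun hjk => (hZW _).trans (h.WjC _ _ hjk)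
  have hdis : ∀ (j : ι) {x : G}, x ∈ Z j → x ∈ C j → x = 1 := fun j x h1 h2 => by
    have h3 : x ∈ W j ⊓ C j := mem_inf.2 ⟨hZW j h1, h2⟩
    rwa [h.dir j, mem_bot] at h3
  -- `g` commutes with `Z j`, `j ≠ i`
  have hZj : ∀ j, j ≠ i → ∀ z ∈ Z j, g * z = z * g := by
    intro j hj z hz
    obtain ⟨k, hk⟩ := hp j
    have h1 : g * z * g⁻¹ ∈ Z k := by rw [← hk]; exact ⟨z, hz, rfl⟩
    have h2 := hg z (h.Z_le j hz)
    by_cases hkj : k = j
    · subst hkj
      have h3 : g * z * g⁻¹ * z⁻¹ ∈ Z k := mul_mem h1 (inv_mem hz)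
      have h4 := hdis i h2 (hZC hj.symm h3)
      exact mul_inv_eq_iff_eq_mul.1 (mul_inv_eq_one.1 h4)
    · -- `z ∈ Z k * Z i` is in `C j`
      have h3 : z ∈ C j := by
        have e : z = (g * z * g⁻¹ * z⁻¹)⁻¹ * (g * z * g⁻¹) := by group
        rw [e]
        exact mul_mem (inv_mem (hZC hj h2)) (hZC (Ne.symm hkj) h1)
      have h4 : z = 1 := hdis j hz h3
      rw [h4]; simp
  intro c hcJ hc
  have key : ∀ s : Finset ι, i ∉ s → ∃ u ∈ ZJ, u ∈ C i ∧ g * u = u * g ∧ ∀ j ∈ s, u⁻¹ * c ∈ C j := by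
    intro s
    induction s using Finset.induction_on with
    | empty => exact fun _ => ⟨1, one_mem _, one_mem _, by simp, by simp⟩
    | insert j s hj ih =>
      intro his
      have hji : j ≠ i := fun e => his (e ▸ Finset.mem_insert_self _ _)
      obtain ⟨u, hu, hui, hgu, hus⟩ := ih fun h => his (Finset.mem_insert_of_mem h)
      obtain ⟨w, hw, d, hd, hdJ, e⟩ := h.split_ZJ j (mul_mem (inv_mem hu) hcJ)
      have e1 : (u * w)⁻¹ * c = d := by
        calc (u * w)⁻¹ * c = w⁻¹ * (u⁻¹ * c) := by group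
          _ = w⁻¹ * (w * d) := by rw [e]
          _ = d := by group
      have c1 : Commute g u := hgu
      have c2 : Commute g w := hZj j hji w hw
      refine ⟨u * w, mul_mem hu (h.Z_le j hw), mul_mem hui (hZC hji.symm hw), (c1.mul_right c2).eq, fun k hk => ?_⟩
      rcases Finset.mem_insert.1 hk with rfl | hk
      · rw [e1]; exact hd
      · have hkj : k ≠ j := fun e => hj (e ▸ hk)
        have e2 : (u * w)⁻¹ * c = w⁻¹ * (u⁻¹ * c) := by group
        rw [e2]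
        exact mul_mem (inv_mem (hZC hkj hw)) (hus k hk)
  obtain ⟨u, hu, hui, hgu, hus⟩ := key (Finset.univ.erase i) (Finset.notMem_erase _ _)
  have h1 : u⁻¹ * c = 1 := by
    refine h.C0 _ (mul_mem (inv_mem (h.ZJV hu)) (h.ZJV hcJ)) fun j => ?_
    by_cases hj : j = i
    · rw [hj]; exact mul_mem (inv_mem hui) hc
    · exact hus j (Finset.mem_erase.2 ⟨hj, Finset.mem_univ _⟩)
  rw [← inv_mul_eq_one.1 h1]
  exact hgu

/-- For `q > 2`: `ZJ ∩ C i ≤ C(L')` for every natural block with `Z' = Z i`. -/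
theorem C_le_of_two_lt [Finite G] [Finite ι] (h : FrL B Q V X ZJ L W Z C A q) (hB : IsPGroup 2 B) {i : ι}
    (h' : NB B L' V' (Z i) q) (hq : 2 < q)
    (hp : ∀ g ∈ normalizer (B : Set G), ∀ j, ∃ k, cj g (Z j) = Z k) {c : G} (hcJ : c ∈ ZJ) (hc : c ∈ C i) :
    ∀ l ∈ L', l * c = c * l := by
  have hz : ∀ z ∈ ZJ, ∃ a ∈ Z i, ∃ d, (∀ l ∈ L', l * d = d * l) ∧ z = a * d := by
    intro z hz
    rw [← h.zcB] at hz
    obtain ⟨a, ha, d, -, hd, e⟩ := exists_fix h'.toFB hB hz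
    exact ⟨a, ha, d, hd, e⟩
  obtain ⟨a, ha, d, hd, e⟩ := hz c hcJ
  by_cases ha1 : a = 1
  · rw [e, ha1, one_mul]; exact hd
  exfalso
  -- another element
  obtain ⟨a', ha', ha1', hne⟩ : ∃ a' ∈ Z i, a' ≠ 1 ∧ a' ≠ a := by
    by_contra hcon
    push Not at hcon
    have h1 : (Z i : Set G) ⊆ {1, a} := by
      intro x hx
      by_cases hx1 : x = 1
      · exact Or.inl hx1
      · exact Or.inr (hcon x hx hx1)
    have h2 := Set.ncard_le_ncard h1 (Set.toFinite _)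
    have h3 : (Z i : Set G).ncard = Nat.card (Z i) := rfl
    rw [h3, h.cardZ i] at h2
    have h4 := Set.ncard_insert_le (1 : G) {a}
    rw [Set.ncard_singleton] at h4
    omega
  obtain ⟨x, hx, hxB, e2⟩ := h'.tor' ha ha1 ha' ha1'
  have h1 := perm_comm h (g := x) (hp x hxB) (fun z hz0 => by
    obtain ⟨a₁, ha₁, d₁, hd₁, rfl⟩ := hz z hz0
    have e3 : x * d₁ * x⁻¹ = d₁ := by rw [hd₁ x hx]; group
    have e4 : x * (a₁ * d₁) * x⁻¹ * (a₁ * d₁)⁻¹ = (x * a₁ * x⁻¹) * (x * d₁ * x⁻¹) * d₁⁻¹ * a₁⁻¹ := by group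
    rw [e4, e3]
    have e5 : x * a₁ * x⁻¹ * d₁ * d₁⁻¹ * a₁⁻¹ = (x * a₁ * x⁻¹) * a₁⁻¹ := by group
    rw [e5]
    exact mul_mem (h'.nZ hx hxB ha₁) (inv_mem ha₁)) c hcJ hc
  apply hne
  have h2 : x * c * x⁻¹ = c := by rw [h1]; group
  have h3 : x * d * x⁻¹ = d := by rw [hd x hx]; group
  have h4 : a' * d = a * d := by
    calc a' * d = (x * a * x⁻¹) * (x * d * x⁻¹) := by rw [e2, h3]
      _ = x * (a * d) * x⁻¹ := by group
      _ = x * c * x⁻¹ := by rw [← e]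
      _ = a * d := by rw [h2, ← e]
  exact mul_right_cancel h4

/-- the converse inclusion -/
theorem mem_C_of [Finite G] (h : FrL B Q V X ZJ L W Z C A q) {i : ι} (h' : NB B L' V' (Z i) q)
    (hle : ∀ c ∈ ZJ, c ∈ C i → ∀ l ∈ L', l * c = c * l) {z : G} (hz : z ∈ ZJ) (hzL : ∀ l ∈ L', l * z = z * l) :
    z ∈ C i := by
  obtain ⟨w, hw, c, hc, hcJ, e⟩ := h.split_ZJ i hz
  have h1 : w = 1 := by
    refine h'.cent hw fun l hl => ?_
    have e1 : w = z * c⁻¹ := by rw [e]; group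
    have c1 : Commute l z := hzL l hl
    have c2 : Commute l c := hle c hcJ hc l hl
    rw [e1]
    exact (c1.mul_right c2.inv_right).eq
  rw [e, h1, one_mul]
  exact hc

/-- `|ZJ| = q |ZJ ∩ C i|` -/
theorem card_ZJ [Finite G] (h : FrL B Q V X ZJ L W Z C A q) (i : ι) :
    Nat.card ZJ = q * Nat.card ↥(ZJ ⊓ C i : Subgroup G) := by
  have h1 : ZJ = Z i ⊔ (ZJ ⊓ C i) := by
    apply le_antisymm
    · intro z hz
      obtain ⟨w, hw, c, hc, hcJ, rfl⟩ := h.split_ZJ i hz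
      exact mul_mem (mem_sup_left hw) (mem_sup_right ⟨hcJ, hc⟩)
    · exact sup_le (h.Z_le i) inf_le_left
  have h2 := card_sup_comm (A := Z i) (B := ZJ ⊓ C i) fun a ha b hb => h.Vc (h.ZV i ha) (h.CV i hb.2)
  have h3 : Z i ⊓ (ZJ ⊓ C i) = ⊥ := by
    rw [eq_bot_iff]
    rintro x ⟨hx, -, hx'⟩
    have h4 : x ∈ W i ⊓ C i := mem_inf.2 ⟨(h.blk i).ZV hx, hx'⟩
    rwa [h.dir i] at h4
  rw [← h1, h3, Subgroup.card_bot, mul_one, h.cardZ i] at h2
  exact h2

/-- **UNI+ (A)**: `[V', W i] ≠ 1`, no nontrivial element of `ZJ` is centralised by `L i` and `L'`. Then `q = 2` and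
`|ZJ| = 4` (or there is only one block). -/
theorem caseA [Finite G] [Finite ι] (h : FrL B Q V X ZJ L W Z C A q) (hB : IsPGroup 2 B) {i : ι}
    (h' : NB B L' V' (Z i) q) (hp : ∀ g ∈ normalizer (B : Set G), ∀ j, ∃ k, cj g (Z j) = Z k)
    (hK : ∀ x ∈ ZJ, x ∈ C i → (∀ l ∈ L', l * x = x * l) → x = 1) {j : ι} (hj : j ≠ i) :
    q = 2 ∧ Nat.card ZJ = 4 ∧ ∃ c ∈ ZJ, c ≠ 1 ∧ (∀ l ∈ L', l * c = c * l) ∧ ∀ k, c ∉ C k := by
  have hq2 : q = 2 := by
    by_contra hq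
    have hq' : 2 < q := by have := h'.one; omega
    have h1 : Z j ≤ ⊥ := by
      intro z hz
      have hzC : z ∈ C i := h.WjC i j hj.symm ((h.blk j).ZV hz)
      exact mem_bot.2 (hK z (h.Z_le j hz) hzC (C_le_of_two_lt h hB h' hq' hp (h.Z_le j hz) hzC))
    have h2 := Subgroup.card_le_of_le h1
    rw [Subgroup.card_bot, h.cardZ j] at h2
    omega
  have hz : ∀ z ∈ ZJ, ∃ a ∈ Z i, ∃ d ∈ ZJ, (∀ l ∈ L', l * d = d * l) ∧ z = a * d := by
    intro z hz
    rw [← h.zcB] at hz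
    obtain ⟨a, ha, d, hd0, hd, e⟩ := exists_fix h'.toFB hB hz
    rw [h.zcB] at hd0
    exact ⟨a, ha, d, hd0, hd, e⟩
  -- `|ZJ ∩ C i| ≤ 2`
  have hc2 : Nat.card ↥(ZJ ⊓ C i : Subgroup G) ≤ 2 := by
    have hex : ∀ c : ↥(ZJ ⊓ C i : Subgroup G), ∃ a : Z i, ∀ l ∈ L', l * ((a : G)⁻¹ * c) = (a : G)⁻¹ * c * l := by
      intro c
      obtain ⟨a, ha, d, -, hd, e⟩ := hz c c.2.1
      refine ⟨⟨a, ha⟩, ?_⟩
      have e1 : (a : G)⁻¹ * c = d := by rw [e]; group
      show ∀ l ∈ L', l * (a⁻¹ * (c : G)) = a⁻¹ * c * l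
      rw [e1]
      exact hd
    choose f hf using hex
    have hinj : Function.Injective f := by
      intro c d hcd
      apply Subtype.ext
      have h1 := hf c
      have h2 := hf d
      rw [hcd] at h1
      have h3 : (c : G)⁻¹ * d = 1 := by
        refine hK _ (mul_mem (inv_mem c.2.1) d.2.1) (mul_mem (inv_mem c.2.2) d.2.2) fun l hl => ?_
        have c1 : Commute l ((f d : G)⁻¹ * c) := h1 l hl
        have c2 : Commute l ((f d : G)⁻¹ * d) := h2 l hl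
        have e : (c : G)⁻¹ * d = ((f d : G)⁻¹ * c)⁻¹ * ((f d : G)⁻¹ * d) := by group
        rw [e]
        exact (c1.inv_right.mul_right c2).eq
      exact inv_mul_eq_one.1 h3
    have h1 := Nat.card_le_card_of_injective f hinj
    rw [h.cardZ i] at h1
    omega
  have hcZJ := card_ZJ h i
  have hZjle : Z j ≤ ZJ ⊓ C i := le_inf (h.Z_le j) ((h.blk j).ZV.trans (h.WjC i j hj.symm))
  have h4 : Nat.card ZJ = 4 := by
    have h1 := Subgroup.card_le_of_le hZjle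
    rw [h.cardZ j] at h1
    have h2 : Nat.card ↥(ZJ ⊓ C i : Subgroup G) = 2 := by omega
    rw [hcZJ, h2, hq2]
  refine ⟨hq2, h4, ?_⟩
  -- an element of `ZJ ∩ C i` not centralised by `L'`
  obtain ⟨z, hzj, hz1⟩ : ∃ z ∈ Z j, z ≠ 1 := by
    by_contra hcon
    push Not at hcon
    have h1 : Z j ≤ ⊥ := fun z hz => mem_bot.2 (hcon z hz)
    have h2 := Subgroup.card_le_of_le h1
    rw [Subgroup.card_bot, h.cardZ j] at h2
    omega
  obtain ⟨a, ha, c, hcJ, hcL, e⟩ := hz z (h.Z_le j hzj)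
  have hzCi : z ∈ C i := (hZjle hzj).2
  have hc1 : c ≠ 1 := by
    rintro rfl
    rw [mul_one] at e
    subst e
    have h5 : z ∈ W i ⊓ C i := mem_inf.2 ⟨(h.blk i).ZV ha, hzCi⟩
    rw [h.dir i, mem_bot] at h5
    exact hz1 h5
  refine ⟨c, hcJ, hc1, hcL, fun k hk => ?_⟩
  by_cases hki : k = i
  · subst hki
    exact hc1 (hK c hcJ hk hcL)
  · -- `ZJ ∩ C k = Z i`
    have h5 := card_ZJ h k
    rw [h4, hq2] at h5
    have h6 : Nat.card ↥(ZJ ⊓ C k : Subgroup G) = 2 := by omega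
    have h7 : Z i = ZJ ⊓ C k := by
      refine Subgroup.eq_of_le_of_card_ge (le_inf (h.Z_le i) ((h.blk i).ZV.trans (h.WjC k i hki))) ?_
      rw [h6, h.cardZ i, hq2]
    have h8 : c ∈ Z i := by rw [h7]; exact ⟨hcJ, hk⟩
    exact hc1 (h'.cent h8 hcL)

/-- **UNI+ at a level**, `V' ≤ X`. -/
theorem uniPlusX [Finite G] [Finite ι] (h : FrL B Q V X ZJ L W Z C A q) (hB : IsPGroup 2 B) (hWC : WC B)
    (hp : ∀ g ∈ normalizer (B : Set G), ∀ j, ∃ k, cj g (Z j) = Z k) (h' : FB B L' V' Z' q') (hX : V' ≤ X) :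
    q' = q ∧ ∃ i, Z' = Z i ∧ NB B L' V' (Z i) q ∧ V' ≤ W i ⊔ ZJ ∧
      (∀ z ∈ ZJ, z ∈ C i ↔ ∀ l ∈ L', l * z = z * l) ∧
        (q = 2 → V' = W i ∧ L' ≤ L i ⊔ centralizer ((W i ⊔ ZJ : Subgroup G) : Set G)) := by
  obtain ⟨hq, i, hc, hle⟩ := h.uni h'.toMd hX
  subst hq
  obtain ⟨hZ, hN⟩ := nb_of h h' hc
  refine ⟨rfl, i, hZ, hN, ?_⟩
  have hle' : V' ≤ W i ⊔ zc B := by rw [h.zcB]; exact hle
  by_cases hq2 : q' = 2
  · subst hq2
    obtain ⟨h1, h2, h3⟩ := uni_two hWC hB (nb h i) hN hle'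
    have h4 : ∀ c ∈ ZJ, c ∈ C i → ∀ l ∈ L', l * c = c * l := fun c hc hcC =>
      h2 c (by rw [h.zcB]; exact hc) ((mem_C_iff h hc).1 hcC)
    rw [h.zcB] at h3
    exact ⟨hle, fun z hz => ⟨h4 z hz, mem_C_of h hN h4 hz⟩, fun _ => ⟨h1, h3⟩⟩
  · have hq' : 2 < q' := by have := h'.one; omega
    have h4 : ∀ c ∈ ZJ, c ∈ C i → ∀ l ∈ L', l * c = c * l := fun c hc hcC =>
      C_le_of_two_lt h hB hN hq' hp hc hcC
    exact ⟨hle, fun z hz => ⟨h4 z hz, mem_C_of h hN h4 hz⟩, fun h => absurd h hq2⟩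

/-- **UNI+ at a level**, `V' ≤ X` if `[V', V] = 1`. -/
theorem uniPlus [Finite G] [Finite ι] (h : FrL B Q V X ZJ L W Z C A q) (hB : IsPGroup 2 B) (hWC : WC B)
    (hp : ∀ g ∈ normalizer (B : Set G), ∀ j, ∃ k, cj g (Z j) = Z k) (hn : ∀ i : ι, ∃ j, j ≠ i)
    (h' : FB B L' V' Z' q') (hX : (∀ w ∈ V', ∀ v ∈ V, w * v = v * w) → V' ≤ X)
    (hK : ∀ i, NB B L' V' (Z i) q → (∃ w' ∈ V', ∃ w ∈ W i, w' * w ≠ w * w') → ∀ x ∈ ZJ, x ∈ C i →
      (∀ l ∈ L', l * x = x * l) → x = 1) :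
    q' = q ∧ ∃ i, Z' = Z i ∧ NB B L' V' (Z i) q ∧
      ((V' ≤ W i ⊔ ZJ ∧ (∀ z ∈ ZJ, z ∈ C i ↔ ∀ l ∈ L', l * z = z * l) ∧
          (q = 2 → V' = W i ∧ L' ≤ L i ⊔ centralizer ((W i ⊔ ZJ : Subgroup G) : Set G))) ∨
        (q = 2 ∧ Nat.card ZJ = 4 ∧ (∃ w' ∈ V', ∃ w ∈ W i, w' * w ≠ w * w') ∧
          ∃ c ∈ ZJ, c ≠ 1 ∧ (∀ l ∈ L', l * c = c * l) ∧ ∀ k, c ∉ C k)) := by
  by_cases hA : ∃ i, ∃ w' ∈ V', ∃ w ∈ W i, w' * w ≠ w * w'
  · obtain ⟨i, w', hw', w, hw, hne⟩ := hA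
    obtain ⟨hq, hc⟩ := not_comm h h'.toMd hw' hw hne
    subst hq
    obtain ⟨hZ, hN⟩ := nb_of h h' hc
    obtain ⟨j, hj⟩ := hn i
    obtain ⟨h1, h2, h3⟩ := caseA h hB hN hp (hK i hN ⟨w', hw', w, hw, hne⟩) hj
    exact ⟨rfl, i, hZ, hN, Or.inr ⟨h1, h2, ⟨w', hw', w, hw, hne⟩, h3⟩⟩
  · push Not at hA
    have hcV : ∀ w ∈ V', ∀ v ∈ V, w * v = v * w := by
      intro w hw v hv
      rw [h.V_eq] at hv
      have h1 : (⨆ i, W i) ≤ centralizer ({w} : Set G) := iSup_le fun i u hu =>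
        mem_centralizer_singleton_iff.2 (hA i w hw u hu).symm
      exact (mem_centralizer_singleton_iff.1 (h1 hv)).symm
    obtain ⟨hq, i, hZ, hN, h1, h2, h3⟩ := uniPlusX h hB hWC hp h' (hX hcV)
    exact ⟨hq, i, hZ, hN, Or.inl ⟨h1, h2, h3⟩⟩

end frame

/-- **UNI+ at a level** in a group of characteristic 2 type. -/
theorem uniPlus' {G : Type u} [Group G] [Finite G] {ι : Type*} [Finite ι] {B Q V X ZJ : Subgroup G}
    {L W Z C A : ι → Subgroup G} {q : ℕ} {L' V' Z' : Subgroup G} {q' : ℕ} (hG : IsCharacteristicTwoType G)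
    (h : FrL B Q V X ZJ L W Z C A q) (hB : IsPGroup 2 B) (hWC : WC B)
    (hBX : normalizer (B : Set G) ≤ normalizer (X : Set G)) (hn : ∀ i : ι, ∃ j, j ≠ i)
    (h' : FB B L' V' Z' q') (hX : (∀ w ∈ V', ∀ v ∈ V, w * v = v * w) → V' ≤ X) :
    q' = q ∧ ∃ i, Z' = Z i ∧ NB B L' V' (Z i) q ∧
      ((V' ≤ W i ⊔ ZJ ∧ (∀ z ∈ ZJ, z ∈ C i ↔ ∀ l ∈ L', l * z = z * l) ∧
          (q = 2 → V' = W i ∧ L' ≤ L i ⊔ centralizer ((W i ⊔ ZJ : Subgroup G) : Set G))) ∨
        (q = 2 ∧ Nat.card ZJ = 4 ∧ (∃ w' ∈ V', ∃ w ∈ W i, w' * w ≠ w * w') ∧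
          ∃ c ∈ ZJ, c ≠ 1 ∧ (∀ l ∈ L', l * c = c * l) ∧ ∀ k, c ∉ C k)) := by
  refine uniPlus h hB hWC (fun g hg j => ?_) hn h' hX fun i hN hne x hx hxC hxL => ?_
  · obtain ⟨k, hk, -⟩ := (h.norm_of hg (hBX hg)).2 j
    exact ⟨k, hk⟩
  · by_contra hx1
    obtain ⟨w', hw', w, hw, hne⟩ := hne
    exact hne (NB.commute_of_fix hG hWC hB hN (nb h i) (elem_sq h.el x (h.ZJV hx)) hx1 hxL
      ((mem_C_iff h hx).1 hxC) w' hw' w hw)

/-! ### (2') -/

section mtl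

variable {ι : Type*} {B Q V X ZJ : Subgroup G} {L W Z C A : ι → Subgroup G} {q : ℕ}

/-- **(2')**: no noncommuting pair `W i`, `(W j)^g` with `W i ≤ B^g`, `(W j)^g ≤ B`. -/
theorem two' [Finite G] (h : FrL B Q V X ZJ L W Z C A q) [Nonempty ι]
    (hW : ∀ i, V ≤ o2 (normalizer (Z i : Set G)) ∧ o2 (normalizer (Z i : Set G)) ≤ B)
    (hno : ∀ g : G, cj g V ≤ normalizer (V : Set G) → V ≤ normalizer ((cj g V : Subgroup G) : Set G) →
      ∀ w ∈ cj g V, ∀ v ∈ V, w * v = v * w)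
    {g : G} {i j : ι} (h1 : cj g (W j) ≤ B) (h2 : W i ≤ cj g B) :
    ∀ w' ∈ cj g (W j), ∀ w ∈ W i, w' * w = w * w' := by
  by_contra hcon
  push Not at hcon
  obtain ⟨w', hw', w, hw, hne⟩ := hcon
  have hBV : B ≤ normalizer (V : Set G) := by
    obtain ⟨i⟩ := ‹Nonempty ι›
    intro b hb
    have h3 := h.LV i b ((h.blk i).BL hb)
    have h4 := h.LV i b⁻¹ ((h.blk i).BL (inv_mem hb))
    rw [mem_normalizer_iff]
    intro v
    refine ⟨h3 v, fun hv => ?_⟩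
    have h5 := h4 _ hv
    have e : b⁻¹ * (b * v * b⁻¹) * b⁻¹⁻¹ = v := by group
    rwa [e] at h5
  -- `Z i ≤ (Z j)^g`
  have hZ : Z i = cj g (Z j) := by
    refine Subgroup.eq_of_le_of_card_ge ?_ (by rw [card_cj, h.cardZ, h.cardZ])
    intro z hz
    obtain ⟨v, hv, e⟩ := exists_eq_comm (h.blk i).toMd (h.cardZ i) (h1 hw') (fun h3 => hne (h3 w hw)) hz
    have h3 := ((h.blk j).toMd.conj g).com v (h2 hv) w' hw'
    rw [e]
    have e2 : w' * v * w'⁻¹ * v⁻¹ = (v * w' * v⁻¹ * w'⁻¹)⁻¹ := by group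
    rw [e2]
    exact inv_mem h3
  have ho : cj g (o2 (normalizer (Z j : Set G))) = o2 (normalizer (Z i : Set G)) := by
    rw [← pCore_cj, cj_normalizer, ← hZ]
  have h3 : cj g V ≤ B := by
    refine le_trans (cj_mono g (hW j).1) ?_
    rw [ho]
    exact (hW i).2
  have h4 : V ≤ cj g B := by
    refine (hW i).1.trans ?_
    rw [← ho]
    exact cj_mono g (hW j).2
  have h5 := hno g (h3.trans hBV) (by
    refine h4.trans ?_
    have := cj_mono g hBV
    rwa [cj_normalizer] at this) w' (cj_mono g (h.WV j) hw') w (h.WV i hw)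
  exact hne h5

end mtl

end Cfsg.Agent.Omega.OM.Lev.UniPlus

end

section


/-!
# From the FF theorem (even-subset modules) to the `q = 2` Baumann input at levels

`SQ1/FFSymT.lean` with a `T`-invariant group `J` in place of `J(T)` and a family `AA` of offenders in place of `A(T)`:

* `SyL T H Q V J D AA o e` : the module data with `T`; `AA` a family of subgroups of `J` generated by transpositions,
  `J ≤ ⟨AA⟩ Q`;
* `Tr j x y` : the transposition `(x y)` of the component `j` is induced by `J`;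
* `Ch.main`, `Ch.permR` : `SIn.In0` and `PermR`.
-/

set_option autoImplicit false
set_option linter.unusedSectionVars false
set_option linter.unusedVariables false

namespace Cfsg.Agent.Omega.OM.Lev.SymIn

open Subgroup Cfsg Cfsg.Agent.PLocal.ThompsonJ Cfsg.Agent.ZN Cfsg.Agent.ZN.ChoiceBase
open Cfsg.Agent.Omega.FFThm (ActsSym SymK NoOver Off)
open Cfsg.Agent.Omega.SQ1 Cfsg.Agent.Omega.SQ1.FFSym
open Cfsg.Agent.Omega.SQ1.BauS (Sim)

universe v

variable {G : Type v} [Group G]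

/-- The module data with `T`, a `T`-invariant group `Jg` and a family `AA` of offenders. -/
structure SyL (T H Q V Jg D : Subgroup G) (AA : Set (Subgroup G)) {k n : ℕ} (o : Fin n)
    (e : G → Fin k → Fin n → ZMod 2) : Prop extends Sy H V D e where
  TH : T ≤ H
  Tp : IsPGroup 2 T
  QT : Q ≤ T
  VQ : V ≤ Q
  Qn : ∀ h ∈ H, ∀ x ∈ Q, h * x * h⁻¹ ∈ Q
  VcQ : ∀ x ∈ Q, ∀ v ∈ V, x * v = v * x
  cT : ∀ x ∈ T, (∀ v ∈ V, x * v = v * x) → x ∈ Q
  syl : ∀ x ∈ H, (∃ N : ℕ, x ^ 2 ^ N = 1) → ∃ g ∈ H, g * x * g⁻¹ ∈ T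
  trans : ∀ i j, ∃ t ∈ T, ∃ σ τ, ActsSym e V t σ τ ∧ σ i = j
  fix0 : ∀ t ∈ T, ∀ σ τ, ActsSym e V t σ τ → ∀ i, τ i o = o
  gen : ∀ K : Subgroup G, T ≤ K → (∀ g τ, Gd H V D e τ g → g ∈ K) → H ≤ K
  JT : Jg ≤ T
  Jn : ∀ x ∈ T, ∀ y ∈ Jg, x * y * x⁻¹ ∈ Jg
  AJ : ∀ A ∈ AA, A ≤ Jg
  Jle : Jg ≤ sSup AA ⊔ Q
  offD : ∀ A ∈ AA, ∀ a ∈ A, ∃ τ, Gd H V D e τ a ∧ ∀ i x, τ i x ≠ x → τ i (τ i x) = x ∧
    ∃ b ∈ A, Gd H V D e (Pi.mulSingle i (Equiv.swap x (τ i x))) b
  nJ : ∃ A ∈ AA, ∃ a ∈ A, ∃ v ∈ V, a * v ≠ v * a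
  cycle : ∃ p : Equiv.Perm (Fin n), ∃ M : ℕ, p ^ 2 ^ M = 1 ∧ (∀ x, p x = x → x = o) ∧
    ∀ x y, x ≠ o → y ≠ o → ∃ i : ℕ, (p ^ i) x = y
  prop : ∀ X : Subgroup G, T ≤ X → X ≤ H → H ≤ X ⊔ (H ⊓ centralizer (V : Set G)) → H ≤ X

namespace SyL

variable {T H Q V Jg D : Subgroup G} {AA : Set (Subgroup G)} {k n : ℕ} {o : Fin n} {e : G → Fin k → Fin n → ZMod 2}

/-- the action on the components and points -/
theorem exists_act (h : SyL T H Q V Jg D AA o e) {x : G} (hx : x ∈ T) :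
    ∃ σ τ, ActsSym e V x σ τ ∧ ∀ i, τ i o = o := by
  obtain ⟨σ, τ, hx'⟩ := h.perm x (h.TH hx)
  exact ⟨σ, τ, hx', h.fix0 x hx σ τ hx'⟩

/-- `T` is transitive on the points different from `o` of every component. -/
theorem cyc_T (h : SyL T H Q V Jg D AA o e) [Finite G]
    (hpow : ∀ (g : G) (m : ℕ), ∃ c : ℕ, c % 2 ^ m = 1 % 2 ^ m ∧ ∃ N : ℕ, (g ^ c) ^ (2 ^ N) = 1)
    (j : Fin k) {x y : Fin n} (hx : x ≠ o) (hy : y ≠ o) :
    ∃ t ∈ T, ∃ π, Gd H V D e (Pi.mulSingle j π) t ∧ π x = y := by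
  obtain ⟨p, M, hpM, hp0, hpt⟩ := h.cycle
  obtain ⟨g, hg⟩ := h.exists_gd (Pi.mulSingle j p)
  obtain ⟨c, hc, N, hN⟩ := hpow g M
  have hpc : p ^ c = p := by
    have h1 : p ^ (c % 2 ^ M) = p ^ (1 % 2 ^ M) := by rw [hc]
    rw [← pow_mod_orderOf, ← Nat.mod_mod_of_dvd c (orderOf_dvd_of_pow_eq_one hpM), hc,
      Nat.mod_mod_of_dvd 1 (orderOf_dvd_of_pow_eq_one hpM), pow_mod_orderOf, pow_one]
  have h1 : Gd H V D e (Pi.mulSingle j p) (g ^ c) := by
    have := h.gd_pow hg c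
    rw [← Pi.mulSingle_pow, hpc] at this
    exact this
  obtain ⟨s, hs, hsT⟩ := h.syl _ h1.mem ⟨N, hN⟩
  obtain ⟨σ, τ, hsa⟩ := h.perm s hs
  have h2 := h.gd_conj_single hs hsa h1
  have h3 := h.fix0 _ hsT _ _ h2.act (σ j)
  rw [Pi.mulSingle_eq_same] at h3
  have h4 : (τ j)⁻¹ o = o := by
    apply hp0
    apply (τ j).injective
    rw [perm_inv_self]
    exact h3
  obtain ⟨t, ht, σ', τ', hta, hσ⟩ := h.trans (σ j) j
  have h5 := h.gd_conj_single (h.TH ht) hta h2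
  have h6 := h.fix0 _ ht _ _ hta (σ j)
  rw [hσ] at h5
  set ρ := τ' (σ j) * τ j with hρ
  have hρ0 : ρ⁻¹ o = o := by
    rw [Equiv.Perm.inv_eq_iff_eq, hρ, Equiv.Perm.mul_apply]
    have : τ j o = o := by
      conv_lhs => rw [← h4]
      exact perm_inv_self _ _
    rw [this, h6]
  have h7 : τ' (σ j) * (τ j * p * (τ j)⁻¹) * (τ' (σ j))⁻¹ = ρ * p * ρ⁻¹ := by rw [hρ]; group
  rw [h7] at h5
  have hx' : ρ⁻¹ x ≠ o := fun e => hx (ρ⁻¹.injective (by rw [e, hρ0]))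
  have hy' : ρ⁻¹ y ≠ o := fun e => hy (ρ⁻¹.injective (by rw [e, hρ0]))
  obtain ⟨i, hi⟩ := hpt _ _ hx' hy'
  refine ⟨(t * (s * g ^ c * s⁻¹) * t⁻¹) ^ i,
    pow_mem (mul_mem (mul_mem ht hsT) (inv_mem ht)) i, (ρ * p * ρ⁻¹) ^ i, ?_, ?_⟩
  · have := h.gd_pow h5 i
    rwa [← Pi.mulSingle_pow] at this
  · rw [conj_pow, Equiv.Perm.mul_apply, Equiv.Perm.mul_apply, hi, perm_inv_self]

/-! ### Transpositions induced by `J(T)` -/

/-- the transposition `(x y)` of the component `j` is induced by `J(T)` -/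
def Tr (Jg H V D : Subgroup G) (e : G → Fin k → Fin n → ZMod 2) (j : Fin k) (x y : Fin n) : Prop :=
  x ≠ y ∧ ∃ t ∈ Jg, Gd H V D e (Pi.mulSingle j (Equiv.swap x y)) t

theorem Tr.symm {j : Fin k} {x y : Fin n} (h1 : Tr Jg H V D e j x y) : Tr Jg H V D e j y x := by
  obtain ⟨h2, t, ht, h3⟩ := h1
  exact ⟨h2.symm, t, ht, by rwa [Equiv.swap_comm]⟩

theorem Tr.ne (h : SyL T H Q V Jg D AA o e) {j : Fin k} {x y : Fin n} (h1 : Tr Jg H V D e j x y) :
    o ≠ x ∧ o ≠ y := by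
  obtain ⟨h2, t, ht, h3⟩ := h1
  have h4 := h.fix0 t (h.JT ht) _ _ h3.act j
  rw [Pi.mulSingle_eq_same] at h4
  constructor
  · intro h5
    subst h5
    rw [Equiv.swap_apply_left] at h4
    exact h2 h4.symm
  · intro h5
    subst h5
    rw [Equiv.swap_apply_right] at h4
    exact h2 h4

theorem Tr.conj (h : SyL T H Q V Jg D AA o e) [Finite G] {j : Fin k} {x y : Fin n}
    (h1 : Tr Jg H V D e j x y) {s : G} (hs : s ∈ T) {σ : Equiv.Perm (Fin k)}
    {τ : Fin k → Equiv.Perm (Fin n)} (hsa : ActsSym e V s σ τ) :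
    Tr Jg H V D e (σ j) (τ j x) (τ j y) := by
  obtain ⟨h2, t, ht, h3⟩ := h1
  refine ⟨fun e => h2 ((τ j).injective e), s * t * s⁻¹, h.Jn s hs t ht, ?_⟩
  have h4 := h.gd_conj_single (h.TH hs) hsa h3
  rwa [← Equiv.swap_apply_apply] at h4

/-- the transpositions are disjoint -/
theorem Tr.disj (h : SyL T H Q V Jg D AA o e) {j : Fin k} {x y z : Fin n} (h1 : Tr Jg H V D e j x y)
    (h2 : Tr Jg H V D e j x z) : y = z := by
  by_contra hyz
  obtain ⟨h3, t, ht, h4⟩ := h1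
  obtain ⟨h5, s, hs, h6⟩ := h2
  have h7 := h.gd_mul h4 h6
  obtain ⟨N, hN⟩ := h.Tp ⟨t * s, mul_mem (h.JT ht) (h.JT hs)⟩
  have hN' : (t * s) ^ 2 ^ N = 1 := by simpa using congrArg Subtype.val hN
  have h8 := h.gd_pow h7 (2 ^ N)
  rw [hN'] at h8
  have h9 := h.gd_unique h8 h.gd_one
  rw [← Pi.mulSingle_mul, ← Pi.mulSingle_pow] at h9
  have h10 : (Equiv.swap x y * Equiv.swap x z) ^ 2 ^ N = 1 := by
    have := congrFun h9 j
    rwa [Pi.mulSingle_eq_same] at this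
  have h11 : Equiv.swap x y * Equiv.swap x z = cyc y x z := by
    rw [cyc, Equiv.swap_comm x y]
  rw [h11] at h10
  have h12 : cyc y x z ^ 3 = 1 := by
    have := cyc_three h3.symm hyz h5
    rw [pow_succ, pow_two]
    exact this
  have h13 : cyc y x z = 1 := by
    have h14 := Nat.Coprime.pow_left N (show Nat.Coprime 2 3 by decide)
    have h15 := pow_gcd_eq_one.2 ⟨h10, h12⟩
    rwa [h14, pow_one] at h15
  have h16 := cyc_a h3.symm hyz h5
  rw [h13, Equiv.Perm.one_apply] at h16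
  exact h3 h16.symm

theorem exists_tr (h : SyL T H Q V Jg D AA o e) : ∃ j x y, Tr Jg H V D e j x y := by
  obtain ⟨A, hA, a, ha, v, hv, hav⟩ := h.nJ
  obtain ⟨τ, hτ, hτ'⟩ := h.offD A hA a ha
  by_contra hcon
  push Not at hcon
  have h1 : τ = 1 := by
    funext i
    ext x
    by_contra hx
    have hx' : τ i x ≠ x := fun e => hx (by rw [e]; rfl)
    obtain ⟨-, b, hb, hb'⟩ := hτ' i x hx'
    exact hcon i x (τ i x) ⟨hx'.symm, b, h.AJ _ hA hb, hb'⟩
  subst h1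
  have h2 := h.gd_sim hτ h.gd_one v hv
  apply hav
  calc a * v = (a * v * a⁻¹) * a := by group
    _ = v * a := by rw [h2]; group

/-- every point different from `o` is moved by a transposition -/
theorem cover (h : SyL T H Q V Jg D AA o e) [Finite G]
    (hpow : ∀ (g : G) (m : ℕ), ∃ c : ℕ, c % 2 ^ m = 1 % 2 ^ m ∧ ∃ N : ℕ, (g ^ c) ^ (2 ^ N) = 1)
    (j : Fin k) {x : Fin n} (hx : x ≠ o) :
    ∃ y, Tr Jg H V D e j x y := by
  obtain ⟨j₀, x₀, y₀, h0⟩ := h.exists_tr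
  obtain ⟨t, ht, σ, τ, hta, hσ⟩ := h.trans j₀ j
  have h1 := h0.conj h ht hta
  rw [hσ] at h1
  obtain ⟨s, hs, π, hπ, hπx⟩ := h.cyc_T hpow j (h1.ne h).1.symm hx
  have h2 := h1.conj h hs hπ.act
  rw [Equiv.Perm.one_apply, Pi.mulSingle_eq_same, hπx] at h2
  exact ⟨_, h2⟩

/-! ### The choice of the elements -/

/-- The chosen data for the index set `ι` of the transpositions. -/
structure Ch (Jg H V D : Subgroup G) (o : Fin n) (e : G → Fin k → Fin n → ZMod 2) {ι : Type}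
    (J : ι → Fin k) (X Y : ι → Fin n) (t r : ι → G) : Prop where
  tr : ∀ i, Tr Jg H V D e (J i) (X i) (Y i)
  tJ : ∀ i, t i ∈ Jg
  tg : ∀ i, Gd H V D e (Pi.mulSingle (J i) (Equiv.swap (X i) (Y i))) (t i)
  rg : ∀ i, Gd H V D e (Pi.mulSingle (J i) (cyc o (X i) (Y i))) (r i)
  inj : ∀ i j, u H V D e (J i) (X i) (Y i) = u H V D e (J j) (X j) (Y j) → i = j
  ex : ∀ j x y, Tr Jg H V D e j x y → ∃ i, u H V D e (J i) (X i) (Y i) = u H V D e j x y

theorem exists_ch (h : SyL T H Q V Jg D AA o e) : ∃ (ι : Type) (J : ι → Fin k) (X Y : ι → Fin n)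
    (t r : ι → G), Ch Jg H V D o e J X Y t r := by
  let ι : Type := {p : Fin k × Fin n × Fin n // Tr Jg H V D e p.1 p.2.1 p.2.2 ∧ p.2.1 < p.2.2}
  choose t htJ ht using fun i : ι => i.2.1.2
  choose r hr using fun i : ι => h.exists_gd (Pi.mulSingle i.1.1 (cyc o i.1.2.1 i.1.2.2))
  refine ⟨ι, fun i => i.1.1, fun i => i.1.2.1, fun i => i.1.2.2, t, r, fun i => i.2.1, htJ, ht, hr,
    ?_, ?_⟩
  · rintro ⟨⟨j, x, y⟩, hT, hxy⟩ ⟨⟨j', x', y'⟩, hT', hxy'⟩ hij
    obtain ⟨h1, h2⟩ := h.u_inj hT.1 hij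
    simp only at h1 h2 hxy hxy'
    rcases h2 with ⟨h2, h3⟩ | ⟨h2, h3⟩
    · subst h1; subst h2; subst h3; rfl
    · exfalso
      rw [h2, h3] at hxy
      exact absurd hxy (not_lt.2 hxy'.le)
  · intro j x y hT
    rcases lt_or_gt_of_ne hT.1 with h1 | h1
    · exact ⟨⟨(j, x, y), hT, h1⟩, rfl⟩
    · exact ⟨⟨(j, y, x), hT.symm, h1⟩, h.u_symm _ _ _⟩

variable {ι : Type} {J : ι → Fin k} {X Y : ι → Fin n} {t r : ι → G}

/-- the index of a transposition -/
theorem Ch.exists_idx (h : SyL T H Q V Jg D AA o e) (c : Ch Jg H V D o e J X Y t r) {j : Fin k}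
    {x y : Fin n} (hT : Tr Jg H V D e j x y) : ∃ i, J i = j ∧ Equiv.swap (X i) (Y i) = Equiv.swap x y ∧
      u H V D e (J i) (X i) (Y i) = u H V D e j x y ∧
      ((X i = x ∧ Y i = y) ∨ (X i = y ∧ Y i = x)) := by
  obtain ⟨i, hi⟩ := c.ex j x y hT
  obtain ⟨h1, h2⟩ := h.u_inj (c.tr i).1 hi
  refine ⟨i, h1, ?_, hi, h2⟩
  rcases h2 with ⟨h2, h3⟩ | ⟨h2, h3⟩
  · rw [h2, h3]
  · rw [h2, h3, Equiv.swap_comm]

/-- Two indices: equal, or different components, or disjoint pairs. -/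
theorem Ch.cases (h : SyL T H Q V Jg D AA o e) (c : Ch Jg H V D o e J X Y t r) {i j : ι} (hij : i ≠ j)
    (hJ : J i = J j) : X i ≠ X j ∧ X i ≠ Y j ∧ Y i ≠ X j ∧ Y i ≠ Y j := by
  have hi := c.tr i
  have hj := c.tr j
  rw [hJ] at hi
  have key : ∀ {a b : Fin n}, Tr Jg H V D e (J j) a b → Tr Jg H V D e (J j) (X i) (Y i) →
      (a = X i ∧ b = Y i) ∨ (a = Y i ∧ b = X i) →
      ((a = X j ∧ b = Y j) ∨ (a = Y j ∧ b = X j)) → False := by
    intro a b _ _ h1 h2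
    apply hij
    apply c.inj
    rw [hJ]
    rcases h1 with ⟨rfl, rfl⟩ | ⟨rfl, rfl⟩ <;> rcases h2 with ⟨h2, h3⟩ | ⟨h2, h3⟩
    · rw [h2, h3]
    · rw [h2, h3, h.u_symm]
    · rw [h2, h3, h.u_symm]
    · rw [h2, h3]
  refine ⟨fun e1 => ?_, fun e1 => ?_, fun e1 => ?_, fun e1 => ?_⟩
  · have hi' := hi
    rw [e1] at hi'
    exact key hi hi (Or.inl ⟨rfl, rfl⟩) (Or.inl ⟨e1, Tr.disj h hi' hj⟩)
  · have hi' := hi
    rw [e1] at hi'
    exact key hi hi (Or.inl ⟨rfl, rfl⟩) (Or.inr ⟨e1, Tr.disj h hi' hj.symm⟩)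
  · have hi' := hi.symm
    rw [e1] at hi'
    exact key hi.symm hi (Or.inr ⟨rfl, rfl⟩) (Or.inl ⟨e1, Tr.disj h hi' hj⟩)
  · have hi' := hi.symm
    rw [e1] at hi'
    exact key hi.symm hi (Or.inr ⟨rfl, rfl⟩) (Or.inr ⟨e1, Tr.disj h hi' hj.symm⟩)

/-- **Products of transpositions.** -/
theorem Ch.mem_EE (h : SyL T H Q V Jg D AA o e) (c : Ch Jg H V D o e J X Y t r) :
    ∀ (m : ℕ) (τ : Fin k → Equiv.Perm (Fin n)) (a : G), a ∈ T → Gd H V D e τ a →
      (∀ j x, τ j x ≠ x → Tr Jg H V D e j x (τ j x)) →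
      (Finset.univ.filter fun p : Fin k × Fin n => τ p.1 p.2 ≠ p.2).card ≤ m →
      a ∈ closure (Set.range t) ⊔ Q := by
  intro m
  induction m with
  | zero =>
    intro τ a ha hτ hTr hm
    have h1 : τ = 1 := by
      funext j
      ext x
      by_contra hx
      have hx' : τ j x ≠ x := fun e => hx (by rw [e]; rfl)
      have h2 : (j, x) ∈ Finset.univ.filter fun p : Fin k × Fin n => τ p.1 p.2 ≠ p.2 := by
        simp [hx']
      have := Finset.card_pos.2 ⟨_, h2⟩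
      omega
    subst h1
    refine mem_sup_right (h.cT a ha fun v hv => ?_)
    have h2 := h.gd_sim hτ h.gd_one v hv
    calc a * v = (a * v * a⁻¹) * a := by group
      _ = v * a := by rw [h2]; group
  | succ m ih =>
    intro τ a ha hτ hTr hm
    by_cases h0 : ∀ j x, τ j x = x
    · refine ih τ a ha hτ hTr ?_
      have : (Finset.univ.filter fun p : Fin k × Fin n => τ p.1 p.2 ≠ p.2) = ∅ := by
        rw [Finset.filter_eq_empty_iff]
        rintro ⟨j, x⟩ _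
        simp [h0 j x]
      rw [this]
      simp
    · push Not at h0
      obtain ⟨j, x, hx⟩ := h0
      set y := τ j x with hy
      have hT := hTr j x hx
      rw [← hy] at hT
      obtain ⟨i, hiJ, his, -, -⟩ := c.exists_idx h hT
      have ht := c.tg i
      rw [hiJ, his] at ht
      have h1 := h.gd_mul ht hτ
      set τ' : Fin k → Equiv.Perm (Fin n) := Pi.mulSingle j (Equiv.swap x y) * τ with hτ'
      have htT : t i ∈ T := h.JT (c.tJ i)
      -- the new permutation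
      have e1 : ∀ i' z, i' ≠ j → τ' i' z = τ i' z := by
        intro i' z hi'
        rw [hτ', Pi.mul_apply, Pi.mulSingle_eq_of_ne hi', one_mul]
      have e2 : ∀ z, τ' j z = Equiv.swap x y (τ j z) := by
        intro z
        rw [hτ', Pi.mul_apply, Pi.mulSingle_eq_same, Equiv.Perm.mul_apply]
      have e3 : τ' j x = x := by rw [e2, ← hy, Equiv.swap_apply_right]
      have e4 : ∀ z, τ' j z ≠ z → z ≠ x ∧ τ' j z = τ j z := by
        intro z hz
        have hzx : z ≠ x := fun e => hz (by rw [e, e3])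
        refine ⟨hzx, ?_⟩
        have h2 : τ j z ≠ y := fun e => hzx ((τ j).injective (by rw [e]))
        have h3 : τ j z ≠ x := by
          intro hzx'
          have h4 : Tr Jg H V D e j z x := by
            have := hTr j z (by rw [hzx']; exact hzx.symm)
            rwa [hzx'] at this
          have h5 : z = y := Tr.disj h h4.symm hT
          apply hz
          rw [e2, hzx', Equiv.swap_apply_left, h5]
        rw [e2, Equiv.swap_apply_of_ne_of_ne h3 h2]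
      have h2 : t i * a ∈ closure (Set.range t) ⊔ Q := by
        refine ih τ' (t i * a) (mul_mem htT ha) h1 ?_ ?_
        · intro i' z hz
          by_cases hi' : i' = j
          · subst hi'
            obtain ⟨hzx, h3⟩ := e4 z hz
            rw [h3] at hz ⊢
            exact hTr _ _ hz
          · rw [e1 _ _ hi'] at hz ⊢
            exact hTr _ _ hz
        · have h3 : (Finset.univ.filter fun p : Fin k × Fin n => τ' p.1 p.2 ≠ p.2) ⊂
              (Finset.univ.filter fun p : Fin k × Fin n => τ p.1 p.2 ≠ p.2) := by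
            rw [Finset.ssubset_iff_of_subset]
            · refine ⟨(j, x), by simp only [Finset.mem_filter, Finset.mem_univ, true_and]; exact hx,
                ?_⟩
              simp only [Finset.mem_filter, Finset.mem_univ, true_and, not_not]
              exact e3
            · rintro ⟨i', z⟩ hz
              simp only [Finset.mem_filter, Finset.mem_univ, true_and] at hz ⊢
              by_cases hi' : i' = j
              · subst hi'
                rw [← (e4 z hz).2]; exact hz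
              · rw [← e1 _ _ hi']; exact hz
          have h4 := Finset.card_lt_card h3
          omega
      have h3 : a = (t i)⁻¹ * (t i * a) := by group
      rw [h3]
      exact mul_mem (inv_mem (mem_sup_left (subset_closure ⟨i, rfl⟩))) h2

/-- the products of transpositions centralise `D` and the `d i` -/
theorem Ch.EE_cent (h : SyL T H Q V Jg D AA o e) (c : Ch Jg H V D o e J X Y t r) :
    closure (Set.range t) ⊔ Q ≤ centralizer
      (Set.range (fun i => u H V D e (J i) (X i) (Y i)) ∪ (D : Set G)) := by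
  refine sup_le ?_ ?_
  · rw [closure_le]
    rintro _ ⟨j, rfl⟩
    rw [SetLike.mem_coe, mem_centralizer_iff]
    rintro w (⟨i, rfl⟩ | hw)
    · have ht := c.tg j
      have h1 := h.u_conj ht.mem ht.act (J i) (X i) (Y i)
      rw [Equiv.Perm.one_apply] at h1
      have h2 : t j * u H V D e (J i) (X i) (Y i) * (t j)⁻¹ = u H V D e (J i) (X i) (Y i) := by
        rw [h1]
        by_cases hJ : J i = J j
        · rw [hJ, Pi.mulSingle_eq_same]
          by_cases hij : i = j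
          · subst hij
            rw [Equiv.swap_apply_left, Equiv.swap_apply_right, h.u_symm]
          · obtain ⟨a1, a2, a3, a4⟩ := c.cases h hij hJ
            rw [Equiv.swap_apply_of_ne_of_ne a1 a2, Equiv.swap_apply_of_ne_of_ne a3 a4]
        · rw [Pi.mulSingle_eq_of_ne hJ, Equiv.Perm.one_apply, Equiv.Perm.one_apply]
      show u H V D e (J i) (X i) (Y i) * t j = t j * u H V D e (J i) (X i) (Y i)
      conv_lhs => rw [← h2]
      group
    · exact ((c.tg j).cd w hw).symm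
  · intro x hx
    rw [mem_centralizer_iff]
    rintro w (⟨i, rfl⟩ | hw)
    · exact (h.VcQ x hx _ (h.u_mem _ _ _)).symm
    · exact (h.VcQ x hx _ (h.DV hw)).symm

theorem Ch.Jt (h : SyL T H Q V Jg D AA o e) [Finite G] (c : Ch Jg H V D o e J X Y t r) :
    Jg ≤ closure (Set.range t) ⊔ Q := by
  refine h.Jle.trans (sup_le (sSup_le fun A hA => fun a ha => ?_) le_sup_right)
  obtain ⟨τ, hτ, hτ'⟩ := h.offD A hA a ha
  refine c.mem_EE h _ τ a (h.JT (h.AJ _ hA ha)) hτ (fun j x hx => ?_) le_rfl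
  obtain ⟨-, b, hb, hb'⟩ := hτ' j x hx
  exact ⟨hx.symm, b, h.AJ _ hA hb, hb'⟩

theorem Ch.field (h : SyL T H Q V Jg D AA o e) [Finite G] (c : Ch Jg H V D o e J X Y t r)
    (hpow : ∀ (g : G) (m : ℕ), ∃ c : ℕ, c % 2 ^ m = 1 % 2 ^ m ∧ ∃ N : ℕ, (g ^ c) ^ (2 ^ N) = 1)
    {x : G} (hx : x ∈ T) (hc : ∀ v ∈ V, (∀ y ∈ Jg, y * v = v * y) → x * v = v * x) :
    x ∈ closure (Set.range t) ⊔ Q := by
  have hJ : ∀ y ∈ Jg, (∀ i, y * u H V D e (J i) (X i) (Y i) = u H V D e (J i) (X i) (Y i) * y) ∧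
      ∀ d ∈ D, y * d = d * y := by
    intro y hy
    have h1 := mem_centralizer_iff.1 (c.EE_cent h (c.Jt h hy))
    exact ⟨fun i => (h1 _ (Or.inl ⟨i, rfl⟩)).symm, fun d hd => (h1 d (Or.inr hd)).symm⟩
  have hxD : ∀ d ∈ D, x * d = d * x := fun d hd => hc d (h.DV hd) fun y hy => (hJ y hy).2 d hd
  have hxu : ∀ i, x * u H V D e (J i) (X i) (Y i) = u H V D e (J i) (X i) (Y i) * x :=
    fun i => hc _ (h.u_mem _ _ _) fun y hy => (hJ y hy).1 i
  obtain ⟨σ, τ, hxa, h0⟩ := h.exists_act hx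
  have key : ∀ j a b, Tr Jg H V D e j a b → σ j = j ∧
      ((τ j a = a ∧ τ j b = b) ∨ (τ j a = b ∧ τ j b = a)) := by
    intro j a b hT
    obtain ⟨i, -, -, hi, -⟩ := c.exists_idx h hT
    have h1 := h.u_conj (h.TH hx) hxa j a b
    have h2 := hxu i
    rw [hi] at h2
    have h3 : u H V D e (σ j) (τ j a) (τ j b) = u H V D e j a b := by
      rw [← h1, h2]; group
    exact h.u_inj (fun e => hT.1 ((τ j).injective e)) h3
  have hσ : σ = 1 := by
    ext j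
    obtain ⟨z, hz, -⟩ := h.exists_third o o
    obtain ⟨y, hy⟩ := h.cover hpow j hz
    rw [(key j z y hy).1]; rfl
  subst hσ
  refine c.mem_EE h _ τ x hx ⟨h.TH hx, hxD, hxa⟩ (fun j z hz => ?_) le_rfl
  have hzo : z ≠ o := fun e => hz (by rw [e, h0])
  obtain ⟨y, hy⟩ := h.cover hpow j hzo
  rcases (key j z y hy).2 with h1 | h1
  · exact absurd h1.1 hz
  · rw [h1.1]; exact hy

/-- swaps with the base point generate -/
theorem perm_top (P : Subgroup (Equiv.Perm (Fin n))) (hP : ∀ z, z ≠ o → Equiv.swap o z ∈ P) :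
    P = ⊤ := by
  rw [eq_top_iff, ← Equiv.Perm.closure_isSwap, closure_le]
  rintro _ ⟨a, b, hab, rfl⟩
  by_cases ha : a = o
  · subst ha
    exact hP b hab.symm
  · by_cases hb : b = o
    · subst hb
      rw [Equiv.swap_comm]
      exact hP a hab
    · have h1 : Equiv.swap a b = Equiv.swap o a * Equiv.swap o b * (Equiv.swap o a)⁻¹ := by
        rw [← Equiv.swap_apply_apply, Equiv.swap_apply_left,
          Equiv.swap_apply_of_ne_of_ne hb hab.symm]
      rw [h1]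
      exact mul_mem (mul_mem (hP a ha) (hP b hb)) (inv_mem (hP a ha))

/-- **`T` and a 3-cycle generate `H` modulo `C_H(V)`.** -/
theorem Ch.max (h : SyL T H Q V Jg D AA o e) [Finite G] (c : Ch Jg H V D o e J X Y t r)
    (hpow : ∀ (g : G) (m : ℕ), ∃ c : ℕ, c % 2 ^ m = 1 % 2 ^ m ∧ ∃ N : ℕ, (g ^ c) ^ (2 ^ N) = 1)
    (K : Subgroup G) (hTK : T ≤ K) (hKH : K ≤ H) (i : ι) (hx : ∃ x ∈ K, Sim V x (r i)) : H ≤ K := by
  obtain ⟨x, hxK, hx⟩ := hx
  -- the permutations induced by `K`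
  let P : Subgroup (Fin k → Equiv.Perm (Fin n)) :=
    { carrier := {τ | ∃ g ∈ K, Gd H V D e τ g}
      mul_mem' := by
        rintro a b ⟨g, hg, hg'⟩ ⟨s, hs, hs'⟩
        exact ⟨g * s, mul_mem hg hs, h.gd_mul hg' hs'⟩
      one_mem' := ⟨1, one_mem K, h.gd_one⟩
      inv_mem' := by
        rintro a ⟨g, hg, hg'⟩
        exact ⟨g⁻¹, inv_mem hg, h.gd_inv hg'⟩ }
  have hsingle : ∀ j (π : Equiv.Perm (Fin n)),
      π ∈ P.comap (MonoidHom.mulSingle (fun _ : Fin k => Equiv.Perm (Fin n)) j) ↔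
        Pi.mulSingle j π ∈ P := fun j π => Iff.rfl
  -- the component of `i`
  have h1 : ∀ π, Pi.mulSingle (J i) π ∈ P := by
    have h2 : P.comap (MonoidHom.mulSingle (fun _ : Fin k => Equiv.Perm (Fin n)) (J i)) = ⊤ := by
      apply perm_top (o := o)
      have h3 : Equiv.swap o (X i) ∈
          P.comap (MonoidHom.mulSingle (fun _ : Fin k => Equiv.Perm (Fin n)) (J i)) := by
        have h4 : Equiv.swap o (X i) = cyc o (X i) (Y i) * Equiv.swap (X i) (Y i) := by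
          rw [cyc, mul_assoc, Equiv.swap_mul_self, mul_one]
        rw [h4]
        refine mul_mem ?_ ?_
        · exact ⟨x, hxK, h.gd_of_sim h.DV (c.rg i) (hKH hxK) hx.symm⟩
        · exact ⟨t i, hTK (h.JT (c.tJ i)), c.tg i⟩
      intro z hz
      obtain ⟨s, hs, π, hπ, hπz⟩ := h.cyc_T hpow (J i) ((c.tr i).ne h).1.symm hz
      have h5 := h.fix0 s hs _ _ hπ.act (J i)
      rw [Pi.mulSingle_eq_same] at h5
      have h6 : π ∈ P.comap (MonoidHom.mulSingle (fun _ : Fin k => Equiv.Perm (Fin n)) (J i)) :=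
        ⟨s, hTK hs, hπ⟩
      have h7 : Equiv.swap o z = π * Equiv.swap o (X i) * π⁻¹ := by
        rw [← Equiv.swap_apply_apply, h5, hπz]
      rw [h7]
      exact mul_mem (mul_mem h6 h3) (inv_mem h6)
    intro π
    have h3 : π ∈ P.comap (MonoidHom.mulSingle (fun _ : Fin k => Equiv.Perm (Fin n)) (J i)) := by
      rw [h2]; exact mem_top π
    exact h3
  have h2 : ∀ j π, Pi.mulSingle j π ∈ P := by
    intro j π
    obtain ⟨s, hs, σ, τ, hsa, hσ⟩ := h.trans (J i) j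
    obtain ⟨g, hg, hg'⟩ := h1 ((τ (J i))⁻¹ * π * τ (J i))
    have h3 := h.gd_conj_single (h.TH hs) hsa hg'
    have h4 : τ (J i) * ((τ (J i))⁻¹ * π * τ (J i)) * (τ (J i))⁻¹ = π := by group
    rw [h4, hσ] at h3
    exact ⟨_, mul_mem (mul_mem (hTK hs) hg) (inv_mem (hTK hs)), h3⟩
  refine h.prop K hTK hKH (h.gen _ (hTK.trans le_sup_left) fun g τ hg => ?_)
  have h3 : τ ∈ P := Subgroup.pi_mem_of_mulSingle_mem τ fun j => h2 j (τ j)
  obtain ⟨g', hg', hg''⟩ := h3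
  have h4 := h.gd_sim hg hg''
  have h5 : g = g' * (g'⁻¹ * g) := by group
  rw [h5]
  have h7 : g'⁻¹ * g ∈ H := mul_mem (inv_mem hg''.mem) hg.mem
  refine mul_mem (mem_sup_left hg') (mem_sup_right (mem_inf.2 ⟨h7, ?_⟩))
  rw [mem_centralizer_iff]
  intro v hv
  have h6 := h4 v hv
  calc v * (g'⁻¹ * g) = g'⁻¹ * (g' * v * g'⁻¹) * g := by group
    _ = g'⁻¹ * (g * v * g⁻¹) * g := by rw [h6]
    _ = g'⁻¹ * g * v := by group

/-! ### The Baumann input -/

theorem cyc_rot {a b z : Fin n} (hab : a ≠ b) (haz : a ≠ z) (hbz : b ≠ z) :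
    cyc a b z = cyc b z a := by
  ext x
  by_cases h1 : x = a
  · subst h1; rw [cyc_a hab haz hbz, cyc_z hbz hab.symm haz.symm]
  · by_cases h2 : x = b
    · subst h2; rw [cyc_b hab haz hbz, cyc_a hbz hab.symm haz.symm]
    · by_cases h3 : x = z
      · subst h3; rw [cyc_z hab haz hbz, cyc_b hbz hab.symm haz.symm]
      · rw [cyc_o hab haz hbz h1 h2 h3, cyc_o hbz hab.symm haz.symm h2 h3 h1]

theorem swap_cyc {x y : Fin n} (hox : o ≠ x) (hoy : o ≠ y) (hxy : x ≠ y) :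
    Equiv.swap x y * cyc o x y = (cyc o x y)⁻¹ * Equiv.swap x y := by
  have h1 := cyc_conj (Equiv.swap x y) o x y
  rw [Equiv.swap_apply_of_ne_of_ne hox hoy, Equiv.swap_apply_left, Equiv.swap_apply_right] at h1
  have h2 : cyc o y x = (cyc o x y)⁻¹ := by
    rw [← cyc_symm hox hoy hxy, cyc_rot hox.symm hxy hoy]
  rw [← h2, ← h1]
  group

theorem Ch.main (h : SyL T H Q V Jg D AA o e) [Finite G] (c : Ch Jg H V D o e J X Y t r)
    (hpow : ∀ (g : G) (m : ℕ), ∃ c : ℕ, c % 2 ^ m = 1 % 2 ^ m ∧ ∃ N : ℕ, (g ^ c) ^ (2 ^ N) = 1) :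
    SIn.In0 H T Q V Jg (fun i => h.NN (J i) o (X i) (Y i)) (fun i => u H V D e (J i) (X i) (Y i))
      t r where
  TH := h.TH
  QT := h.QT
  VQ := h.VQ
  Tp := h.Tp
  Qn := h.Qn
  Vn := h.Vn
  Vsq := h.sq
  VcQ := h.VcQ
  two := by
    rintro x hx hc ⟨N, hN⟩
    obtain ⟨g, hg, hgT⟩ := h.syl x hx ⟨N, hN⟩
    have h1 : g * x * g⁻¹ ∈ Q := by
      refine h.cT _ hgT fun v hv => ?_
      have h2 := hc _ (h.Vn' hg v hv)
      calc g * x * g⁻¹ * v = g * (x * (g⁻¹ * v * g)) * g⁻¹ := by group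
        _ = g * ((g⁻¹ * v * g) * x) * g⁻¹ := by rw [h2]
        _ = _ := by group
    have h2 := h.Qn g⁻¹ (inv_mem hg) _ h1
    have e1 : g⁻¹ * (g * x * g⁻¹) * g⁻¹⁻¹ = x := by group
    rwa [e1] at h2
  tJ := c.tJ
  rH := fun i => (c.rg i).mem
  Jt := c.Jt h
  tsq := by
    intro i
    have h1 := h.gd_mul (c.tg i) (c.tg i)
    rw [← Pi.mulSingle_mul, Equiv.swap_mul_self, Pi.mulSingle_one] at h1
    exact h.gd_sim h1 h.gd_one
  tt := by
    intro i j
    refine h.gd_sim (h.gd_mul (c.tg i) (c.tg j)) ?_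
    have h1 := h.gd_mul (c.tg j) (c.tg i)
    have h2 : (Pi.mulSingle (J i) (Equiv.swap (X i) (Y i)) *
        Pi.mulSingle (J j) (Equiv.swap (X j) (Y j)) : Fin k → Equiv.Perm (Fin n)) =
      Pi.mulSingle (J j) (Equiv.swap (X j) (Y j)) * Pi.mulSingle (J i) (Equiv.swap (X i) (Y i)) := by
      by_cases hij : i = j
      · rw [hij]
      · by_cases hJ : J i = J j
        · obtain ⟨a1, a2, a3, a4⟩ := c.cases h hij hJ
          rw [hJ, ← Pi.mulSingle_mul, ← Pi.mulSingle_mul]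
          congr 1
          have h3 := Equiv.swap_apply_apply (Equiv.swap (X j) (Y j)) (X i) (Y i)
          rw [Equiv.swap_apply_of_ne_of_ne a1 a2, Equiv.swap_apply_of_ne_of_ne a3 a4] at h3
          conv_lhs => rw [h3]
          group
        · exact (Pi.mulSingle_commute hJ _ _).eq
    rw [h2]
    exact h1
  tr := by
    intro i
    have h1 := h.gd_mul (c.tg i) (c.rg i)
    have h2 := h.gd_mul (h.gd_inv (c.rg i)) (c.tg i)
    rw [← Pi.mulSingle_mul, swap_cyc ((c.tr i).ne h).1 ((c.tr i).ne h).2 (c.tr i).1] at h1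
    rw [← Pi.mulSingle_inv, ← Pi.mulSingle_mul] at h2
    exact h.gd_sim h1 h2
  tr' := by
    intro i j hij
    have h1 := h.gd_mul (c.tg j) (c.rg i)
    refine h.gd_sim h1 ?_
    have h2 := h.gd_mul (c.rg i) (c.tg j)
    have h3 : (Pi.mulSingle (J j) (Equiv.swap (X j) (Y j)) *
        Pi.mulSingle (J i) (cyc o (X i) (Y i)) : Fin k → Equiv.Perm (Fin n)) =
      Pi.mulSingle (J i) (cyc o (X i) (Y i)) * Pi.mulSingle (J j) (Equiv.swap (X j) (Y j)) := by
      by_cases hJ : J i = J j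
      · obtain ⟨a1, a2, a3, a4⟩ := c.cases h hij hJ
        rw [hJ, ← Pi.mulSingle_mul, ← Pi.mulSingle_mul]
        congr 1
        have h4 := Equiv.swap_apply_apply (cyc o (X i) (Y i)) (X j) (Y j)
        have n1 := ((c.tr i).ne h)
        have n2 := ((c.tr j).ne h)
        rw [cyc_o n1.1 n1.2 (c.tr i).1 n2.1.symm a1.symm a3.symm,
          cyc_o n1.1 n1.2 (c.tr i).1 n2.2.symm a2.symm a4.symm] at h4
        conv_lhs => rw [h4]
        group
      · exact (Pi.mulSingle_commute (Ne.symm hJ) _ _).eq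
    rw [h3]
    exact h2
  r3 := by
    intro i
    have h1 := h.gd_mul (h.gd_mul (c.rg i) (c.rg i)) (c.rg i)
    rw [Sy.single_three ((c.tr i).ne h).1 ((c.tr i).ne h).2 (c.tr i).1] at h1
    exact h.gd_sim h1 h.gd_one
  dN := fun i => Or.inr (Or.inr (Or.inr rfl))
  d1 := fun i => h.u_ne (c.tr i).1
  NV := fun i => h.NN_le _ _ _ _
  cardN := fun i => h.card_NN _ ((c.tr i).ne h).1 ((c.tr i).ne h).2 (c.tr i).1
  t_comm := fun i => h.swap_comm (c.tg i)
  r_comm := fun i => h.cyc_comm ((c.tr i).ne h).1 ((c.tr i).ne h).2 (c.tr i).1 (c.rg i)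
  r_fix := fun i => h.cyc_fix ((c.tr i).ne h).1 ((c.tr i).ne h).2 (c.tr i).1 (c.rg i)
  perm := by
    intro x hx i
    obtain ⟨σ, τ, hxa, h0⟩ := h.exists_act hx
    have h1 := (c.tr i).conj h hx hxa
    obtain ⟨j, hj, -, hju, hjp⟩ := c.exists_idx h h1
    refine ⟨j, by rw [h.u_conj (h.TH hx) hxa, hju], fun v hv => ?_⟩
    have h2 : h.NN (J j) o (X j) (Y j) = h.NN (σ (J i)) o (τ (J i) (X i)) (τ (J i) (Y i)) := by
      rw [hj]
      rcases hjp with ⟨h3, h4⟩ | ⟨h3, h4⟩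
      · rw [h3, h4]
      · rw [h3, h4, h.NN_symm]
    rw [h2]
    rcases h.mem_NN.1 hv with h3 | h3 | h3 | h3
    · rw [h3]
      have : x * 1 * x⁻¹ = 1 := by group
      rw [this]; exact one_mem _
    · rw [h3, h.u_conj (h.TH hx) hxa, h0]; exact Or.inr (Or.inl rfl)
    · rw [h3, h.u_conj (h.TH hx) hxa, h0]; exact Or.inr (Or.inr (Or.inl rfl))
    · rw [h3, h.u_conj (h.TH hx) hxa]; exact Or.inr (Or.inr (Or.inr rfl))
  field := fun x hx hc => c.field h hpow hx hc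
  JT := h.JT
  max := fun K hTK hKH i hx => c.max h hpow K hTK hKH i hx

theorem Ch.permR (h : SyL T H Q V Jg D AA o e) [Finite G] (c : Ch Jg H V D o e J X Y t r) :
    BauS.PermR T V (fun i => u H V D e (J i) (X i) (Y i)) r := by
  intro x hx i j hij
  obtain ⟨σ, τ, hxa, h0⟩ := h.exists_act hx
  rw [h.u_conj (h.TH hx) hxa] at hij
  obtain ⟨h1, h2⟩ := h.u_inj (fun e => (c.tr i).1 ((τ (J i)).injective e)) hij
  have h3 := h.gd_conj_single (h.TH hx) hxa (c.rg i)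
  rw [cyc_conj, h0, h1] at h3
  rcases h2 with ⟨h4, h5⟩ | ⟨h4, h5⟩
  · rw [h4, h5] at h3
    exact Or.inl (h.gd_sim h3 (c.rg j))
  · rw [h4, h5] at h3
    have n1 := (c.tr j).ne h
    have h6 : cyc o (Y j) (X j) = (cyc o (X j) (Y j))⁻¹ := by
      rw [← cyc_symm n1.1 n1.2 (c.tr j).1, cyc_rot n1.1.symm (c.tr j).1 n1.2]
    rw [h6, Pi.mulSingle_inv] at h3
    exact Or.inr (h.gd_sim h3 (h.gd_inv (c.rg j)))

end SyL

end Cfsg.Agent.Omega.OM.Lev.SymIn

end

section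


/-!
# FIX-X (bb OMEGA #22160, #22723 (A)): LEMMA FIX inside `X = Ω₁(Z(lev n))`, every `q`, every `k`

Over the frame `Lev.Uni.FrL`: `V ≤ X ≤ B`, `X` elementary abelian, `A i` a best offender on `X` acting on `W i` only.

* `fixX` : `n ∈ X`, `[n, Q] ≤ Z i` ⟹ `n ∈ V`.
-/

set_option autoImplicit false

namespace Cfsg.Agent.Omega.OM.FixXQ

open Subgroup Cfsg Cfsg.Agent.PLocal.ThompsonJ Cfsg.Agent.ZN Cfsg.Agent.ZN.ChoiceBase
open Cfsg.Agent.PLocal.ElemAbSup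
open Cfsg.Agent.Omega.SQ1.Bau (mem_sup_comm card_sup_comm elem_comm elem_sq)
open Cfsg.Agent.Omega.OM.BlockUniq Cfsg.Agent.Omega.OM.Uni
open Cfsg.Agent.Omega.OM.Lev.Uni
open Cfsg.Agent.Omega.FFThm (ElemM)

universe u

variable {G : Type u} [Group G]

section elem

variable {X A : Subgroup G}

/-- `A` is abelian modulo `C(X)`: conjugates of `e ∈ A` act on `X` as `e`. -/
theorem act_conj (hA : ElemM X A) {a e x : G} (ha : a ∈ A) (he : e ∈ A) (hx : x ∈ X) :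
    a⁻¹ * e * a * x * (a⁻¹ * e * a)⁻¹ = e * x * e⁻¹ := by
  have h1 := hA.comm e⁻¹ (inv_mem he) a⁻¹ (inv_mem ha)
  have h2 := mem_centralizer_iff.1 h1 x hx
  have e1 : e⁻¹ * a⁻¹ * e⁻¹⁻¹ * a⁻¹⁻¹ = e⁻¹ * (a⁻¹ * e * a) := by group
  rw [e1] at h2
  calc a⁻¹ * e * a * x * (a⁻¹ * e * a)⁻¹ = e * (e⁻¹ * (a⁻¹ * e * a) * x) * (a⁻¹ * e * a)⁻¹ := by group
    _ = e * (x * (e⁻¹ * (a⁻¹ * e * a))) * (a⁻¹ * e * a)⁻¹ := by rw [h2]
    _ = e * x * e⁻¹ := by group

end elem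

variable {ι : Type*} {B Q V X ZJ : Subgroup G} {L W Z C A : ι → Subgroup G} {q : ℕ}

/-- `B` normalises `X` -/
theorem bX (h : FrL B Q V X ZJ L W Z C A q) (i : ι) {b : G} (hb : b ∈ B) {x : G} (hx : x ∈ X) :
    b * x * b⁻¹ ∈ X := h.LX i b ((h.blk i).BL hb) x hx

/-- The case `[y, C_A(W i)] ≠ 1`. -/
theorem caseNe [Finite G] (h : FrL B Q V X ZJ L W Z C A q) (i : ι) {l : G} (hl : l ∈ L i)
    (hne : cj l (Z i) ≠ Z i) {y : G} (hy : y ∈ X) (hyQ : ∀ o ∈ Q, o * y * o⁻¹ * y⁻¹ ∈ cj l (Z i)) {e₀ : G}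
    (he₀ : e₀ ∈ A i) (he₀' : e₀ ∈ centralizer (W i : Set G)) : e₀ * y = y * e₀ := by
  by_contra hmv
  have hZl : cj l (Z i) ≤ W i := by
    rintro _ ⟨z, hz, rfl⟩
    exact (h.blk i).nV l hl z ((h.blk i).ZV hz)
  have hWX : W i ≤ X := (h.WV i).trans h.VX
  set E₀ : Subgroup G := A i ⊓ centralizer (W i : Set G) with hE₀
  have hE₀Q : ∀ e ∈ E₀, e ∈ Q := fun e he =>
    h.A_Q he.1 fun v hv => (mem_centralizer_iff.1 he.2 v hv).symm
  set E : Subgroup G := E₀ ⊓ centralizer ({y} : Set G) with hE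
  have hAB := h.AB i
  -- `|E₀| ≤ q |E|`
  have c1 : Nat.card E₀ ≤ q * Nat.card E := by
    let f : E₀ →* G :=
      { toFun := fun e => (e : G) * y * (e : G)⁻¹ * y⁻¹
        map_one' := by simp
        map_mul' := by
          intro a b
          have ha := hE₀Q a a.2
          have hb := hE₀Q b b.2
          have h1 := hZl (hyQ b hb)
          have h2 : (a : G) * ((b : G) * y * (b : G)⁻¹ * y⁻¹) = ((b : G) * y * (b : G)⁻¹ * y⁻¹) * a :=
            h.cQ ha (h.WV i h1)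
          have h3 := h.Xc _ (hWX (hZl (hyQ a ha))) _ (hWX h1)
          show ((a * b : E₀) : G) * y * ((a * b : E₀) : G)⁻¹ * y⁻¹ =
            (a : G) * y * (a : G)⁻¹ * y⁻¹ * ((b : G) * y * (b : G)⁻¹ * y⁻¹)
          rw [h3, Subgroup.coe_mul]
          calc (a : G) * b * y * ((a : G) * b)⁻¹ * y⁻¹
              = (a : G) * ((b : G) * y * (b : G)⁻¹ * y⁻¹) * y * (a : G)⁻¹ * y⁻¹ := by group
            _ = ((b : G) * y * (b : G)⁻¹ * y⁻¹) * a * y * (a : G)⁻¹ * y⁻¹ := by rw [h2]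
            _ = (b : G) * y * (b : G)⁻¹ * y⁻¹ * ((a : G) * y * (a : G)⁻¹ * y⁻¹) := by group }
    have hf : ∀ e : E₀, f e = (e : G) * y * (e : G)⁻¹ * y⁻¹ := fun e => rfl
    have hker : Nat.card f.ker ≤ Nat.card E := by
      have h1 : f.ker.map E₀.subtype ≤ E := by
        rintro _ ⟨e, he, rfl⟩
        refine mem_inf.2 ⟨e.2, mem_centralizer_singleton_iff.2 ?_⟩
        have h2 : (e : G) * y * (e : G)⁻¹ * y⁻¹ = 1 := (MonoidHom.mem_ker (f := f)).1 he
        have h3 := mul_inv_eq_one.1 h2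
        exact mul_inv_eq_iff_eq_mul.1 h3
      have h2 := Subgroup.card_le_of_le h1
      rwa [Nat.card_congr (f.ker.equivMapOfInjective E₀.subtype E₀.subtype_injective).toEquiv.symm] at h2
    have hran : Nat.card f.range ≤ q := by
      have h1 : f.range ≤ cj l (Z i) := by
        rintro _ ⟨e, rfl⟩
        exact hyQ e (hE₀Q e e.2)
      have h2 := Subgroup.card_le_of_le h1
      rwa [card_cj, h.cardZ] at h2
    have hc : Nat.card E₀ = Nat.card f.range * Nat.card f.ker := by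
      rw [← Subgroup.card_mul_index f.ker, Subgroup.index_ker, mul_comm]
    rw [hc]
    exact Nat.mul_le_mul hran hker
  -- `|C_X(E)| ≥ 2 q |C_X(E₀)|`
  have hXe : ∀ u ∈ X, e₀ * u * e₀⁻¹ ∈ X := fun u hu => bX h i (hAB he₀) hu
  have c2 : 2 * q * Nat.card ↥(X ⊓ centralizer (E₀ : Set G)) ≤ Nat.card ↥(X ⊓ centralizer (E : Set G)) := by
    set Y : Subgroup G := X ⊓ centralizer (E : Set G) with hY
    let g : Y →* G :=
      { toFun := fun u => e₀ * (u : G) * e₀⁻¹ * (u : G)⁻¹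
        map_one' := by simp
        map_mul' := by
          intro a b
          have h1 : (e₀ * (b : G) * e₀⁻¹ * (b : G)⁻¹) * (a : G)⁻¹ = (a : G)⁻¹ * (e₀ * (b : G) * e₀⁻¹ * (b : G)⁻¹) :=
            h.Xc _ (mul_mem (hXe _ b.2.1) (inv_mem b.2.1)) _ (inv_mem a.2.1)
          show e₀ * ((a * b : Y) : G) * e₀⁻¹ * ((a * b : Y) : G)⁻¹ =
            e₀ * (a : G) * e₀⁻¹ * (a : G)⁻¹ * (e₀ * (b : G) * e₀⁻¹ * (b : G)⁻¹)
          rw [Subgroup.coe_mul]
          calc e₀ * ((a : G) * b) * e₀⁻¹ * ((a : G) * b)⁻¹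
              = e₀ * (a : G) * e₀⁻¹ * ((e₀ * (b : G) * e₀⁻¹ * (b : G)⁻¹) * (a : G)⁻¹) := by group
            _ = e₀ * (a : G) * e₀⁻¹ * ((a : G)⁻¹ * (e₀ * (b : G) * e₀⁻¹ * (b : G)⁻¹)) := by rw [h1]
            _ = e₀ * (a : G) * e₀⁻¹ * (a : G)⁻¹ * (e₀ * (b : G) * e₀⁻¹ * (b : G)⁻¹) := by group }
    have hg : ∀ u : Y, g u = e₀ * (u : G) * e₀⁻¹ * (u : G)⁻¹ := fun u => rfl
    have he₀E : e₀ ∈ E₀ := mem_inf.2 ⟨he₀, he₀'⟩
    have hker : Nat.card ↥(X ⊓ centralizer (E₀ : Set G)) ≤ Nat.card g.ker := by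
      have h1 : X ⊓ centralizer (E₀ : Set G) ≤ g.ker.map Y.subtype := by
        intro u hu
        have hu2 := mem_centralizer_iff.1 hu.2
        have huY : u ∈ Y := mem_inf.2 ⟨hu.1, mem_centralizer_iff.2 fun e he => hu2 e he.1⟩
        refine ⟨⟨u, huY⟩, (MonoidHom.mem_ker).2 ?_, rfl⟩
        show e₀ * u * e₀⁻¹ * u⁻¹ = 1
        rw [hu2 e₀ he₀E]; group
      have h2 := Subgroup.card_le_of_le h1
      rwa [Nat.card_congr (g.ker.equivMapOfInjective Y.subtype Y.subtype_injective).toEquiv.symm] at h2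
    -- the range
    set v : G := e₀ * y * e₀⁻¹ * y⁻¹ with hv
    have hv1 : v ≠ 1 := fun e => hmv (mul_inv_eq_iff_eq_mul.1 (mul_inv_eq_one.1 e))
    have hvl : v ∈ cj l (Z i) := hyQ e₀ (hE₀Q e₀ he₀E)
    have hvW : v ∈ W i := hZl hvl
    have hvZ : v ∉ Z i := by
      intro hz
      have h1 : v ∈ cj l (Z i) ⊓ Z i := mem_inf.2 ⟨hvl, hz⟩
      rw [h.tri' hl hne, mem_bot] at h1
      exact hv1 h1
    have hroot : ∀ z ∈ Z i, ∃ a ∈ A i, a * v * a⁻¹ * v⁻¹ = z := by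
      intro z hz
      obtain ⟨R, h1, h2, -, h4⟩ := (h.blk i).toMd.relIndex_comm hAB hvW hvZ
      have h5 := (h.A_full i).2.2
      rw [← h5] at h4
      have h6 : Nat.card R = q := Nat.eq_of_mul_eq_mul_right Nat.card_pos h4
      have h7 : R = Z i := Subgroup.eq_of_le_of_card_ge h1 (by rw [h6, h.cardZ])
      rw [← h7] at hz
      obtain ⟨x, hx, e⟩ := h2 z hz
      exact ⟨x, hx, e.symm⟩
    have hran0 : ∀ z ∈ Z i, z * v ∈ g.range := by
      intro z hz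
      obtain ⟨a, ha, e⟩ := hroot z hz
      have haX : a * y * a⁻¹ ∈ X := bX h i (hAB ha) hy
      have haY : a * y * a⁻¹ ∈ Y := by
        refine mem_inf.2 ⟨haX, mem_centralizer_iff.2 fun t ht => ?_⟩
        have h1 := act_conj (h.AX i) ha ht.1.1 hy
        have h2 : t * y = y * t := mem_centralizer_singleton_iff.1 ht.2
        have h3 : t * y * t⁻¹ = y := mul_inv_eq_iff_eq_mul.2 h2
        rw [h3] at h1
        calc t * (a * y * a⁻¹) = a * (a⁻¹ * t * a * y * (a⁻¹ * t * a)⁻¹) * a⁻¹ * t := by group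
          _ = a * y * a⁻¹ * t := by rw [h1]
      refine ⟨⟨_, haY⟩, ?_⟩
      show e₀ * (a * y * a⁻¹) * e₀⁻¹ * (a * y * a⁻¹)⁻¹ = z * v
      have h1 := act_conj (h.AX i) ha he₀ hy
      calc e₀ * (a * y * a⁻¹) * e₀⁻¹ * (a * y * a⁻¹)⁻¹
          = a * (a⁻¹ * e₀ * a * y * (a⁻¹ * e₀ * a)⁻¹) * y⁻¹ * a⁻¹ := by group
        _ = a * (e₀ * y * e₀⁻¹) * y⁻¹ * a⁻¹ := by rw [h1]
        _ = a * v * a⁻¹ := by rw [hv]; group
        _ = (a * v * a⁻¹ * v⁻¹) * v := by group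
        _ = z * v := by rw [e]
    have hvR : v ∈ g.range := by
      have := hran0 1 (one_mem _)
      rwa [one_mul] at this
    have hZR : Z i ≤ g.range := by
      intro z hz
      have h1 := mul_mem (hran0 z hz) (inv_mem hvR)
      rwa [mul_inv_cancel_right] at h1
    have hran : 2 * q ≤ Nat.card g.range := by
      have h1 : Z i < g.range := lt_of_le_of_ne hZR fun e => hvZ (by rw [e]; exact hvR)
      have h2 : Nat.card (Z i) * (Z i).relIndex g.range = Nat.card g.range := by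
        rw [← Nat.card_congr (Subgroup.subgroupOfEquivOfLe hZR).toEquiv, relIndex, Subgroup.card_mul_index]
      have h3 : (Z i).relIndex g.range ≠ 1 := fun e => h1.not_ge (Subgroup.relIndex_eq_one.1 e)
      have h4 : (Z i).relIndex g.range ≠ 0 := by
        intro e
        rw [e, mul_zero] at h2
        have : 0 < Nat.card g.range := Nat.card_pos
        omega
      rw [h.cardZ] at h2
      rw [← h2, mul_comm]
      exact Nat.mul_le_mul_left q (by omega)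
    have hc : Nat.card Y = Nat.card g.range * Nat.card g.ker := by
      rw [← Subgroup.card_mul_index g.ker, Subgroup.index_ker, mul_comm]
    rw [hc]
    exact Nat.mul_le_mul hran hker
  -- `f(E₀) = f(A)`
  rcases fullX (h.blk i).toMd h.Xc hWX hAB (h.best i) with h1 | ⟨-, h2, h3, h4⟩
  · exact h.Ane i h1
  have hD := card_sup_comm (A := W i) (B := X ⊓ centralizer (A i : Set G)) fun a ha b hb => h.Xc a (hWX ha) b hb.1
  have h5 : W i ⊓ (X ⊓ centralizer (A i : Set G)) = Z i := by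
    rw [← inf_assoc, inf_eq_left.2 hWX, h2]
  rw [h5, (h.blk i).card] at hD
  have hp : 0 < Nat.card (Z i) := Nat.card_pos
  have h6 : Nat.card ↥(W i ⊔ (X ⊓ centralizer (A i : Set G))) = q * Nat.card ↥(X ⊓ centralizer (A i : Set G)) := by
    refine Nat.eq_of_mul_eq_mul_right hp ?_
    rw [hD]; ring
  rw [h4, h6] at c2
  have hEle : A i ⊓ centralizer (X : Set G) ≤ E := by
    intro a ha
    have ha2 := mem_centralizer_iff.1 ha.2
    exact mem_inf.2 ⟨mem_inf.2 ⟨ha.1, mem_centralizer_iff.2 fun w hw => ha2 w (hWX hw)⟩,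
      mem_centralizer_singleton_iff.2 (ha2 y hy).symm⟩
  have h7 := h.best i E hEle (inf_le_left.trans inf_le_left)
  have hq := (h.blk i).one
  have hD0 : 0 < Nat.card ↥(X ⊓ centralizer (A i : Set G)) := Nat.card_pos
  have hA0 : 0 < Nat.card (A i) := Nat.card_pos
  have h8 : 2 * (Nat.card (A i) * Nat.card ↥(X ⊓ centralizer (A i : Set G))) ≤
      Nat.card (A i) * Nat.card ↥(X ⊓ centralizer (A i : Set G)) := by
    calc 2 * (Nat.card (A i) * Nat.card ↥(X ⊓ centralizer (A i : Set G)))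
        = 2 * (q * Nat.card E₀) * Nat.card ↥(X ⊓ centralizer (A i : Set G)) := by rw [← h3]; ring
      _ ≤ 2 * (q * (q * Nat.card E)) * Nat.card ↥(X ⊓ centralizer (A i : Set G)) :=
          Nat.mul_le_mul_right _ (Nat.mul_le_mul_left _ (Nat.mul_le_mul_left _ c1))
      _ = Nat.card E * (2 * q * (q * Nat.card ↥(X ⊓ centralizer (A i : Set G)))) := by ring
      _ ≤ Nat.card E * Nat.card ↥(X ⊓ centralizer (E : Set G)) := Nat.mul_le_mul_left _ c2
      _ ≤ _ := h7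
  have h9 : 0 < Nat.card (A i) * Nat.card ↥(X ⊓ centralizer (A i : Set G)) := Nat.mul_pos hA0 hD0
  omega

/-- **FIX-X.** -/
theorem fixX [Finite G] (h : FrL B Q V X ZJ L W Z C A q) (hXB : X ≤ B) (i : ι) {n : G} (hn : n ∈ X)
    (hnQ : ∀ o ∈ Q, o * n * o⁻¹ * n⁻¹ ∈ Z i) : n ∈ V := by
  obtain ⟨l, hl, hne⟩ := h.exists_mv i
  have hXQ : X ≤ Q := fun x hx => (h.mem_Q x (hXB hx)).2 fun v hv => h.Xc x hx v (h.VX hv)
  have hWX : W i ≤ X := (h.WV i).trans h.VX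
  have hAB := h.AB i
  have hZl : cj l (Z i) ≤ W i := by
    rintro _ ⟨z, hz, rfl⟩
    exact (h.blk i).nV l hl z ((h.blk i).ZV hz)
  set y : G := l * n * l⁻¹ with hyd
  have hy : y ∈ X := h.LX i l hl n hn
  have hyQ : ∀ o ∈ Q, o * y * o⁻¹ * y⁻¹ ∈ cj l (Z i) := by
    intro o ho
    have h1 : l⁻¹ * o * l ∈ Q := by
      have := h.LQ i l⁻¹ (inv_mem hl) o ho
      rwa [inv_inv] at this
    rw [mem_cj]
    have h2 := hnQ _ h1
    have e : l⁻¹ * (o * y * o⁻¹ * y⁻¹) * l = l⁻¹ * o * l * n * (l⁻¹ * o * l)⁻¹ * n⁻¹ := by rw [hyd]; group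
    rwa [e]
  suffices hyV : y ∈ V by
    have h1 := h.LV i l⁻¹ (inv_mem hl) y hyV
    have e : l⁻¹ * y * l⁻¹⁻¹ = n := by rw [hyd]; group
    rwa [e] at h1
  -- `y ∈ W i C_X(A i)`
  rcases fullX (h.blk i).toMd h.Xc hWX hAB (h.best i) with h1 | ⟨-, -, -, h4⟩
  · exact absurd h1 (h.Ane i)
  have h5 : y ∈ X ⊓ centralizer ((A i ⊓ centralizer (W i : Set G) : Subgroup G) : Set G) :=
    mem_inf.2 ⟨hy, mem_centralizer_iff.2 fun e he => caseNe h i hl hne hy hyQ he.1 he.2⟩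
  rw [h4] at h5
  obtain ⟨w, hw, c, hc, hwc⟩ := mem_sup_comm (A := W i) (B := X ⊓ centralizer (A i : Set G))
    (fun a ha b hb => h.Xc a (hWX ha) b hb.1) h5
  have hA := h.Ane i
  push Not at hA
  obtain ⟨a, ha, v, hv, hav⟩ := hA
  set z : G := a * w * a⁻¹ * w⁻¹ with hzd
  have hz : z ∈ Z i := (h.blk i).com a (hAB ha) w hw
  have hac : a * c = c * a := mem_centralizer_iff.1 hc.2 a ha
  have hay : a * y * a⁻¹ = z * y := by
    rw [hwc, hzd]
    calc a * (w * c) * a⁻¹ = a * w * (c * a⁻¹) := by group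
      _ = a * w * (a⁻¹ * c) := by
        have : c * a⁻¹ = a⁻¹ * c := by
          calc c * a⁻¹ = a⁻¹ * (a * c) * a⁻¹ := by group
            _ = a⁻¹ * c := by rw [hac]; group
        rw [this]
      _ = a * w * a⁻¹ * w⁻¹ * (w * c) := by group
  refine h.zcQ y (hXQ hy) (elem_sq h.elX y hy) fun o ho => ?_
  -- `r = [o, y] = [o', y]^a`
  set r : G := o * y * o⁻¹ * y⁻¹ with hrd
  have hr : r ∈ cj l (Z i) := hyQ o ho
  have ho' : a⁻¹ * o * a ∈ Q := by
    have := h.LQ i a⁻¹ (inv_mem ((h.blk i).BL (hAB ha))) o ho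
    rwa [inv_inv] at this
  set r' : G := a⁻¹ * o * a * y * (a⁻¹ * o * a)⁻¹ * y⁻¹ with hr'd
  have hr' : r' ∈ cj l (Z i) := hyQ _ ho'
  have hoz : o * z = z * o := h.cQ ho (h.ZV i hz)
  have hrr : a * r' * a⁻¹ = r := by
    have h6 : z * r = r * z := h.Xc z (h.VX (h.ZV i hz)) r (hWX (hZl hr))
    calc a * r' * a⁻¹ = o * (a * y * a⁻¹) * o⁻¹ * (a * y * a⁻¹)⁻¹ := by rw [hr'd]; group
      _ = (o * z) * y * o⁻¹ * (z * y)⁻¹ := by rw [hay]; group
      _ = (z * o) * y * o⁻¹ * (z * y)⁻¹ := by rw [hoz]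
      _ = z * r * z⁻¹ := by rw [hrd]; group
      _ = r := by rw [h6]; group
  have h7 : r * r'⁻¹ ∈ cj l (Z i) ⊓ Z i := by
    refine mem_inf.2 ⟨mul_mem hr (inv_mem hr'), ?_⟩
    rw [← hrr]
    exact (h.blk i).com a (hAB ha) r' (hZl hr')
  rw [h.tri' hl hne, mem_bot, mul_inv_eq_one] at h7
  have h8 : a * r = r * a := by
    rw [← h7] at hrr
    exact mul_inv_eq_iff_eq_mul.1 hrr
  have h9 : r ∈ Z i := (h.blk i).mem_Z (hAB ha) (fun hcon => hav (hcon v hv)) (hZl hr) h8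
  have h10 : r ∈ cj l (Z i) ⊓ Z i := mem_inf.2 ⟨hr, h9⟩
  rw [h.tri' hl hne, mem_bot] at h10
  have h11 : o * y = y * o := by
    have := mul_inv_eq_one.1 h10
    exact mul_inv_eq_iff_eq_mul.1 this
  exact h11.symm

end Cfsg.Agent.Omega.OM.FixXQ

end

section


/-!
# THEOREM S (#23621, helper787): the elements which interchange two pairs of one factor (helper100)

`SyL T H Q V Jg ⊥ AA o e`, `Ch Jg H V ⊥ o e J X Y t r`; `d i = {X i, Y i}` in the factor `J i`.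

* `exists_swap` : `i ≠ j`, `J i = J j`: some `g ∈ H` interchanges `d i` and `d j` and fixes the other `d l`.
-/

set_option autoImplicit false
set_option linter.unusedSectionVars false

namespace Cfsg.Agent.Omega.ESym

open Subgroup
open Cfsg.Agent.Omega.FFThm (ActsSym)
open Cfsg.Agent.Omega.SQ1.FFSym
open Cfsg.Agent.Omega.OM.Lev.SymIn Cfsg.Agent.Omega.OM.Lev.SymIn.SyL

universe v

variable {G : Type v} [Group G] {T H Q V D Jg : Subgroup G} {AA : Set (Subgroup G)} {k n : ℕ} {o : Fin n}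
  {e : G → Fin k → Fin n → ZMod 2} {ι : Type} {J : ι → Fin k} {X Y : ι → Fin n} {t r : ι → G}

/-- **the pairs of one factor can be interchanged** -/
theorem exists_swap (h : SyL T H Q V Jg D AA o e) (c : Ch Jg H V D o e J X Y t r) {i j : ι} (hij : i ≠ j)
    (hJ : J i = J j) : ∃ g ∈ H, (g * u H V D e (J i) (X i) (Y i) * g⁻¹ = u H V D e (J j) (X j) (Y j)) ∧
      (g * u H V D e (J j) (X j) (Y j) * g⁻¹ = u H V D e (J i) (X i) (Y i)) ∧
      ∀ l, l ≠ i → l ≠ j → g * u H V D e (J l) (X l) (Y l) * g⁻¹ = u H V D e (J l) (X l) (Y l) := by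
  obtain ⟨h1, h2, h3, h4⟩ := c.cases h hij hJ
  have hi : X i ≠ Y i := (c.tr i).1
  have hj : X j ≠ Y j := (c.tr j).1
  set τ : Equiv.Perm (Fin n) := Equiv.swap (X i) (X j) * Equiv.swap (Y i) (Y j) with hτ
  obtain ⟨g, hg⟩ := h.exists_gd (Pi.mulSingle (J i) τ)
  have hc := fun (j' : Fin k) (a b : Fin n) => h.u_conj hg.mem hg.act j' a b
  refine ⟨g, hg.mem, ?_, ?_, ?_⟩
  · rw [hc, Equiv.Perm.one_apply, Pi.mulSingle_eq_same, ← hJ]
    congr 1
    · rw [hτ, Equiv.Perm.mul_apply, Equiv.swap_apply_of_ne_of_ne hi h2, Equiv.swap_apply_left]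
    · rw [hτ, Equiv.Perm.mul_apply, Equiv.swap_apply_left, Equiv.swap_apply_of_ne_of_ne h2.symm hj.symm]
  · rw [hc, Equiv.Perm.one_apply, ← hJ, Pi.mulSingle_eq_same]
    congr 1
    · rw [hτ, Equiv.Perm.mul_apply, Equiv.swap_apply_of_ne_of_ne h3.symm hj, Equiv.swap_apply_right]
    · rw [hτ, Equiv.Perm.mul_apply, Equiv.swap_apply_right, Equiv.swap_apply_of_ne_of_ne hi.symm h3]
  · intro l hli hlj
    rw [hc, Equiv.Perm.one_apply]
    by_cases hJl : J l = J i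
    · obtain ⟨a1, a2, a3, a4⟩ := c.cases h hli hJl
      obtain ⟨b1, b2, b3, b4⟩ := c.cases h hlj (hJl.trans hJ)
      rw [hJl, Pi.mulSingle_eq_same]
      congr 1
      · rw [hτ, Equiv.Perm.mul_apply, Equiv.swap_apply_of_ne_of_ne a2 b2, Equiv.swap_apply_of_ne_of_ne a1 b1]
      · rw [hτ, Equiv.Perm.mul_apply, Equiv.swap_apply_of_ne_of_ne a4 b4, Equiv.swap_apply_of_ne_of_ne a3 b3]
    · rw [Pi.mulSingle_eq_of_ne hJl]
      rfl

end Cfsg.Agent.Omega.ESym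

end
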