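import Cfsg.Agent.Mrg.Omega.OM.Uni
import Cfsg.Agent.Mrg.Omega.FrameI
import Cfsg.Agent.Mrg.Omega.SQ1.BauSMin
import Cfsg.Agent.Mrg.Omega.OM.WeakCl
import Cfsg.Agent.MinSimple.Basic

section


/-!
# Uniqueness of FF-blocks at a level (helper609 #14539 (3), helper781 #16560)

The frame `Uni.Fr` at a level: `X ≥ V` elementary abelian (`X = Ω₁(Z(lev n))`), `B = C_S(Z_J)`, `Z_J = C_V(B)`, `A i ≤ B`
a best offender on `X` which acts only on `W i`.

* `Md.fullX` : a best offender on `X ≥ V'` acts trivially or fully on the `B`-module `V'`;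
* `FrL` : the frame; `FrL.uni` (UNI'): if `V' ≤ X` is the module of any block over `B` then `q' = q`, `[V', B] = Z i` and
  `V' ≤ W i Z_J` for one `i`;
* `FrL.norm_of` : (U1): an element of `N_G(B) ∩ N_G(X)` normalises `V` and permutes the `Z i`.
-/

set_option autoImplicit false

namespace Cfsg.Agent.Omega.OM.Lev.Uni

open Subgroup Cfsg Cfsg.Agent.PLocal.ThompsonJ Cfsg.Agent.ZN Cfsg.Agent.ZN.ChoiceBase
open Cfsg.Agent.PLocal.ElemAbSup
open Cfsg.Agent.Omega.SQ1.Bau (mem_sup_comm card_sup_comm elem_comm elem_sq)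
open Cfsg.Agent.Omega.OM.BlockUniq Cfsg.Agent.Omega.OM.Uni
open Cfsg.Agent.Omega.FFThm (ElemM)
open scoped Pointwise commutatorElement

universe u

variable {G : Type u} [Group G]

/-- `A` is a best offender on `X` (it maximises `|F| |C_X(F)|` among its subgroups `F ≥ C_A(X)`). -/
def Best (X A : Subgroup G) : Prop := ∀ F : Subgroup G, A ⊓ centralizer (X : Set G) ≤ F → F ≤ A →
  Nat.card F * Nat.card ↥(X ⊓ centralizer (F : Set G)) ≤ Nat.card A * Nat.card ↥(X ⊓ centralizer (A : Set G))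

section md

variable {B V Z : Subgroup G} {q : ℕ}

/-- A best offender on `X` acts trivially or fully on `V ≤ X`. -/
theorem fullX (h : Md B V Z q) [Finite G] {X : Subgroup G} (hX : ∀ x ∈ X, ∀ y ∈ X, x * y = y * x) (hVX : V ≤ X)
    {E : Subgroup G} (hE : E ≤ B) (hb : Best X E) :
    (∀ e ∈ E, ∀ v ∈ V, e * v = v * e) ∨ (⁅V, E⁆ = ⁅V, B⁆ ∧ V ⊓ centralizer (E : Set G) = Z ∧
      q * Nat.card ↥(E ⊓ centralizer (V : Set G)) = Nat.card E ∧
      X ⊓ centralizer ((E ⊓ centralizer (V : Set G) : Subgroup G) : Set G) =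
        V ⊔ (X ⊓ centralizer (E : Set G))) := by
  by_cases h0 : ∀ e ∈ E, ∀ v ∈ V, e * v = v * e
  · exact Or.inl h0
  right
  push Not at h0
  obtain ⟨e, he, v, hv, hne⟩ := h0
  have hCV : V ⊓ centralizer (E : Set G) = Z := by
    apply le_antisymm
    · rintro u ⟨hu, huc⟩
      refine h.mem_Z (hE he) (fun h1 => hne (h1 v hv)) hu ?_
      exact mem_centralizer_iff.1 huc e he
    · exact fun z hz => ⟨h.ZV hz, mem_centralizer_iff.2 fun x hx => h.cZ x (hE hx) z hz⟩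
  set F := E ⊓ centralizer (V : Set G) with hF
  have hle : V ⊔ (X ⊓ centralizer (E : Set G)) ≤ X ⊓ centralizer (F : Set G) := by
    refine sup_le (le_inf hVX fun u hu => mem_centralizer_iff.2 fun a ha => ?_) ?_
    · exact (mem_centralizer_iff.1 ha.2 u hu).symm
    · exact inf_le_inf_left _ (centralizer_le inf_le_left)
  have h1 := card_sup_comm (A := V) (B := X ⊓ centralizer (E : Set G)) fun a ha b hb => hX a (hVX ha) b hb.1
  have h2 : V ⊓ (X ⊓ centralizer (E : Set G)) = Z := by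
    rw [← inf_assoc, inf_eq_left.2 hVX, hCV]
  rw [h2, h.card] at h1
  have hp : 0 < Nat.card Z := Nat.card_pos
  have h3 : Nat.card ↥(V ⊔ (X ⊓ centralizer (E : Set G))) = q * Nat.card ↥(X ⊓ centralizer (E : Set G)) := by
    refine Nat.eq_of_mul_eq_mul_right hp ?_
    rw [h1]; ring
  have h4 := hb F (inf_le_inf_left _ (centralizer_le hVX)) inf_le_left
  have h5 := Subgroup.card_le_of_le hle
  have hpE : 0 < Nat.card ↥(X ⊓ centralizer (E : Set G)) := Nat.card_pos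
  have h6 : q * Nat.card F ≤ Nat.card E := by
    refine Nat.le_of_mul_le_mul_right ?_ hpE
    calc q * Nat.card F * Nat.card ↥(X ⊓ centralizer (E : Set G))
        = Nat.card F * Nat.card ↥(V ⊔ (X ⊓ centralizer (E : Set G))) := by rw [h3]; ring
      _ ≤ Nat.card F * Nat.card ↥(X ⊓ centralizer (F : Set G)) := Nat.mul_le_mul_left _ h5
      _ ≤ _ := h4
  have h7 := h.card_le hE
  have h8 : q * Nat.card F = Nat.card E := le_antisymm h6 h7
  refine ⟨h.comm_eq hE h6, hCV, h8, ?_⟩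
  symm
  refine Subgroup.eq_of_le_of_card_ge hle ?_
  have hpF : 0 < Nat.card F := Nat.card_pos
  refine Nat.le_of_mul_le_mul_left ?_ hpF
  calc _ ≤ Nat.card E * Nat.card ↥(X ⊓ centralizer (E : Set G)) := h4
    _ = _ := by rw [h3, ← h8]; ring

end md

/-! ### The frame -/

/-- The frame at a level. -/
structure FrL {ι : Type*} (B Q V X ZJ : Subgroup G) (L W Z C A : ι → Subgroup G) (q : ℕ) : Prop where
  blk : ∀ i, FB B (L i) (W i) (Z i) q
  cardZ : ∀ i, Nat.card (Z i) = q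
  QB : Q ≤ B
  VQ : V ≤ Q
  elX : IsElementaryAbelian 2 X
  VX : V ≤ X
  mem_Q : ∀ x ∈ B, (x ∈ Q ↔ ∀ v ∈ V, x * v = v * x)
  zcQ : ∀ x ∈ Q, x ^ 2 = 1 → (∀ y ∈ Q, x * y = y * x) → x ∈ V
  mem_ZJ : ∀ v, v ∈ ZJ ↔ v ∈ V ∧ ∀ b ∈ B, b * v = v * b
  LV : ∀ i, ∀ l ∈ L i, ∀ v ∈ V, l * v * l⁻¹ ∈ V
  LQ : ∀ i, ∀ l ∈ L i, ∀ x ∈ Q, l * x * l⁻¹ ∈ Q
  LX : ∀ i, ∀ l ∈ L i, ∀ x ∈ X, l * x * l⁻¹ ∈ X
  WV : ∀ i, W i ≤ V
  CV : ∀ i, C i ≤ V
  WC : ∀ i, ∀ v ∈ V, ∃ w ∈ W i, ∃ c ∈ C i, v = w * c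
  dir : ∀ i, W i ⊓ C i = ⊥
  C0 : ∀ x ∈ V, (∀ i, x ∈ C i) → x = 1
  WjC : ∀ i j, i ≠ j → W j ≤ C i
  BC : ∀ i, ∀ b ∈ B, ∀ c ∈ C i, b * c * b⁻¹ ∈ C i
  LC : ∀ i, ∀ l ∈ L i, ∀ z ∈ ZJ, z ∈ C i → l * z = z * l
  AB : ∀ i, A i ≤ B
  AX : ∀ i, ElemM X (A i)
  best : ∀ i, Best X (A i)
  Ane : ∀ i, ¬ ∀ a ∈ A i, ∀ v ∈ W i, a * v = v * a
  AC : ∀ i, ∀ a ∈ A i, ∀ c ∈ C i, a * c = c * a

namespace FrL

variable {ι : Type*} {B Q V X ZJ : Subgroup G} {L W Z C A : ι → Subgroup G} {q : ℕ}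

theorem Vc (h : FrL B Q V X ZJ L W Z C A q) {v w : G} (hv : v ∈ V) (hw : w ∈ V) : v * w = w * v :=
  elem_comm h.elX v (h.VX hv) w (h.VX hw)

theorem cQ (h : FrL B Q V X ZJ L W Z C A q) {x : G} (hx : x ∈ Q) {v : G} (hv : v ∈ V) : x * v = v * x :=
  (h.mem_Q x (h.QB hx)).1 hx v hv

theorem ZV (h : FrL B Q V X ZJ L W Z C A q) (i : ι) : Z i ≤ V := (h.blk i).ZV.trans (h.WV i)

theorem ZJV (h : FrL B Q V X ZJ L W Z C A q) : ZJ ≤ V := fun z hz => ((h.mem_ZJ z).1 hz).1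

theorem Z_le (h : FrL B Q V X ZJ L W Z C A q) (i : ι) : Z i ≤ ZJ := fun z hz =>
  (h.mem_ZJ z).2 ⟨h.ZV i hz, fun b hb => (h.blk i).cZ b hb z hz⟩

theorem uniq (h : FrL B Q V X ZJ L W Z C A q) {i : ι} {w w' c c' : G} (hw : w ∈ W i) (hw' : w' ∈ W i)
    (hc : c ∈ C i) (hc' : c' ∈ C i) (e : w * c = w' * c') : w = w' ∧ c = c' := by
  have e1 : w'⁻¹ * w = c' * c⁻¹ := by
    calc w'⁻¹ * w = w'⁻¹ * (w * c) * c⁻¹ := by group
      _ = w'⁻¹ * (w' * c') * c⁻¹ := by rw [e]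
      _ = c' * c⁻¹ := by group
  have h1 : w'⁻¹ * w ∈ W i ⊓ C i :=
    mem_inf.2 ⟨mul_mem (inv_mem hw') hw, by rw [e1]; exact mul_mem hc' (inv_mem hc)⟩
  rw [h.dir i, mem_bot] at h1
  have h2 : w = w' := (inv_mul_eq_one.1 h1).symm
  subst h2
  exact ⟨rfl, mul_left_cancel e⟩

/-- the components of an element of `ZJ` lie in `Z i` and `ZJ` -/
theorem split_ZJ (h : FrL B Q V X ZJ L W Z C A q) (i : ι) {z : G} (hz : z ∈ ZJ) :
    ∃ w ∈ Z i, ∃ c ∈ C i, c ∈ ZJ ∧ z = w * c := by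
  obtain ⟨hzV, hzB⟩ := (h.mem_ZJ z).1 hz
  obtain ⟨w, hw, c, hc, e⟩ := h.WC i z hzV
  have key : ∀ b ∈ B, b * w * b⁻¹ = w ∧ b * c * b⁻¹ = c := by
    intro b hb
    refine h.uniq ((h.blk i).BV hb hw) hw (h.BC i b hb c hc) hc ?_
    have h1 := hzB b hb
    rw [← e]
    calc b * w * b⁻¹ * (b * c * b⁻¹) = b * (w * c) * b⁻¹ := by group
      _ = b * z * b⁻¹ := by rw [← e]
      _ = z := by rw [h1]; group
  refine ⟨w, (h.blk i).mem_Z_iff.2 ⟨hw, fun b hb => ?_⟩, c, hc, (h.mem_ZJ c).2 ⟨h.CV i hc, fun b hb => ?_⟩, e⟩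
  · exact mul_inv_eq_iff_eq_mul.1 (key b hb).1
  · exact mul_inv_eq_iff_eq_mul.1 (key b hb).2

/-- `Ω₁Z(B) = ZJ`. -/
theorem zcB (h : FrL B Q V X ZJ L W Z C A q) : zc B = ZJ := by
  ext z
  rw [ChoiceBase.mem_zc, h.mem_ZJ]
  constructor
  · rintro ⟨h1, h2, h3⟩
    have h4 : z ∈ Q := (h.mem_Q z h1).2 fun v hv => (h3 v (h.QB (h.VQ hv))).symm
    exact ⟨h.zcQ z h4 h2 fun y hy => (h3 y (h.QB hy)).symm, fun b hb => h3 b hb⟩
  · rintro ⟨h1, h2⟩
    exact ⟨h.QB (h.VQ h1), elem_sq h.elX z (h.VX h1), h2⟩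

/-- the natural module: conjugates of `Z i` are equal or meet trivially -/
theorem tri' (h : FrL B Q V X ZJ L W Z C A q) [Finite G] {i : ι} {l : G} (hl : l ∈ L i) (hne : cj l (Z i) ≠ Z i) :
    cj l (Z i) ⊓ Z i = ⊥ := by
  have hb := h.blk i
  rcases hb.tri l hl with h1 | h1
  · exact absurd h1 hne
  -- `X = C_W(L)` is trivial
  obtain ⟨k, hk, hs⟩ := hb.sup
  set D := Z i ⊓ centralizer (L i : Set G) with hD
  have h2 : ⁅W i, B⁆ ≤ Z i := hb.comm_le le_rfl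
  have hcjW : cj k (Z i) ≤ W i := by
    rintro _ ⟨z, hz, rfl⟩
    exact hb.nV k hk z (hb.ZV hz)
  have hs' : W i = Z i ⊔ cj k (Z i) :=
    le_antisymm (hs.trans (sup_le (h2.trans le_sup_left) ((cj_mono k h2).trans le_sup_right)))
      (sup_le hb.ZV hcjW)
  have hcc := card_sup_comm (A := Z i) (B := cj k (Z i)) fun a ha b hb' => hb.comm (hb.ZV ha) (hcjW hb')
  rw [← hs', hb.card, card_cj] at hcc
  have hDk : D ≤ Z i ⊓ cj k (Z i) := by
    intro z hz0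
    obtain ⟨hz, hzc⟩ := mem_inf.1 hz0
    refine mem_inf.2 ⟨hz, ?_⟩
    rw [mem_cj]
    have h3 := mem_centralizer_iff.1 hzc k hk
    have h4 : k⁻¹ * z * k = z := by
      calc k⁻¹ * z * k = k⁻¹ * (z * k) := by group
        _ = k⁻¹ * (k * z) := by rw [h3]
        _ = z := by group
    rwa [h4]
  have h3 : Nat.card ↥(Z i ⊓ cj k (Z i)) = 1 := by
    have hq := h.cardZ i
    rw [hq] at hcc
    have hq0 : 0 < q * q := Nat.mul_pos (by have := hb.one; omega) (by have := hb.one; omega)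
    exact Nat.eq_of_mul_eq_mul_left hq0 (by rw [hcc, mul_one])
  have h4 : Z i ⊓ cj k (Z i) = ⊥ := by
    rw [← Subgroup.card_eq_one]; exact h3
  rw [eq_bot_iff]
  intro x hx
  have : x ∈ D := ⟨hx.2, h1 hx⟩
  have h5 := hDk this
  rwa [h4] at h5

theorem exists_mv (h : FrL B Q V X ZJ L W Z C A q) [Finite G] (i : ι) : ∃ l ∈ L i, cj l (Z i) ≠ Z i := by
  have hb := h.blk i
  obtain ⟨k, hk, hs⟩ := hb.sup
  refine ⟨k, hk, fun e => ?_⟩
  have h2 : ⁅W i, B⁆ ≤ Z i := hb.comm_le le_rfl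
  have h3 : W i ≤ Z i := hs.trans (sup_le h2 ((cj_mono k h2).trans e.le))
  have h4 := Subgroup.card_le_of_le h3
  rw [hb.card] at h4
  have h5 : 0 < Nat.card (Z i) := Nat.card_pos
  have h6 := hb.one
  nlinarith

/-- `ZJ^l ∩ Z i = 1`. -/
theorem cj_ZJ (h : FrL B Q V X ZJ L W Z C A q) [Finite G] {i : ι} {l : G} (hl : l ∈ L i) (hne : cj l (Z i) ≠ Z i) :
    cj l ZJ ⊓ Z i = ⊥ := by
  rw [eq_bot_iff]
  intro x hx0
  obtain ⟨hx1, hx2⟩ := mem_inf.1 hx0
  rw [mem_cj] at hx1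
  obtain ⟨w, hw, c, hc, hcJ, e⟩ := h.split_ZJ i hx1
  have hlc := h.LC i l hl c hcJ hc
  have e1 : x = (l * w * l⁻¹) * c := by
    calc x = l * (l⁻¹ * x * l) * l⁻¹ := by group
      _ = l * (w * c) * l⁻¹ := by rw [e]
      _ = (l * w * l⁻¹) * (l * c * l⁻¹) := by group
      _ = (l * w * l⁻¹) * c := by rw [hlc]; group
  have h1 := h.uniq (i := i) (w := x) (w' := l * w * l⁻¹) (c := 1) (c' := c) ((h.blk i).ZV hx2)
    ((h.blk i).nV l hl w ((h.blk i).ZV hw)) (one_mem _) hc (by rw [mul_one]; exact e1)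
  have h2 : x ∈ cj l (Z i) ⊓ Z i := ⟨by rw [h1.1]; exact ⟨w, hw, rfl⟩, hx2⟩
  rwa [h.tri' hl hne] at h2

theorem el (h : FrL B Q V X ZJ L W Z C A q) : IsElementaryAbelian 2 V := isElementaryAbelian_mono h.elX h.VX

theorem Xc (h : FrL B Q V X ZJ L W Z C A q) : ∀ x ∈ X, ∀ y ∈ X, x * y = y * x := elem_comm h.elX

/-- `A i` acts as the full root group on `W i`. -/
theorem A_full (h : FrL B Q V X ZJ L W Z C A q) [Finite G] (i : ι) :
    ⁅W i, A i⁆ = ⁅W i, B⁆ ∧ W i ⊓ centralizer (A i : Set G) = Z i ∧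
      q * Nat.card ↥(A i ⊓ centralizer (W i : Set G)) = Nat.card (A i) := by
  rcases fullX (h.blk i).toMd h.Xc ((h.WV i).trans h.VX) (h.AB i) (h.best i) with h1 | ⟨h1, h2, h3, -⟩
  · exact absurd h1 (h.Ane i)
  · exact ⟨h1, h2, h3⟩

/-- an element of `A i` centralising `W i` lies in `Q` -/
theorem A_Q (h : FrL B Q V X ZJ L W Z C A q) {i : ι} {a : G} (ha : a ∈ A i) (hc : ∀ v ∈ W i, a * v = v * a) : a ∈ Q := by
  refine (h.mem_Q a (h.AB i ha)).2 fun v hv => ?_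
  obtain ⟨w, hw, c, hc', rfl⟩ := h.WC i v hv
  have c1 : Commute a w := hc w hw
  have c2 : Commute a c := h.AC i a ha c hc'
  exact (c1.mul_right c2).eq

theorem A_inf_Q (h : FrL B Q V X ZJ L W Z C A q) (i : ι) : A i ⊓ Q = A i ⊓ centralizer (W i : Set G) := by
  apply le_antisymm
  · rintro a ⟨ha, haQ⟩
    exact ⟨ha, mem_centralizer_iff.2 fun w hw => (h.cQ haQ (h.WV i hw)).symm⟩
  · rintro a ⟨ha, hac⟩
    exact ⟨ha, h.A_Q ha fun v hv => (mem_centralizer_iff.1 hac v hv).symm⟩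

/-- `C_V(A i) = Z i * C i`. -/
theorem CVA (h : FrL B Q V X ZJ L W Z C A q) [Finite G] (i : ι) : V ⊓ centralizer (A i : Set G) = Z i ⊔ C i := by
  apply le_antisymm
  · rintro v ⟨hv, hvc⟩
    obtain ⟨w, hw, c, hc, rfl⟩ := h.WC i v hv
    refine mul_mem (mem_sup_left ?_) (mem_sup_right hc)
    rw [← (h.A_full i).2.1]
    refine ⟨hw, mem_centralizer_iff.2 fun a ha => ?_⟩
    have h1 := mem_centralizer_iff.1 hvc a ha
    have h2 := h.AC i a ha c hc
    calc a * w = a * (w * c) * c⁻¹ := by group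
      _ = (w * c) * a * c⁻¹ := by rw [h1]
      _ = w * (c * a) * c⁻¹ := by group
      _ = w * (a * c) * c⁻¹ := by rw [h2]
      _ = w * a := by group
  · refine sup_le (fun z hz => ⟨h.ZV i hz, mem_centralizer_iff.2 fun a ha => (h.blk i).cZ a (h.AB i ha) z hz⟩) ?_
    exact fun c hc => ⟨h.CV i hc, mem_centralizer_iff.2 fun a ha => h.AC i a ha c hc⟩

/-- `|V : C_V(A i)| = q`. -/
theorem card_CVA (h : FrL B Q V X ZJ L W Z C A q) [Finite G] (i : ι) :
    Nat.card V = Nat.card ↥(V ⊓ centralizer (A i : Set G)) * q := by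
  have hV : V = W i ⊔ (Z i ⊔ C i) := by
    apply le_antisymm
    · intro v hv
      obtain ⟨w, hw, c, hc, rfl⟩ := h.WC i v hv
      exact mul_mem (mem_sup_left hw) (mem_sup_right (mem_sup_right hc))
    · exact sup_le (h.WV i) (sup_le (h.ZV i) (h.CV i))
  have hle : Z i ⊔ C i ≤ V := sup_le (h.ZV i) (h.CV i)
  have h1 := card_sup_comm (A := W i) (B := Z i ⊔ C i) fun a ha b hb => h.Vc (h.WV i ha) (hle hb)
  have h2 : W i ⊓ (Z i ⊔ C i) = Z i := by
    apply le_antisymm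
    · rintro x ⟨hx, hx'⟩
      obtain ⟨z, hz, c, hc, rfl⟩ := mem_sup_comm (fun a ha b hb => h.Vc (h.ZV i ha) (h.CV i hb)) hx'
      have h3 := h.uniq (i := i) hx ((h.blk i).ZV hz) (one_mem _) hc (by rw [mul_one])
      rw [h3.1]; exact hz
    · exact fun z hz => ⟨(h.blk i).ZV hz, mem_sup_left hz⟩
  rw [← hV, h2, (h.blk i).card] at h1
  rw [h.CVA i]
  have h3 : 0 < Nat.card (Z i) := Nat.card_pos
  refine Nat.eq_of_mul_eq_mul_right h3 ?_
  rw [h1]; ring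

/-- an element centralised by all `A i` lies in `ZJ` -/
theorem mem_ZJ_of (h : FrL B Q V X ZJ L W Z C A q) [Finite G] {v : G} (hv : v ∈ V)
    (hA : ∀ i, ∀ a ∈ A i, a * v = v * a) : v ∈ ZJ := by
  refine (h.mem_ZJ v).2 ⟨hv, fun b hb => ?_⟩
  have hbV : b * v * b⁻¹ * v⁻¹ ∈ V := by
    refine mul_mem ?_ (inv_mem hv)
    by_cases hι : Nonempty ι
    · obtain ⟨i⟩ := hι
      exact h.LV i b ((h.blk i).BL hb) v hv
    · have : v = 1 := h.C0 v hv fun i => absurd ⟨i⟩ hι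
      rw [this]; simp
  have h1 : b * v * b⁻¹ * v⁻¹ = 1 := by
    refine h.C0 _ hbV fun i => ?_
    have h2 : v ∈ V ⊓ centralizer (A i : Set G) := ⟨hv, mem_centralizer_iff.2 fun a ha => hA i a ha⟩
    rw [h.CVA i] at h2
    obtain ⟨z, hz, c, hc, rfl⟩ := mem_sup_comm (fun a ha b hb => h.Vc (h.ZV i ha) (h.CV i hb)) h2
    have hbz := (h.blk i).cZ b hb z hz
    have hbc := h.BC i b hb c hc
    have hcz : z * c = c * z := h.Vc (h.ZV i hz) (h.CV i hc)
    have e : b * (z * c) * b⁻¹ * (z * c)⁻¹ = (b * z * b⁻¹) * (b * c * b⁻¹) * c⁻¹ * z⁻¹ := by group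
    have e1 : b * z * b⁻¹ = z := by rw [hbz]; group
    rw [e, e1]
    have e2 : z * (b * c * b⁻¹) = (b * c * b⁻¹) * z := h.Vc (h.ZV i hz) (h.CV i hbc)
    have e3 : z * (b * c * b⁻¹) * c⁻¹ * z⁻¹ = b * c * b⁻¹ * c⁻¹ := by
      have e4 : z * c⁻¹ = c⁻¹ * z := h.Vc (h.ZV i hz) (inv_mem (h.CV i hc))
      calc z * (b * c * b⁻¹) * c⁻¹ * z⁻¹ = (b * c * b⁻¹) * (z * c⁻¹) * z⁻¹ := by rw [e2]; group
        _ = b * c * b⁻¹ * c⁻¹ := by rw [e4]; group
    rw [e3]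
    exact mul_mem hbc (inv_mem hc)
  exact mul_inv_eq_iff_eq_mul.1 (mul_inv_eq_one.1 h1)

/-- `[v, A i] ≤ Z i` -/
theorem A_comm (h : FrL B Q V X ZJ L W Z C A q) {i : ι} {a : G} (ha : a ∈ A i) {v : G} (hv : v ∈ V) :
    a * v * a⁻¹ * v⁻¹ ∈ Z i := by
  obtain ⟨w, hw, c, hc, rfl⟩ := h.WC i v hv
  have h1 := h.AC i a ha c hc
  have e : a * (w * c) * a⁻¹ * (w * c)⁻¹ = a * w * a⁻¹ * (a * c * a⁻¹) * c⁻¹ * w⁻¹ := by group
  have e1 : a * c * a⁻¹ = c := by rw [h1]; group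
  rw [e, e1]
  have e2 : a * w * a⁻¹ * c * c⁻¹ * w⁻¹ = a * w * a⁻¹ * w⁻¹ := by group
  rw [e2]
  exact (h.blk i).com a (h.AB i ha) w hw

theorem BQ (h : FrL B Q V X ZJ L W Z C A q) (i : ι) {x y : G} (hx : x ∈ L i) (hy : y ∈ Q) : x * y * x⁻¹ ∈ Q :=
  h.LQ i x hx y hy

theorem cj_Q (h : FrL B Q V X ZJ L W Z C A q) {i : ι} {x : G} (hx : x ∈ L i) : cj x Q = Q := by
  apply le_antisymm
  · rintro _ ⟨v, hv, rfl⟩
    exact h.LQ i x hx v hv
  · intro v hv
    rw [mem_cj]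
    have := h.LQ i x⁻¹ (inv_mem hx) v hv
    rwa [inv_inv] at this

theorem cj_V (h : FrL B Q V X ZJ L W Z C A q) {i : ι} {x : G} (hx : x ∈ L i) : cj x V = V := by
  apply le_antisymm
  · rintro _ ⟨v, hv, rfl⟩
    exact h.LV i x hx v hv
  · intro v hv
    rw [mem_cj]
    have := h.LV i x⁻¹ (inv_mem hx) v hv
    rwa [inv_inv] at this

/-- If `l` moves `Z i`, `w₀ ≠ 1` in `Z i`, then an element of `A i` centralising `w₀^l` centralises `W i`. -/
theorem A_of_comm (h : FrL B Q V X ZJ L W Z C A q) [Finite G] {i : ι} {l : G} (hl : l ∈ L i) (hne : cj l (Z i) ≠ Z i)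
    {w₀ : G} (hw : w₀ ∈ Z i) (h1 : w₀ ≠ 1) {a : G} (ha : a ∈ A i) (hc : a * (l * w₀ * l⁻¹) = l * w₀ * l⁻¹ * a) :
    ∀ v ∈ W i, a * v = v * a := by
  refine (h.blk i).free a (h.AB i ha) _ ((h.blk i).nV l hl w₀ ((h.blk i).ZV hw)) (fun hz => h1 ?_) hc
  have h2 : l * w₀ * l⁻¹ ∈ cj l (Z i) ⊓ Z i := mem_inf.2 ⟨⟨w₀, hw, rfl⟩, hz⟩
  rw [h.tri' hl hne, mem_bot] at h2
  have h3 := congrArg (fun t => l⁻¹ * t * l) h2
  simpa [mul_assoc] using h3

section uni

variable {V' Z' : Subgroup G} {q' : ℕ}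

theorem le_Q (h : FrL B Q V X ZJ L W Z C A q) (h' : Md B V' Z' q') (hV' : V' ≤ X) :
    V' ≤ Q := fun w hw => (h.mem_Q w (h'.VB hw)).2 fun v hv => h.Xc w (hV' hw) v (h.VX hv)

theorem Z'_le (h : FrL B Q V X ZJ L W Z C A q) (h' : Md B V' Z' q') (hV' : V' ≤ X) :
    Z' ≤ ZJ := by
  intro z hz
  have h1 := h'.cZ
  refine (h.mem_ZJ z).2 ⟨h.zcQ z (h.le_Q h' hV' (h'.ZV hz)) (elem_sq h'.el z (h'.ZV hz)) fun y hy => ?_,
    fun b hb => h1 b hb z hz⟩
  exact (h1 y (h.QB hy) z hz).symm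

theorem cj_X (h : FrL B Q V X ZJ L W Z C A q) {i : ι} {x : G} (hx : x ∈ L i) : cj x X = X := by
  apply le_antisymm
  · rintro _ ⟨v, hv, rfl⟩
    exact h.LX i x hx v hv
  · intro v hv
    rw [mem_cj]
    have := h.LX i x⁻¹ (inv_mem hx) v hv
    rwa [inv_inv] at this

/-- `C_X(A i ∩ Q) = V C_X(A i)` and `A i ∩ Q` is a best offender. -/
theorem cut (h : FrL B Q V X ZJ L W Z C A q) [Finite G] (i : ι) :
    X ⊓ centralizer ((A i ⊓ Q : Subgroup G) : Set G) = V ⊔ (X ⊓ centralizer (A i : Set G)) ∧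
      Best X (A i ⊓ Q) := by
  obtain ⟨-, -, f3⟩ := h.A_full i
  rw [← h.A_inf_Q i] at f3
  have hle : V ⊔ (X ⊓ centralizer (A i : Set G)) ≤ X ⊓ centralizer ((A i ⊓ Q : Subgroup G) : Set G) := by
    refine sup_le (le_inf h.VX fun u hu => mem_centralizer_iff.2 fun a ha => h.cQ (mem_inf.1 ha).2 hu) ?_
    exact inf_le_inf_left _ (centralizer_le inf_le_left)
  have h1 := card_sup_comm (A := V) (B := X ⊓ centralizer (A i : Set G)) fun a ha b hb => h.Xc a (h.VX ha) b hb.1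
  have h2 : V ⊓ (X ⊓ centralizer (A i : Set G)) = V ⊓ centralizer (A i : Set G) := by
    rw [← inf_assoc, inf_eq_left.2 h.VX]
  rw [h2, h.card_CVA i] at h1
  have hp : 0 < Nat.card ↥(V ⊓ centralizer (A i : Set G)) := Nat.card_pos
  have h3 : Nat.card ↥(V ⊔ (X ⊓ centralizer (A i : Set G))) = q * Nat.card ↥(X ⊓ centralizer (A i : Set G)) := by
    refine Nat.eq_of_mul_eq_mul_right hp ?_
    rw [h1]; ring
  have hAX : A i ⊓ centralizer (X : Set G) ≤ A i ⊓ Q := by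
    refine le_inf inf_le_left fun a ha => (h.mem_Q a (h.AB i ha.1)).2 fun v hv => ?_
    exact (mem_centralizer_iff.1 ha.2 v (h.VX hv)).symm
  have h4 := h.best i _ hAX inf_le_left
  have h5 := Subgroup.card_le_of_le hle
  have hpQ : 0 < Nat.card ↥(A i ⊓ Q) := Nat.card_pos
  have h6 : X ⊓ centralizer ((A i ⊓ Q : Subgroup G) : Set G) = V ⊔ (X ⊓ centralizer (A i : Set G)) := by
    symm
    refine Subgroup.eq_of_le_of_card_ge hle ?_
    refine Nat.le_of_mul_le_mul_left ?_ hpQ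
    calc _ ≤ Nat.card (A i) * Nat.card ↥(X ⊓ centralizer (A i : Set G)) := h4
      _ = _ := by rw [h3, ← f3]; ring
  refine ⟨h6, fun F hF hFA => ?_⟩
  have h7 : A i ⊓ centralizer (X : Set G) ≤ F := le_trans (le_inf hAX inf_le_right) hF
  have h8 := h.best i F h7 (hFA.trans inf_le_left)
  refine h8.trans (le_of_eq ?_)
  rw [h6, h3, ← f3]
  ring

/-- Step 1: `[V', Q] ≤ C i`. -/
theorem comm_C (h : FrL B Q V X ZJ L W Z C A q) [Finite G] (h' : Md B V' Z' q')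
    (hV' : V' ≤ X) (i : ι) : ⁅V', Q⁆ ≤ C i := by
  intro n₀ hn₀
  by_contra hnC
  have hV'Q := h.le_Q h' hV'
  have hZ'J := h.Z'_le h' hV'
  have hDZ : ⁅V', B⁆ ≤ Z' := h'.comm_le le_rfl
  have hND : ⁅V', Q⁆ ≤ ⁅V', B⁆ := commutator_mono le_rfl h.QB
  have hn₀J : n₀ ∈ ZJ := hZ'J (hDZ (hND hn₀))
  obtain ⟨w₀, hw₀, c₀, hc₀, hc₀J, e₀⟩ := h.split_ZJ i hn₀J
  have hw₀1 : w₀ ≠ 1 := by
    rintro rfl
    rw [one_mul] at e₀
    exact hnC (e₀ ▸ hc₀)
  obtain ⟨l, hl, hmv⟩ := h.exists_mv i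
  have hJ := h.cj_ZJ hl hmv
  have hBL := (h.blk i).BL
  have hAL : ∀ a ∈ A i, a ∈ L i := fun a ha => hBL (h.AB i ha)
  -- the element `y = n₀^l`
  have hy : l * n₀ * l⁻¹ = (l * w₀ * l⁻¹) * c₀ := by
    have h1 := h.LC i l hl c₀ hc₀J hc₀
    calc l * n₀ * l⁻¹ = l * (w₀ * c₀) * l⁻¹ := by rw [e₀]
      _ = (l * w₀ * l⁻¹) * (l * c₀ * l⁻¹) := by group
      _ = (l * w₀ * l⁻¹) * c₀ := by rw [h1]; group
  have hyA : ∀ a ∈ A i, a * (l * n₀ * l⁻¹) = l * n₀ * l⁻¹ * a → ∀ v ∈ W i, a * v = v * a := by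
    intro a ha h1
    refine h.A_of_comm hl hmv hw₀ hw₀1 ha ?_
    have h2 := h.AC i a ha c₀ hc₀
    have h3 : l * w₀ * l⁻¹ = l * n₀ * l⁻¹ * c₀⁻¹ := by rw [hy]; group
    have c1 : Commute a (l * n₀ * l⁻¹) := h1
    have c2 : Commute a c₀ := h2
    rw [h3]
    exact (c1.mul_right c2.inv_right).eq
  have hyV : l * n₀ * l⁻¹ ∈ V := h.LV i l hl _ (h.ZJV hn₀J)
  -- it is enough that `A i` normalises a group between `[V', Q]^l` and `ZJ^l`
  have key : ∀ N : Subgroup G, cj l ⁅V', Q⁆ ≤ N → N ≤ cj l ZJ → (∀ a ∈ A i, ∀ n ∈ N, a * n * a⁻¹ ∈ N) → False := by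
    intro N h1 h2 h3
    refine h.Ane i fun a ha => hyA a ha ?_
    have hn : l * n₀ * l⁻¹ ∈ N := h1 ⟨n₀, hn₀, rfl⟩
    have h4 : a * (l * n₀ * l⁻¹) * a⁻¹ * (l * n₀ * l⁻¹)⁻¹ ∈ cj l ZJ ⊓ Z i :=
      mem_inf.2 ⟨h2 (mul_mem (h3 a ha _ hn) (inv_mem hn)), h.A_comm ha hyV⟩
    rw [hJ, mem_bot] at h4
    exact mul_inv_eq_iff_eq_mul.1 (mul_inv_eq_one.1 h4)
  set W' : Subgroup G := cj l V' with hW'
  have M₁ := h'.conj l
  have hQ1 : Q ≤ cj l B := by rw [← h.cj_Q hl]; exact cj_mono l h.QB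
  have hW'X : W' ≤ X := by rw [hW', ← h.cj_X hl]; exact cj_mono l hV'
  have hWQ : cj l ⁅V', Q⁆ = ⁅W', Q⁆ := by
    have h1 : cj l ⁅V', Q⁆ = ⁅cj l V', cj l Q⁆ := Subgroup.map_commutator _ _ _
    rw [h1, h.cj_Q hl]
  obtain ⟨hcut, hbest⟩ := h.cut i
  rcases fullX M₁ h.Xc hW'X (inf_le_right.trans hQ1) hbest with hE | ⟨hfull, -, -, hCX⟩
  · -- (a)
    have hwa : ∀ w ∈ W', ∀ a ∈ A i, a * w * a⁻¹ * w⁻¹ ∈ Z i := by
      intro w hw a ha
      have h1 : w ∈ X ⊓ centralizer ((A i ⊓ Q : Subgroup G) : Set G) :=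
        ⟨hW'X hw, mem_centralizer_iff.2 fun e he => hE e he w hw⟩
      rw [hcut] at h1
      obtain ⟨v, hv, c, hc, rfl⟩ := mem_sup_comm (A := V) (B := X ⊓ centralizer (A i : Set G))
        (fun a ha b hb => h.Xc a (h.VX ha) b hb.1) h1
      have h2 : a * c = c * a := mem_centralizer_iff.1 hc.2 a ha
      have hac : a * c * a⁻¹ = c := by rw [h2]; group
      have e : a * (v * c) * a⁻¹ * (v * c)⁻¹ = (a * v * a⁻¹) * (a * c * a⁻¹) * c⁻¹ * v⁻¹ := by group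
      have e3 : (a * v * a⁻¹) * c * c⁻¹ * v⁻¹ = a * v * a⁻¹ * v⁻¹ := by group
      rw [e, hac, e3]
      exact h.A_comm ha hv
    refine key (cj l ⁅V', Q⁆) le_rfl (cj_mono l ((hND.trans hDZ).trans hZ'J)) ?_
    rw [hWQ]
    intro a ha
    have h1 : ⁅W', Q⁆ ≤ (⁅W', Q⁆).comap (MulAut.conj a).toMonoidHom := by
      rw [Subgroup.commutator_le]
      intro w hw x hx
      show a * ⁅w, x⁆ * a⁻¹ ∈ ⁅W', Q⁆
      have hx' : a * x * a⁻¹ ∈ Q := h.LQ i a (hAL a ha) x hx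
      have hz := hwa w hw a ha
      set z := a * w * a⁻¹ * w⁻¹ with hz'
      have hzx : z * (a * x * a⁻¹) = (a * x * a⁻¹) * z := (h.cQ hx' (h.ZV i hz)).symm
      have hzw : z * w = w * z := h.Xc z (h.VX (h.ZV i hz)) w (hW'X hw)
      have e : a * ⁅w, x⁆ * a⁻¹ = ⁅w, a * x * a⁻¹⁆ := by
        have e1 : a * w * a⁻¹ = z * w := by rw [hz']; group
        have e2 : a * ⁅w, x⁆ * a⁻¹ = (a * w * a⁻¹) * (a * x * a⁻¹) * (a * w * a⁻¹)⁻¹ * (a * x * a⁻¹)⁻¹ := by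
          rw [commutatorElement_def]; group
        rw [e2, e1, hzw, commutatorElement_def]
        calc w * z * (a * x * a⁻¹) * (w * z)⁻¹ * (a * x * a⁻¹)⁻¹
            = w * (z * (a * x * a⁻¹)) * z⁻¹ * w⁻¹ * (a * x * a⁻¹)⁻¹ := by group
          _ = w * ((a * x * a⁻¹) * z) * z⁻¹ * w⁻¹ * (a * x * a⁻¹)⁻¹ := by rw [hzx]
          _ = _ := by group
      rw [e]
      exact commutator_mem_commutator hw hx'
    intro n hn
    exact h1 hn
  · -- (b)
    have e1 : cj l ⁅V', B⁆ = ⁅cj l V', cj l B⁆ := Subgroup.map_commutator _ _ _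
    refine key (cj l ⁅V', B⁆) (cj_mono l hND) (cj_mono l (hDZ.trans hZ'J)) ?_
    rw [e1, ← hfull]
    intro a ha
    have h1 : ⁅W', A i ⊓ Q⁆ ≤ (⁅W', A i ⊓ Q⁆).comap (MulAut.conj a).toMonoidHom := by
      rw [Subgroup.commutator_le]
      intro w hw e he
      show a * ⁅w, e⁆ * a⁻¹ ∈ ⁅W', A i ⊓ Q⁆
      have haw : a * w * a⁻¹ ∈ X := h.LX i a (hAL a ha) w (hW'X hw)
      -- `a e a⁻¹ = c' e`, `c' ∈ C(X)`
      have hc' : a * e * a⁻¹ * e⁻¹ ∈ centralizer (X : Set G) := (h.AX i).comm a ha e he.1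
      set c' := a * e * a⁻¹ * e⁻¹ with hc'd
      have e2 : a * e * a⁻¹ = c' * e := by rw [hc'd]; group
      -- `a w a⁻¹ = w₁ c`
      have h2 : a * w * a⁻¹ ∈ X ⊓ centralizer ((A i ⊓ Q ⊓ centralizer (W' : Set G) : Subgroup G) : Set G) := by
        refine ⟨haw, mem_centralizer_iff.2 ?_⟩
        rintro f ⟨⟨hfA, hfQ⟩, hfW⟩
        have h3 : a⁻¹ * f * a⁻¹⁻¹ * f⁻¹ ∈ centralizer (X : Set G) := (h.AX i).comm a⁻¹ (inv_mem ha) f hfA
        have h4 : w * f = f * w := mem_centralizer_iff.1 hfW w hw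
        have h5 : w * (a⁻¹ * f * a⁻¹⁻¹ * f⁻¹) = (a⁻¹ * f * a⁻¹⁻¹ * f⁻¹) * w := mem_centralizer_iff.1 h3 w (hW'X hw)
        calc f * (a * w * a⁻¹) = a * ((a⁻¹ * f * a⁻¹⁻¹ * f⁻¹) * (f * w)) * a⁻¹ := by group
          _ = a * ((a⁻¹ * f * a⁻¹⁻¹ * f⁻¹) * (w * f)) * a⁻¹ := by rw [h4]
          _ = a * (((a⁻¹ * f * a⁻¹⁻¹ * f⁻¹) * w) * f) * a⁻¹ := by group
          _ = a * ((w * (a⁻¹ * f * a⁻¹⁻¹ * f⁻¹)) * f) * a⁻¹ := by rw [h5]
          _ = a * w * a⁻¹ * f := by group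
      rw [hCX] at h2
      obtain ⟨w₁, hw₁, c, hc, e3⟩ := mem_sup_comm (A := W') (B := X ⊓ centralizer ((A i ⊓ Q : Subgroup G) : Set G))
        (fun a ha b hb => h.Xc a (hW'X ha) b hb.1) h2
      have h6 : e * c = c * e := mem_centralizer_iff.1 hc.2 e he
      have h7 : (w₁ * c) * c' = c' * (w₁ * c) := mem_centralizer_iff.1 hc' _ (e3 ▸ haw)
      have e4 : a * ⁅w, e⁆ * a⁻¹ = ⁅w₁, e⁆ := by
        have e5 : a * ⁅w, e⁆ * a⁻¹ = (a * w * a⁻¹) * (a * e * a⁻¹) * (a * w * a⁻¹)⁻¹ * (a * e * a⁻¹)⁻¹ := by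
          rw [commutatorElement_def]; group
        rw [e5, e2, e3, commutatorElement_def]
        calc w₁ * c * (c' * e) * (w₁ * c)⁻¹ * (c' * e)⁻¹
            = ((w₁ * c) * c') * (e * c⁻¹) * w₁⁻¹ * e⁻¹ * c'⁻¹ := by group
          _ = (c' * (w₁ * c)) * (e * c⁻¹) * w₁⁻¹ * e⁻¹ * c'⁻¹ := by rw [h7]
          _ = c' * w₁ * (c * e) * c⁻¹ * w₁⁻¹ * e⁻¹ * c'⁻¹ := by group
          _ = c' * w₁ * (e * c) * c⁻¹ * w₁⁻¹ * e⁻¹ * c'⁻¹ := by rw [h6]
          _ = c' * (w₁ * e * w₁⁻¹ * e⁻¹) * c'⁻¹ := by group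
          _ = w₁ * e * w₁⁻¹ * e⁻¹ := by
            have h8 : w₁ * e * w₁⁻¹ * e⁻¹ ∈ X := by
              have h9 : ⁅w₁, e⁆ ∈ ⁅W', cj l B⁆ := hfull ▸ commutator_mem_commutator hw₁ he
              have h10 := (M₁.comm_le le_rfl) h9
              rw [commutatorElement_def] at h10
              exact hW'X (M₁.ZV h10)
            have h11 := mem_centralizer_iff.1 hc' _ h8
            rw [← h11]; group
      rw [e4]
      exact commutator_mem_commutator hw₁ he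
    intro n hn
    exact h1 hn

/-- Step 2: `V' ≤ V`. -/
theorem le_V (h : FrL B Q V X ZJ L W Z C A q) [Finite G] (h' : Md B V' Z' q')
    (hV' : V' ≤ X) : V' ≤ V := by
  have hV'Q := h.le_Q h' hV'
  have hZ'J := h.Z'_le h' hV'
  have hN : ∀ n ∈ ⁅V', Q⁆, n = 1 := fun n hn =>
    h.C0 n (h.ZJV (hZ'J (h'.comm_le h.QB hn))) fun i => h.comm_C h' hV' i hn
  intro v hv
  refine h.zcQ v (hV'Q hv) (elem_sq h'.el v hv) fun y hy => ?_
  have h1 := hN _ (commutator_mem_commutator hv hy)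
  rwa [commutatorElement_eq_one_iff_mul_comm] at h1

/-- Step 3. -/
theorem of_nontrivial (h : FrL B Q V X ZJ L W Z C A q) [Finite G] (h' : Md B V' Z' q') (hV : V' ≤ V) {i : ι}
    (hi : ¬ ∀ a ∈ A i, ∀ v ∈ V', a * v = v * a) : q' = q ∧ ⁅V', B⁆ = Z i := by
  rcases fullX h' h.Xc (hV.trans h.VX) (h.AB i) (h.best i) with h1 | ⟨h1, h2, h3, -⟩
  · exact absurd h1 hi
  obtain ⟨b, hb, v₀, hv₀, hbv⟩ := h'.ne
  have hv₀Z : v₀ ∉ Z' := fun hz => hbv (h'.cZ b hb v₀ hz)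
  obtain ⟨f1, f2, f3⟩ := h.A_full i
  -- `q' ≤ q`
  have hle : q' ≤ q := by
    set K := V ⊓ centralizer (A i : Set G) with hK
    have h4 := card_sup_comm (A := V') (B := K) fun a ha b hb => h.Vc (hV ha) (mem_inf.1 hb).1
    have h5 : V' ⊓ K = Z' := by
      rw [← h2]
      apply le_antisymm
      · intro x hx
        exact mem_inf.2 ⟨(mem_inf.1 hx).1, (mem_inf.1 (mem_inf.1 hx).2).2⟩
      · intro x hx
        exact mem_inf.2 ⟨(mem_inf.1 hx).1, mem_inf.2 ⟨hV (mem_inf.1 hx).1, (mem_inf.1 hx).2⟩⟩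
    rw [h5, h'.card] at h4
    have h6 : Nat.card ↥(V' ⊔ K) ≤ Nat.card V := Subgroup.card_le_of_le (sup_le hV inf_le_left)
    rw [h.card_CVA i] at h6
    have hp : 0 < Nat.card Z' * Nat.card K := Nat.mul_pos Nat.card_pos Nat.card_pos
    refine Nat.le_of_mul_le_mul_right ?_ hp
    calc q' * (Nat.card Z' * Nat.card K) = Nat.card Z' * q' * Nat.card K := by ring
      _ = Nat.card ↥(V' ⊔ K) * Nat.card Z' := h4.symm
      _ ≤ Nat.card K * q * Nat.card Z' := Nat.mul_le_mul_right _ h6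
      _ = _ := by ring
  -- `q ≤ q'`
  have hA : A i ⊓ centralizer (V' : Set G) ≤ A i ⊓ centralizer (W i : Set G) := by
    intro a ha
    obtain ⟨ha1, ha2⟩ := mem_inf.1 ha
    refine mem_inf.2 ⟨ha1, mem_centralizer_iff.2 fun u hu => ?_⟩
    obtain ⟨w, hw, c, hc, e⟩ := h.WC i v₀ (hV hv₀)
    have hwZ : w ∉ Z i := by
      intro hwZ
      apply hv₀Z
      rw [← h2, mem_inf, mem_centralizer_iff]
      refine ⟨hv₀, fun x hx => ?_⟩
      have c1 : Commute x w := (h.blk i).cZ x (h.AB i hx) w hwZ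
      have c2 : Commute x c := h.AC i x hx c hc
      rw [e]
      exact (c1.mul_right c2).eq
    have c1 : Commute a v₀ := (mem_centralizer_iff.1 ha2 v₀ hv₀).symm
    have c2 : Commute a c := h.AC i a ha1 c hc
    have c3 : Commute a w := by
      have : w = v₀ * c⁻¹ := by rw [e]; group
      rw [this]
      exact c1.mul_right c2.inv_right
    exact ((h.blk i).free a (h.AB i ha1) w hw hwZ c3.eq u hu).symm
  have hge : q ≤ q' := by
    have h4 := Subgroup.card_le_of_le hA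
    have hp : 0 < Nat.card ↥(A i ⊓ centralizer (W i : Set G)) := Nat.card_pos
    refine Nat.le_of_mul_le_mul_right ?_ hp
    rw [f3, ← h3]
    exact Nat.mul_le_mul_left _ h4
  have hq : q' = q := le_antisymm hle hge
  refine ⟨hq, ?_⟩
  have h4 : ⁅V', B⁆ ≤ Z i := by
    rw [← h1, Subgroup.commutator_le]
    intro v hv a ha
    have h5 := h.A_comm ha (hV hv)
    have e : ⁅v, a⁆ = (a * v * a⁻¹ * v⁻¹)⁻¹ := by rw [commutatorElement_def]; group
    rw [e]
    exact inv_mem h5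
  refine Subgroup.eq_of_le_of_card_ge h4 ?_
  obtain ⟨R, hR1, hR2, hR3, hR4⟩ := h'.relIndex_comm (h.AB i) hv₀ hv₀Z
  have h5 : R ≤ ⁅V', B⁆ := by
    intro r hr
    obtain ⟨x, hx, rfl⟩ := hR2 r hr
    have h6 := commutator_mem_commutator hv₀ (h.AB i hx)
    have e : x * v₀ * x⁻¹ * v₀⁻¹ = ⁅v₀, x⁆⁻¹ := by rw [commutatorElement_def]; group
    rw [e]
    exact inv_mem h6
  refine le_trans ?_ (Subgroup.card_le_of_le h5)
  rw [h.cardZ i, ← hq]
  rw [← hR4] at h3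
  exact le_of_eq (Nat.eq_of_mul_eq_mul_right Nat.card_pos h3)

/-- **UNI'** (helper609 #14539 (3), helper938 #15330). -/
theorem uni (h : FrL B Q V X ZJ L W Z C A q) [Finite G] (h' : Md B V' Z' q')
    (hV' : V' ≤ X) : q' = q ∧ ∃ i, ⁅V', B⁆ = Z i ∧ V' ≤ W i ⊔ ZJ := by
  have hV := h.le_V h' hV'
  obtain ⟨b, hb, v₀, hv₀, hbv⟩ := h'.ne
  have hex : ∃ i, ¬ ∀ a ∈ A i, ∀ v ∈ V', a * v = v * a := by
    by_contra hcon
    push Not at hcon
    have h1 := h.mem_ZJ_of (hV hv₀) fun i a ha => hcon i a ha v₀ hv₀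
    exact hbv (((h.mem_ZJ v₀).1 h1).2 b hb)
  obtain ⟨i, hi⟩ := hex
  obtain ⟨hq, hZ⟩ := h.of_nontrivial h' hV hi
  refine ⟨hq, i, hZ, fun v hv => ?_⟩
  obtain ⟨w, hw, c, hc', e⟩ := h.WC i v (hV hv)
  have hcJ : c ∈ ZJ := by
    refine h.mem_ZJ_of (h.CV i hc') fun j a ha => ?_
    by_cases hji : j = i
    · subst hji
      exact h.AC j a ha c hc'
    have h1 : ∀ a ∈ A j, ∀ v ∈ V', a * v = v * a := by
      by_contra hj
      obtain ⟨-, hZj⟩ := h.of_nontrivial h' hV hj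
      have h2 : Z i ≤ W i ⊓ C i := by
        refine le_inf (h.blk i).ZV ?_
        rw [← hZ, hZj]
        exact (h.blk j).ZV.trans (h.WjC i j (Ne.symm hji))
      rw [h.dir i, le_bot_iff] at h2
      have h3 := h.cardZ i
      rw [h2, Subgroup.card_bot] at h3
      have h4 := (h.blk i).one
      omega
    have c1 : Commute a v := h1 a ha v hv
    have c2 : Commute a w := h.AC j a ha w (h.WjC j i hji hw)
    have : c = w⁻¹ * v := by rw [e]; group
    rw [this]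
    exact (c2.inv_right.mul_right c1).eq
  rw [e]
  exact mul_mem (mem_sup_left hw) (mem_sup_right hcJ)

end uni

/-! ### (U1) -/

theorem V_eq (h : FrL B Q V X ZJ L W Z C A q) [Finite ι] : V = ⨆ i, W i := by
  classical
  have := Fintype.ofFinite ι
  refine le_antisymm (fun v hv => ?_) (iSup_le h.WV)
  have key : ∀ s : Finset ι, ∃ u ∈ ⨆ i, W i, ∀ i ∈ s, u⁻¹ * v ∈ C i := by
    intro s
    induction s using Finset.induction_on with
    | empty => exact ⟨1, one_mem _, by simp⟩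
    | insert i s hi ih =>
      obtain ⟨u, hu, h1⟩ := ih
      have huV : u ∈ V := (iSup_le h.WV : (⨆ i, W i) ≤ V) hu
      obtain ⟨w, hw, c, hc, e⟩ := h.WC i (u⁻¹ * v) (mul_mem (inv_mem huV) hv)
      refine ⟨u * w, mul_mem hu (mem_iSup_of_mem i hw), fun j hj => ?_⟩
      have e1 : (u * w)⁻¹ * v = w⁻¹ * (u⁻¹ * v) := by group
      rw [e1]
      rcases Finset.mem_insert.1 hj with rfl | hj
      · rw [e]
        have : w⁻¹ * (w * c) = c := by group
        rwa [this]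
      · have hji : j ≠ i := fun h => hi (h ▸ hj)
        exact mul_mem (inv_mem (h.WjC j i hji hw)) (h1 j hj)
  obtain ⟨u, hu, h1⟩ := key Finset.univ
  have huV : u ∈ V := (iSup_le h.WV : (⨆ i, W i) ≤ V) hu
  have h2 := h.C0 (u⁻¹ * v) (mul_mem (inv_mem huV) hv) fun i => h1 i (Finset.mem_univ i)
  have h3 : v = u := (inv_mul_eq_one.1 h2).symm
  rw [h3]; exact hu

theorem comm_W (h : FrL B Q V X ZJ L W Z C A q) [Finite G] (i : ι) : ⁅W i, B⁆ = Z i :=
  (h.of_nontrivial (h.blk i).toMd (h.WV i) (h.Ane i)).2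

/-- **(U1)**: an element normalising `B` and `X` normalises `V` and permutes the `Z i`. -/
theorem norm_of (h : FrL B Q V X ZJ L W Z C A q) [Finite G] [Finite ι] {g : G} (hg : g ∈ normalizer (B : Set G))
    (hX : g ∈ normalizer (X : Set G)) :
    cj g V = V ∧ ∀ i, ∃ j, cj g (Z i) = Z j ∧ cj g (W i) ≤ W j ⊔ ZJ := by
  have hgB := cj_eq_of_mem_normalizer hg
  have hgX := cj_eq_of_mem_normalizer hX
  have key : ∀ i, ∃ j, cj g (Z i) = Z j ∧ cj g (W i) ≤ W j ⊔ ZJ := by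
    intro i
    have M := (h.blk i).toMd.conj g
    rw [hgB] at M
    obtain ⟨-, j, h1, h2⟩ := h.uni M (by
      rw [← hgX]
      exact cj_mono g ((h.WV i).trans h.VX))
    refine ⟨j, ?_, h2⟩
    have e1 : cj g ⁅W i, B⁆ = ⁅cj g (W i), cj g B⁆ := Subgroup.map_commutator _ _ _
    rw [← h1, ← h.comm_W i, e1, hgB]
  refine ⟨?_, key⟩
  have h1 : cj g V ≤ V := by
    conv_lhs => rw [h.V_eq]
    have e1 : cj g (⨆ i, W i) = ⨆ i, cj g (W i) := Subgroup.map_iSup _ _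
    rw [e1]
    refine iSup_le fun i => ?_
    obtain ⟨j, -, h2⟩ := key i
    exact h2.trans (sup_le (h.WV j) h.ZJV)
  exact Subgroup.eq_of_le_of_card_ge h1 (by rw [card_cj])

end FrL

end Cfsg.Agent.Omega.OM.Lev.Uni

end

section


/-!
# The `q = 2` Baumann argument at levels: `V` with the transvections `t i` and the elements `r i` of order three

`SQ1/BauS.lean`, with a subgroup `J` in place of `J(T)`, a `T`-invariant elementary abelian group `Z` in place of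
`Ω₁(Z(J(T)))` and `B = C_T(Z)`:

* `In0` : the input without `Z`; `In0.mem_N`, `In0.r_d'`, `In0.t_N'` : the action of `t i`, `r i` on `N j`;
  `In0.EE_good` : the elements acting as products of the `t i`; `In0.max'` : `⟨T, r i t i (r i)⁻¹⟩ = H`;
* `In` : `C_V(J) ≤ Z`, `[Z, J V] = 1`, `Z V` is normal in `H`; `In.bau_EE`, `In.mem_star_iff`, `In.star_norm`;
* `ZJ V J = C_V(J)`, `In.of_ZJ` : the case `Z = C_V(J)`.
-/

set_option autoImplicit false

namespace Cfsg.Agent.Omega.OM.Lev.SIn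

open Subgroup Cfsg Cfsg.Agent.PLocal.ThompsonJ Cfsg.Agent.ZN Cfsg.Agent.ZN.ChoiceBase
open Cfsg.Agent.PLocal.ElemAbSup
open Cfsg.Agent.Omega.SQ1.Bau (elem_comm elem_sq mem_sup_comm card_sup_comm mem_sup_norm)
open Cfsg.Agent.Omega.SQ1.BauS (Sim)
open scoped Pointwise

universe u w

variable {G : Type u} [Group G]

/-- Input of the Baumann argument for `q = 2`, with `J` in place of `J(T)`. -/
structure In0 (H T Q V J : Subgroup G) {ι : Type w} (N : ι → Subgroup G) (d t r : ι → G) : Prop where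
  TH : T ≤ H
  QT : Q ≤ T
  VQ : V ≤ Q
  Tp : IsPGroup 2 T
  Qn : ∀ h ∈ H, ∀ x ∈ Q, h * x * h⁻¹ ∈ Q
  Vn : ∀ h ∈ H, ∀ x ∈ V, h * x * h⁻¹ ∈ V
  Vsq : ∀ v ∈ V, v ^ 2 = 1
  VcQ : ∀ x ∈ Q, ∀ v ∈ V, x * v = v * x
  two : ∀ x ∈ H, (∀ v ∈ V, x * v = v * x) → (∃ n : ℕ, x ^ 2 ^ n = 1) → x ∈ Q
  JT : J ≤ T
  tJ : ∀ i, t i ∈ J
  rH : ∀ i, r i ∈ H
  Jt : J ≤ closure (Set.range t) ⊔ Q
  tsq : ∀ i, Sim V (t i * t i) 1
  tt : ∀ i j, Sim V (t i * t j) (t j * t i)
  tr : ∀ i, Sim V (t i * r i) ((r i)⁻¹ * t i)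
  tr' : ∀ i j, i ≠ j → Sim V (t j * r i) (r i * t j)
  r3 : ∀ i, Sim V (r i * r i * r i) 1
  dN : ∀ i, d i ∈ N i
  d1 : ∀ i, d i ≠ 1
  NV : ∀ i, N i ≤ V
  cardN : ∀ i, Nat.card (N i) = 4
  t_comm : ∀ i, ∀ v ∈ V, t i * v * (t i)⁻¹ = v ∨ t i * v * (t i)⁻¹ = d i * v
  r_comm : ∀ i, ∀ v ∈ V, r i * v * (r i)⁻¹ * v⁻¹ ∈ N i
  r_fix : ∀ i, ∀ v ∈ N i, r i * v * (r i)⁻¹ = v → v = 1
  perm : ∀ x ∈ T, ∀ i, ∃ j, x * d i * x⁻¹ = d j ∧ ∀ v ∈ N i, x * v * x⁻¹ ∈ N j
  field : ∀ x ∈ T, (∀ v ∈ V, (∀ y ∈ J, y * v = v * y) → x * v = v * x) →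
    x ∈ closure (Set.range t) ⊔ Q
  max : ∀ X : Subgroup G, T ≤ X → X ≤ H → ∀ i, (∃ x ∈ X, Sim V x (r i)) → H ≤ X

namespace In0

variable {H T Q V J : Subgroup G} {ι : Type w} {N : ι → Subgroup G} {d t r : ι → G}

theorem Vcomm (h : In0 H T Q V J N d t r) : ∀ v ∈ V, ∀ w ∈ V, v * w = w * v :=
  fun v hv w hw => h.VcQ v (h.VQ hv) w hw

theorem Velem (h : In0 H T Q V J N d t r) : IsElementaryAbelian 2 V :=
  isElementaryAbelian_iff.2 ⟨h.Vcomm, h.Vsq⟩

theorem H_norm_Q (h : In0 H T Q V J N d t r) [Finite G] : H ≤ normalizer (Q : Set G) := fun g hg =>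
  mem_normalizer_of_cj_le (by
    intro x hx
    rw [mem_cj] at hx
    have := h.Qn g hg _ hx
    have e : g * (g⁻¹ * x * g) * g⁻¹ = x := by group
    rwa [e] at this)

theorem Vn' (h : In0 H T Q V J N d t r) {g : G} (hg : g ∈ H) : ∀ v ∈ V, g⁻¹ * v * g ∈ V := by
  intro v hv
  have := h.Vn g⁻¹ (inv_mem hg) v hv
  rwa [inv_inv] at this

theorem mulself (h : In0 H T Q V J N d t r) {v : G} (hv : v ∈ V) : v * v = 1 := by
  rw [← pow_two]; exact h.Vsq v hv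

theorem inv_eq (h : In0 H T Q V J N d t r) {v : G} (hv : v ∈ V) : v⁻¹ = v :=
  inv_eq_of_mul_eq_one_left (h.mulself hv)

theorem dV (h : In0 H T Q V J N d t r) (i : ι) : d i ∈ V := h.NV i (h.dN i)

theorem tT (h : In0 H T Q V J N d t r) (i : ι) : t i ∈ T := h.JT (h.tJ i)

theorem tH (h : In0 H T Q V J N d t r) (i : ι) : t i ∈ H := h.TH (h.tT i)

theorem cT (h : In0 H T Q V J N d t r) {x : G} (hx : x ∈ T) (hc : ∀ v ∈ V, x * v = v * x) :
    x ∈ Q := by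
  obtain ⟨n, hn⟩ := h.Tp ⟨x, hx⟩
  exact h.two x (h.TH hx) hc ⟨n, by simpa using congrArg Subtype.val hn⟩

/-! ### The action of `t i`, `r i` on `N j` -/

theorem r_N (h : In0 H T Q V J N d t r) (i : ι) {v : G} (hv : v ∈ N i) : r i * v * (r i)⁻¹ ∈ N i := by
  have h1 := mul_mem (h.r_comm i v (h.NV i hv)) hv
  have e : r i * v * (r i)⁻¹ * v⁻¹ * v = r i * v * (r i)⁻¹ := by group
  rwa [e] at h1

theorem t_d (h : In0 H T Q V J N d t r) (i : ι) : t i * d i * (t i)⁻¹ = d i := by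
  rcases h.t_comm i (d i) (h.dV i) with h1 | h1
  · exact h1
  · exfalso
    rw [h.mulself (h.dV i)] at h1
    apply h.d1 i
    have : d i = (t i)⁻¹ * (t i * d i * (t i)⁻¹) * t i := by group
    rw [this, h1]; group

/-- the third element -/
theorem r_d_ne (h : In0 H T Q V J N d t r) (i : ι) : r i * d i * (r i)⁻¹ ≠ d i :=
  fun h1 => h.d1 i (h.r_fix i _ (h.dN i) h1)

theorem r_d_ne_one (h : In0 H T Q V J N d t r) (i : ι) : r i * d i * (r i)⁻¹ ≠ 1 := fun h1 => by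
  apply h.d1 i
  have : d i = (r i)⁻¹ * (r i * d i * (r i)⁻¹) * r i := by group
  rw [this, h1]; group

theorem r3' (h : In0 H T Q V J N d t r) (i : ι) {v : G} (hv : v ∈ V) :
    r i * (r i * (r i * v * (r i)⁻¹) * (r i)⁻¹) * (r i)⁻¹ = v := by
  have h1 := h.r3 i v hv
  have e : r i * (r i * (r i * v * (r i)⁻¹) * (r i)⁻¹) * (r i)⁻¹ =
    r i * r i * r i * v * (r i * r i * r i)⁻¹ := by group
  rw [e, h1]; group

/-- `v v^r v^{r^2} = 1` for `v ∈ N i`. -/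
theorem r_prod (h : In0 H T Q V J N d t r) (i : ι) {v : G} (hv : v ∈ N i) :
    v * (r i * v * (r i)⁻¹) * (r i * (r i * v * (r i)⁻¹) * (r i)⁻¹) = 1 := by
  have h1 := h.r_N i hv
  have h2 := h.r_N i h1
  refine h.r_fix i _ (mul_mem (mul_mem hv h1) h2) ?_
  have e : r i * (v * (r i * v * (r i)⁻¹) * (r i * (r i * v * (r i)⁻¹) * (r i)⁻¹)) * (r i)⁻¹ =
    (r i * v * (r i)⁻¹) * (r i * (r i * v * (r i)⁻¹) * (r i)⁻¹) *
      (r i * (r i * (r i * v * (r i)⁻¹) * (r i)⁻¹) * (r i)⁻¹) := by group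
  rw [e, h.r3' i (h.NV i hv)]
  rw [h.Vcomm _ (mul_mem (h.NV i h1) (h.NV i h2)) _ (h.NV i hv)]
  group

/-- The elements of `N i`. -/
theorem mem_N (h : In0 H T Q V J N d t r) [Finite G] (i : ι) {v : G} (hv : v ∈ N i) :
    v = 1 ∨ v = d i ∨ v = r i * d i * (r i)⁻¹ ∨ v = d i * (r i * d i * (r i)⁻¹) := by
  classical
  by_contra hc
  push Not at hc
  obtain ⟨h1, h2, h3, h4⟩ := hc
  set m := r i * d i * (r i)⁻¹ with hm
  have hmN : m ∈ N i := h.r_N i (h.dN i)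
  have hmV := h.NV i hmN
  have hm1 : m ≠ 1 := h.r_d_ne_one i
  have hmd : m ≠ d i := h.r_d_ne i
  let f : Fin 5 → N i := ![1, ⟨d i, h.dN i⟩, ⟨m, hmN⟩, ⟨d i * m, mul_mem (h.dN i) hmN⟩, ⟨v, hv⟩]
  have hdm1 : d i * m ≠ 1 := fun e => hmd (by
    rw [← h.inv_eq (h.dV i)]; exact (eq_inv_of_mul_eq_one_right e))
  have hf : Function.Injective f := by
    intro a b hab
    have hab' : ((f a : N i) : G) = f b := congrArg Subtype.val hab
    fin_cases a <;> fin_cases b <;> simp [f] at hab' ⊢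
    · exact h.d1 i hab'.symm
    · exact hm1 hab'.symm
    · exact hdm1 hab'.symm
    · exact h1 hab'.symm
    · exact h.d1 i hab'
    · exact hmd hab'.symm
    · exact hm1 hab'
    · exact h2 hab'.symm
    · exact hm1 hab'
    · exact hmd hab'
    · exact h.d1 i hab'
    · exact h3 hab'.symm
    · exact hdm1 hab'
    · exact hm1 hab'
    · exact h.d1 i hab'
    · exact h4 hab'.symm
    · exact h1 hab'
    · exact h2 hab'
    · exact h3 hab'
    · exact h4 hab'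
  have h5 := Nat.card_le_card_of_injective f hf
  rw [h.cardN, Nat.card_fin] at h5
  omega

/-- `t i` moves the elements of `N i` outside `⟨d i⟩`. -/
theorem t_m (h : In0 H T Q V J N d t r) (i : ι) :
    t i * (r i * d i * (r i)⁻¹) * (t i)⁻¹ = d i * (r i * d i * (r i)⁻¹) := by
  set m := r i * d i * (r i)⁻¹ with hm
  have hmV : m ∈ V := h.NV i (h.r_N i (h.dN i))
  rcases h.t_comm i m hmV with h1 | h1
  · exfalso
    have h2 := h.tr i (d i) (h.dV i)
    have e1 : t i * r i * d i * (t i * r i)⁻¹ = t i * m * (t i)⁻¹ := by rw [hm]; group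
    have e2 : (r i)⁻¹ * t i * d i * ((r i)⁻¹ * t i)⁻¹ = (r i)⁻¹ * (t i * d i * (t i)⁻¹) * r i := by
      group
    rw [e1, e2, h1, h.t_d] at h2
    -- `m = r⁻¹ d r`
    have h3 : r i * m * (r i)⁻¹ = d i := by rw [h2]; group
    have h4 := h.r3' i (h.dV i)
    rw [← hm, h3, ← hm] at h4
    exact h.r_d_ne i h4
  · exact h1

theorem t_ne (h : In0 H T Q V J N d t r) [Finite G] (i : ι) {v : G} (hv : v ∈ N i)
    (hfix : t i * v * (t i)⁻¹ = v) : v = 1 ∨ v = d i := by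
  have hd0 := h.d1 i
  have hm := h.t_m i
  rcases h.mem_N i hv with h1 | h1 | h1 | h1
  · exact Or.inl h1
  · exact Or.inr h1
  · exfalso
    rw [h1, hm] at hfix
    exact hd0 (by simpa using hfix)
  · exfalso
    rw [h1] at hfix
    have e : t i * (d i * (r i * d i * (r i)⁻¹)) * (t i)⁻¹ =
      (t i * d i * (t i)⁻¹) * (t i * (r i * d i * (r i)⁻¹) * (t i)⁻¹) := by group
    rw [e, hm, h.t_d] at hfix
    exact hd0 (by simpa using hfix)

theorem t_N (h : In0 H T Q V J N d t r) (i : ι) {v : G} (hv : v ∈ N i) : t i * v * (t i)⁻¹ ∈ N i := by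
  rcases h.t_comm i v (h.NV i hv) with h1 | h1
  · rw [h1]; exact hv
  · rw [h1]; exact mul_mem (h.dN i) hv

/-- `r i` centralises `d j` for `j ≠ i`. -/
theorem r_d' (h : In0 H T Q V J N d t r) {i j : ι} (hij : i ≠ j) : r i * d j * (r i)⁻¹ = d j := by
  set m := r j * d j * (r j)⁻¹ with hm
  have hmV : m ∈ V := h.NV j (h.r_N j (h.dN j))
  have h1 := h.tr' i j hij m hmV
  have e1 : r i * t j * m * (r i * t j)⁻¹ = r i * (t j * m * (t j)⁻¹) * (r i)⁻¹ := by group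
  have e2 : t j * r i * m * (t j * r i)⁻¹ = t j * (r i * m * (r i)⁻¹) * (t j)⁻¹ := by group
  rw [e1, e2, h.t_m j, ← hm] at h1
  have e3 : r i * (d j * m) * (r i)⁻¹ = (r i * d j * (r i)⁻¹) * (r i * m * (r i)⁻¹) := by group
  rw [e3] at h1
  rcases h.t_comm j _ (h.Vn _ (h.rH i) m hmV) with h2 | h2
  · exfalso
    rw [h2] at h1
    have h3 : r i * d j * (r i)⁻¹ = 1 := by simpa using h1.symm
    apply h.d1 j
    have : d j = (r i)⁻¹ * (r i * d j * (r i)⁻¹) * r i := by group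
    rw [this, h3]; group
  · rw [h2] at h1
    exact (mul_right_cancel h1).symm

/-- `t j` centralises `N i` for `j ≠ i`. -/
theorem t_N' (h : In0 H T Q V J N d t r) {i j : ι} (hij : i ≠ j) {v : G} (hv : v ∈ N i) :
    t j * v * (t j)⁻¹ = v := by
  have hvV := h.NV i hv
  have h1 := h.r_N i hv
  have h2 := h.r_N i h1
  have step : ∀ w ∈ N i, t j * w * (t j)⁻¹ = d j * w →
      t j * (r i * w * (r i)⁻¹) * (t j)⁻¹ = d j * (r i * w * (r i)⁻¹) := by
    intro w hw hw'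
    have h3 := h.tr' i j hij w (h.NV i hw)
    have e1 : r i * t j * w * (r i * t j)⁻¹ = r i * (t j * w * (t j)⁻¹) * (r i)⁻¹ := by group
    have e2 : t j * r i * w * (t j * r i)⁻¹ = t j * (r i * w * (r i)⁻¹) * (t j)⁻¹ := by group
    rw [e1, e2, hw'] at h3
    rw [h3]
    have e3 : r i * (d j * w) * (r i)⁻¹ = (r i * d j * (r i)⁻¹) * (r i * w * (r i)⁻¹) := by group
    rw [e3, h.r_d' hij]
  rcases h.t_comm j v hvV with h3 | h3
  · exact h3
  · exfalso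
    have h4 := step v hv h3
    have h5 := step _ h1 h4
    have h6 := h.r_prod i hv
    have h7 : t j * (v * (r i * v * (r i)⁻¹) * (r i * (r i * v * (r i)⁻¹) * (r i)⁻¹)) * (t j)⁻¹ =
        1 := by rw [h6]; group
    have e : t j * (v * (r i * v * (r i)⁻¹) * (r i * (r i * v * (r i)⁻¹) * (r i)⁻¹)) * (t j)⁻¹ =
      (t j * v * (t j)⁻¹) * (t j * (r i * v * (r i)⁻¹) * (t j)⁻¹) *
        (t j * (r i * (r i * v * (r i)⁻¹) * (r i)⁻¹) * (t j)⁻¹) := by group
    rw [e, h3, h4, h5] at h7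
    have hd := h.dV j
    have c1 := h.Vcomm v hvV _ hd
    have c2 := h.Vcomm _ (h.NV i h1) _ hd
    set a := r i * v * (r i)⁻¹
    set b := r i * a * (r i)⁻¹
    have e2 : d j * v * (d j * a) * (d j * b) = (d j * d j) * (v * a * b) * d j := by
      have c3 := h.Vcomm _ (h.NV i h2) _ hd
      calc d j * v * (d j * a) * (d j * b) = d j * (v * d j) * (a * d j) * b := by group
        _ = d j * (d j * v) * (d j * a) * b := by rw [c1, c2]
        _ = d j * d j * (v * d j) * a * b := by group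
        _ = d j * d j * (d j * v) * a * b := by rw [c1]
        _ = d j * d j * (d j * (v * a * b)) := by group
        _ = d j * d j * ((v * a * b) * d j) := by
          rw [h.Vcomm _ hd _ (mul_mem (mul_mem hvV (h.NV i h1)) (h.NV i h2))]
        _ = _ := by group
    rw [e2, h6, h.mulself hd] at h7
    exact h.d1 j (by simpa using h7)

theorem t_d' (h : In0 H T Q V J N d t r) (i j : ι) : t j * d i * (t j)⁻¹ = d i := by
  by_cases hij : i = j
  · subst hij; exact h.t_d i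
  · exact h.t_N' hij (h.dN i)

theorem d_inj (h : In0 H T Q V J N d t r) {i j : ι} (hij : d i = d j) : i = j := by
  by_contra hne
  have h1 := h.r_d' hne
  rw [← hij] at h1
  exact h.r_d_ne i h1

/-! ### Elements acting as products of the `t i` -/

/-- `x` centralises all `d j`, normalises every `N j` and acts on it like `t j` or trivially, has
commutators in `⟨d j⟩`, its square centralises `V`, and it centralises or inverts every `r j`. -/
structure Good (V : Subgroup G) (N : ι → Subgroup G) (d t r : ι → G) (x : G) : Prop where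
  fixd : ∀ j, x * d j * x⁻¹ = d j
  actN : ∀ j, (∀ v ∈ N j, x * v * x⁻¹ = v) ∨ ∀ v ∈ N j, x * v * x⁻¹ = t j * v * (t j)⁻¹
  comm : ∀ v ∈ V, x * v * x⁻¹ * v⁻¹ ∈ Subgroup.closure (Set.range d)
  actr : ∀ j, Sim V (x * r j) (r j * x) ∨ Sim V (x * r j) ((r j)⁻¹ * x)

theorem D_le_V (h : In0 H T Q V J N d t r) : closure (Set.range d) ≤ V := by
  rw [closure_le]
  rintro _ ⟨j, rfl⟩
  exact h.dV j

/-- The subgroup of elements acting as products of the `t i`. -/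
def EE (t : ι → G) (Q : Subgroup G) : Subgroup G := closure (Set.range t) ⊔ Q

theorem t_EE (i : ι) : t i ∈ EE t Q := mem_sup_left (subset_closure ⟨i, rfl⟩)

theorem EE_le_T (h : In0 H T Q V J N d t r) : EE t Q ≤ T :=
  sup_le (by rw [closure_le]; rintro _ ⟨i, rfl⟩; exact h.tT i) h.QT

theorem EE_le_H (h : In0 H T Q V J N d t r) : EE t Q ≤ H := h.EE_le_T.trans h.TH

theorem Q_sim (h : In0 H T Q V J N d t r) {x : G} (hx : x ∈ Q) : Sim V x 1 := fun v hv => by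
  rw [h.VcQ x hx v hv]; group

/-- The action of an element of `EE` on `V`, as a product of `t i`. -/
theorem EE_induction (h : In0 H T Q V J N d t r) {P : G → Prop} (h1 : P 1)
    (ht : ∀ i x, x ∈ EE t Q → P x → P (t i * x))
    (hs : ∀ x y, x ∈ EE t Q → y ∈ EE t Q → Sim V x y → P x → P y) {x : G} (hx : x ∈ EE t Q) :
    P x := by
  obtain ⟨a, ha, b, hb, rfl⟩ := mem_sup_norm (B := Q) (A := closure (Set.range t)) (by
    intro y hy
    have hyH : y ∈ H := h.EE_le_H (mem_sup_left hy)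
    rw [mem_normalizer_iff]
    intro z
    refine ⟨fun hz => h.Qn y hyH z hz, fun hz => ?_⟩
    have := h.Qn y⁻¹ (inv_mem hyH) _ hz
    have e : y⁻¹ * (y * z * y⁻¹) * y⁻¹⁻¹ = z := by group
    rwa [e] at this) hx
  have hQV : Sim V (a * b) a := by
    have h2 := (h.Q_sim hb).mul_left a
    rwa [mul_one] at h2
  have haE : a ∈ EE t Q := mem_sup_left ha
  refine hs a _ haE hx hQV.symm ?_
  clear hQV hx
  induction ha using closure_induction_left with
  | one => exact h1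
  | mul_left x hx y hy ih =>
    obtain ⟨i, rfl⟩ := hx
    exact ht i y (mem_sup_left hy) (ih (mem_sup_left hy))
  | inv_mul_cancel x hx y hy ih =>
    obtain ⟨i, rfl⟩ := hx
    have hyE : y ∈ EE t Q := mem_sup_left hy
    have h3 : Sim V (t i * y) ((t i)⁻¹ * y) := by
      have h4 : Sim V (t i * t i * y) (1 * y) :=
        (h.tsq i).mul_right (h.Vn y (h.EE_le_H hyE))
      have h5 := h4.mul_left (t i)⁻¹
      have e1 : (t i)⁻¹ * (t i * t i * y) = t i * y := by group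
      rwa [e1, one_mul] at h5
    exact hs _ _ (mul_mem (t_EE i) hyE) (mul_mem (inv_mem (t_EE i)) hyE) h3 (ht i y hyE (ih hyE))

theorem EE_good (h : In0 H T Q V J N d t r) {x : G} (hx : x ∈ EE t Q) : Good V N d t r x := by
  refine h.EE_induction (P := Good V N d t r) ?_ ?_ ?_ hx
  · exact ⟨fun j => by group, fun j => Or.inl fun v _ => by group, fun v _ => by
      have e : (1 : G) * v * 1⁻¹ * v⁻¹ = 1 := by group
      rw [e]; exact one_mem _, fun j => Or.inl (by rw [one_mul, mul_one]; exact Sim.rfl')⟩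
  · intro i x hxE hx
    have hxH := h.EE_le_H hxE
    refine ⟨fun j => ?_, fun j => ?_, fun v hv => ?_, fun j => ?_⟩
    · have e : t i * x * d j * (t i * x)⁻¹ = t i * (x * d j * x⁻¹) * (t i)⁻¹ := by group
      rw [e, hx.fixd j, h.t_d' j i]
    · by_cases hij : j = i
      · subst hij
        rcases hx.actN j with h1 | h1
        · refine Or.inr fun v hv => ?_
          have e : t j * x * v * (t j * x)⁻¹ = t j * (x * v * x⁻¹) * (t j)⁻¹ := by group
          rw [e, h1 v hv]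
        · refine Or.inl fun v hv => ?_
          have e : t j * x * v * (t j * x)⁻¹ = t j * (x * v * x⁻¹) * (t j)⁻¹ := by group
          rw [e, h1 v hv]
          have e2 : t j * (t j * v * (t j)⁻¹) * (t j)⁻¹ = t j * t j * v * (t j * t j)⁻¹ := by group
          rw [e2, h.tsq j v (h.NV j hv)]; group
      · rcases hx.actN j with h1 | h1
        · refine Or.inl fun v hv => ?_
          have e : t i * x * v * (t i * x)⁻¹ = t i * (x * v * x⁻¹) * (t i)⁻¹ := by group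
          rw [e, h1 v hv, h.t_N' hij hv]
        · refine Or.inr fun v hv => ?_
          have e : t i * x * v * (t i * x)⁻¹ = t i * (x * v * x⁻¹) * (t i)⁻¹ := by group
          rw [e, h1 v hv, h.t_N' hij (h.t_N j hv)]
    · have h1 := hx.comm v hv
      have hw : x * v * x⁻¹ ∈ V := h.Vn x hxH v hv
      have e : t i * x * v * (t i * x)⁻¹ * v⁻¹ =
        (t i * (x * v * x⁻¹) * (t i)⁻¹ * (x * v * x⁻¹)⁻¹) * (x * v * x⁻¹ * v⁻¹) := by group
      rw [e]
      refine mul_mem ?_ h1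
      rcases h.t_comm i _ hw with h2 | h2
      · rw [h2, mul_inv_cancel]; exact one_mem _
      · rw [h2, mul_inv_cancel_right]; exact subset_closure ⟨i, rfl⟩
    · have hrN := h.Vn _ (h.rH j)
      -- `t i * (x * r j)`
      rcases hx.actr j with h1 | h1
      · have h2 : Sim V (t i * x * r j) (t i * r j * x) := by
          have := h1.mul_left (t i)
          rwa [← mul_assoc, ← mul_assoc] at this
        by_cases hij : j = i
        · subst hij
          refine Or.inr (h2.trans ?_)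
          have := (h.tr j).mul_right (h.Vn x hxH)
          rwa [mul_assoc ((r j)⁻¹)] at this
        · refine Or.inl (h2.trans ?_)
          have := (h.tr' j i hij).mul_right (h.Vn x hxH)
          rwa [mul_assoc (r j)] at this
      · have h2 : Sim V (t i * x * r j) (t i * (r j)⁻¹ * x) := by
          have := h1.mul_left (t i)
          rwa [← mul_assoc, ← mul_assoc] at this
        have hriV := h.Vn _ (inv_mem (h.rH j))
        by_cases hij : j = i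
        · subst hij
          refine Or.inl (h2.trans ?_)
          -- `t r⁻¹ ~ r t`
          have h3 : Sim V (t j * (r j)⁻¹) (r j * t j) := by
            have h4 := ((h.tr j).mul_left (r j)).mul_right hriV
            have e1 : r j * (t j * r j) * (r j)⁻¹ = r j * t j := by group
            have e2 : r j * ((r j)⁻¹ * t j) * (r j)⁻¹ = t j * (r j)⁻¹ := by group
            rw [e1, e2] at h4
            exact h4.symm
          have := h3.mul_right (h.Vn x hxH)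
          rwa [mul_assoc (r j)] at this
        · refine Or.inr (h2.trans ?_)
          have h3 : Sim V (t i * (r j)⁻¹) ((r j)⁻¹ * t i) := by
            have h4 := ((h.tr' j i hij).mul_left (r j)⁻¹).mul_right hriV
            have e1 : (r j)⁻¹ * (t i * r j) * (r j)⁻¹ = (r j)⁻¹ * t i := by group
            have e2 : (r j)⁻¹ * (r j * t i) * (r j)⁻¹ = t i * (r j)⁻¹ := by group
            rw [e1, e2] at h4
            exact h4.symm
          have := h3.mul_right (h.Vn x hxH)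
          rwa [mul_assoc ((r j)⁻¹)] at this
  · intro x y hxE hyE hxy hx
    have hxH := h.EE_le_H hxE
    refine ⟨fun j => ?_, fun j => ?_, fun v hv => ?_, fun j => ?_⟩
    · rw [← hxy _ (h.dV j), hx.fixd j]
    · rcases hx.actN j with h1 | h1
      · exact Or.inl fun v hv => by rw [← hxy _ (h.NV j hv), h1 v hv]
      · exact Or.inr fun v hv => by rw [← hxy _ (h.NV j hv), h1 v hv]
    · rw [← hxy v hv]; exact hx.comm v hv
    · have hrN := h.Vn _ (h.rH j)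
      rcases hx.actr j with h1 | h1
      · exact Or.inl (((hxy.mul_right hrN).symm.trans h1).trans (hxy.mul_left _))
      · exact Or.inr (((hxy.mul_right hrN).symm.trans h1).trans (hxy.mul_left _))

theorem EE_sq (h : In0 H T Q V J N d t r) {x : G} (hx : x ∈ EE t Q) {v : G} (hv : v ∈ V) :
    x * x * v * (x * x)⁻¹ = v := by
  have hg := h.EE_good hx
  have h1 := hg.comm v hv
  have h2 : ∀ y ∈ closure (Set.range d), x * y * x⁻¹ = y := by
    intro y hy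
    induction hy using closure_induction with
    | mem y hy => obtain ⟨j, rfl⟩ := hy; exact hg.fixd j
    | one => group
    | mul a b _ _ ha hb =>
      have e : x * (a * b) * x⁻¹ = (x * a * x⁻¹) * (x * b * x⁻¹) := by group
      rw [e, ha, hb]
    | inv a _ ha =>
      have e : x * a⁻¹ * x⁻¹ = (x * a * x⁻¹)⁻¹ := by group
      rw [e, ha]
  have h3 := h2 _ h1
  have hcV : x * v * x⁻¹ * v⁻¹ ∈ V := h.D_le_V h1
  have e1 : x * x * v * (x * x)⁻¹ = x * (x * v * x⁻¹ * v⁻¹) * x⁻¹ * (x * v * x⁻¹ * v⁻¹) * v := by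
    group
  rw [e1, h3, h.mulself hcV, one_mul]

/-- A conjugate of `J(T)` and `T` generate `H`. -/
theorem max' (h : In0 H T Q V J N d t r) (i : ι) {X : Subgroup G} (hT : T ≤ X) (hX : X ≤ H)
    (hx : r i * t i * (r i)⁻¹ ∈ X) : H ≤ X := by
  refine h.max X hT hX i ⟨(r i * t i * (r i)⁻¹ * (t i)⁻¹) * (r i * t i * (r i)⁻¹ * (t i)⁻¹),
    mul_mem (mul_mem hx (inv_mem (hT (h.tT i)))) (mul_mem hx (inv_mem (hT (h.tT i)))), ?_⟩
  have hrV := h.Vn _ (h.rH i)
  have hriV := h.Vn _ (inv_mem (h.rH i))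
  have htV := h.Vn _ (h.tH i)
  have htiV := h.Vn _ (inv_mem (h.tH i))
  -- `t r⁻¹ ~ r t`
  have h3 : Sim V (t i * (r i)⁻¹) (r i * t i) := by
    have h4 := ((h.tr i).mul_left (r i)).mul_right hriV
    have e1 : r i * (t i * r i) * (r i)⁻¹ = r i * t i := by group
    have e2 : r i * ((r i)⁻¹ * t i) * (r i)⁻¹ = t i * (r i)⁻¹ := by group
    rw [e1, e2] at h4
    exact h4.symm
  have h4 : Sim V (r i * t i * (r i)⁻¹ * (t i)⁻¹) (r i * r i) := by
    have h5 := (h3.mul_left (r i)).mul_right htiV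
    have e1 : r i * (t i * (r i)⁻¹) * (t i)⁻¹ = r i * t i * (r i)⁻¹ * (t i)⁻¹ := by group
    have e2 : r i * (r i * t i) * (t i)⁻¹ = r i * r i := by group
    rwa [e1, e2] at h5
  have h5 : Sim V ((r i * t i * (r i)⁻¹ * (t i)⁻¹) * (r i * t i * (r i)⁻¹ * (t i)⁻¹))
      (r i * r i * (r i * r i)) := h4.mul (fun v hv => h.Vn _ (mul_mem (mul_mem (mul_mem (h.rH i)
        (h.tH i)) (inv_mem (h.rH i))) (inv_mem (h.tH i))) v hv) h4
  refine h5.trans ?_
  have h6 := (h.r3 i).mul_right hrV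
  rw [one_mul] at h6
  have e : r i * r i * (r i * r i) = r i * r i * r i * r i := by group
  rwa [e]

theorem d_J (h : In0 H T Q V J N d t r) (i : ι) : ∀ y ∈ J, y * d i = d i * y := fun y hy => by
  have h1 := (h.EE_good (h.Jt hy)).fixd i
  calc y * d i = (y * d i * y⁻¹) * y := by group
    _ = _ := by rw [h1]

end In0

/-! ### `Z` and `B` -/

/-- `B = C_T(Z)` -/
def BB (T Z : Subgroup G) : Subgroup G := T ⊓ centralizer (Z : Set G)

/-- `Y = Z V` -/
def YY (Z V : Subgroup G) : Subgroup G := Z ⊔ V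

theorem mem_BB {T Z : Subgroup G} {x : G} : x ∈ BB T Z ↔ x ∈ T ∧ ∀ z ∈ Z, z * x = x * z := by
  rw [BB, mem_inf, mem_centralizer_iff]; rfl

theorem BB_le (T Z : Subgroup G) : BB T Z ≤ T := inf_le_left

theorem Z_le_Y (Z V : Subgroup G) : Z ≤ YY Z V := le_sup_left

theorem V_le_Y (Z V : Subgroup G) : V ≤ YY Z V := le_sup_right

/-- Input of the Baumann argument for `q = 2`, with `J`, `Z` in place of `J(T)`, `Ω₁(Z(J(T)))`. -/
structure In (H T Q V J Z : Subgroup G) {ι : Type w} (N : ι → Subgroup G) (d t r : ι → G) : Prop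
    extends In0 H T Q V J N d t r where
  ZT : Z ≤ T
  Zcomm : ∀ x ∈ Z, ∀ y ∈ Z, x * y = y * x
  Zsq : ∀ x ∈ Z, x ^ 2 = 1
  JZ : ∀ z ∈ Z, ∀ j ∈ J, j * z = z * j
  Zn : ∀ x ∈ T, ∀ z ∈ Z, x * z * x⁻¹ ∈ Z
  ZcV : ∀ z ∈ Z, ∀ v ∈ V, z * v = v * z
  V1Z : ∀ v ∈ V, (∀ j ∈ J, j * v = v * j) → v ∈ Z
  Y_norm : ∀ g ∈ H, ∀ y ∈ YY Z V, g * y * g⁻¹ ∈ YY Z V

namespace In

variable {H T Q V J Z : Subgroup G} {ι : Type w} {N : ι → Subgroup G} {d t r : ι → G}

theorem le_BB (h : In H T Q V J Z N d t r) : J ≤ BB T Z := fun x hx =>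
  mem_BB.2 ⟨h.JT hx, fun z hz => (h.JZ z hz x hx).symm⟩

theorem Zel (h : In H T Q V J Z N d t r) : IsElementaryAbelian 2 Z := isElementaryAbelian_iff.2 ⟨h.Zcomm, h.Zsq⟩

theorem Z_le_Q (h : In H T Q V J Z N d t r) : Z ≤ Q := fun z hz => h.cT (h.ZT hz) fun v hv => h.ZcV z hz v hv

theorem mem_Y (h : In H T Q V J Z N d t r) {y : G} (hy : y ∈ YY Z V) :
    ∃ z ∈ Z, ∃ v ∈ V, y = z * v := mem_sup_comm h.ZcV hy

theorem Y_le_Q (h : In H T Q V J Z N d t r) : YY Z V ≤ Q := sup_le h.Z_le_Q h.VQ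

theorem Y_elem (h : In H T Q V J Z N d t r) : IsElementaryAbelian 2 (YY Z V) :=
  isElementaryAbelian_sup h.Zel h.Velem
    fun v hv => mem_centralizer_iff.2 fun z hz => h.ZcV z hz v hv

theorem d_mem_Z (h : In H T Q V J Z N d t r) (i : ι) : d i ∈ Z := h.V1Z _ (h.dV i) (h.d_J i)

theorem D_le_Z (h : In H T Q V J Z N d t r) : closure (Set.range d) ≤ Z := by
  rw [closure_le]
  rintro _ ⟨j, rfl⟩
  exact h.d_mem_Z j

theorem t_bau (h : In H T Q V J Z N d t r) (i : ι) : t i ∈ BB T Z := h.le_BB (h.tJ i)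

theorem bau_EE (h : In H T Q V J Z N d t r) : BB T Z ≤ In0.EE t Q := fun b hb =>
  h.field b (BB_le T Z hb) fun v hv hc => ((mem_BB.1 hb).2 v (h.V1Z v hv hc)).symm

theorem bau_H (h : In H T Q V J Z N d t r) : BB T Z ≤ H := (BB_le T Z).trans h.TH

theorem T_bau (h : In H T Q V J Z N d t r) {x b : G} (hx : x ∈ T) (hb : b ∈ BB T Z) : x * b * x⁻¹ ∈ BB T Z := by
  refine mem_BB.2 ⟨mul_mem (mul_mem hx (BB_le T Z hb)) (inv_mem hx), fun z hz => ?_⟩
  have hz' : x⁻¹ * z * x ∈ Z := by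
    have := h.Zn x⁻¹ (inv_mem hx) z hz
    rwa [inv_inv] at this
  have h1 := (mem_BB.1 hb).2 _ hz'
  calc z * (x * b * x⁻¹) = x * ((x⁻¹ * z * x) * b) * x⁻¹ := by group
    _ = x * (b * (x⁻¹ * z * x)) * x⁻¹ := by rw [h1]
    _ = _ := by group

/-- `Q* = B ∩ Q = C_T(Y)`. -/
theorem mem_star_iff (h : In H T Q V J Z N d t r) {x : G} :
    x ∈ BB T Z ⊓ Q ↔ x ∈ T ∧ ∀ y ∈ YY Z V, x * y = y * x := by
  constructor
  · rintro ⟨h1, h2⟩
    refine ⟨BB_le T Z h1, fun y hy => ?_⟩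
    obtain ⟨z, hz, v, hv, rfl⟩ := h.mem_Y hy
    have e1 : z * x = x * z := (mem_BB.1 h1).2 z hz
    have e2 : x * v = v * x := h.VcQ x h2 v hv
    calc x * (z * v) = (x * z) * v := by group
      _ = z * (x * v) := by rw [← e1]; group
      _ = z * v * x := by rw [e2]; group
  · rintro ⟨h1, h2⟩
    exact ⟨mem_BB.2 ⟨h1, fun z hz => (h2 z (Z_le_Y Z V hz)).symm⟩,
      h.cT h1 fun v hv => h2 v (V_le_Y Z V hv)⟩

/-- `Q* = B ∩ Q` is normal in `H`. -/
theorem star_norm (h : In H T Q V J Z N d t r) :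
    ∀ g ∈ H, ∀ x ∈ BB T Z ⊓ Q, g * x * g⁻¹ ∈ BB T Z ⊓ Q := by
  intro g hg x hx
  have h1 := h.mem_star_iff.1 hx
  refine h.mem_star_iff.2 ⟨h.QT (h.Qn g hg x hx.2), fun y hy => ?_⟩
  have hy' : g⁻¹ * y * g ∈ YY Z V := by
    have := h.Y_norm g⁻¹ (inv_mem hg) y hy
    rwa [inv_inv] at this
  have h2 := h1.2 _ hy'
  calc g * x * g⁻¹ * y = g * (x * (g⁻¹ * y * g)) * g⁻¹ := by group
    _ = g * ((g⁻¹ * y * g) * x) * g⁻¹ := by rw [h2]
    _ = y * (g * x * g⁻¹) := by group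

/-- `Q ≤ B` if `Z ≤ V` -/
theorem Q_le_B (h : In H T Q V J Z N d t r) (hZV : Z ≤ V) : Q ≤ BB T Z := fun x hx =>
  mem_BB.2 ⟨h.QT hx, fun z hz => (h.VcQ x hx z (hZV hz)).symm⟩

theorem VB (h : In H T Q V J Z N d t r) : V ≤ BB T Z := fun v hv =>
  mem_BB.2 ⟨h.QT (h.VQ hv), fun z hz => h.ZcV z hz v hv⟩

end In

/-! ### The case `Z = C_V(J)` -/

/-- `Z_J = C_V(J)` -/
def ZJ (V J : Subgroup G) : Subgroup G := V ⊓ centralizer (J : Set G)

theorem mem_ZJ {V J : Subgroup G} {x : G} : x ∈ ZJ V J ↔ x ∈ V ∧ ∀ y ∈ J, y * x = x * y := by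
  rw [ZJ, mem_inf, mem_centralizer_iff]; rfl

theorem ZJ_le (V J : Subgroup G) : ZJ V J ≤ V := inf_le_left

section

variable {H T Q V J : Subgroup G} {ι : Type w} {N : ι → Subgroup G} {d t r : ι → G}

theorem In0.T_ZJ (h : In0 H T Q V J N d t r) (Jn : ∀ x ∈ T, ∀ y ∈ J, x * y * x⁻¹ ∈ J) {x z : G} (hx : x ∈ T)
    (hz : z ∈ ZJ V J) : x * z * x⁻¹ ∈ ZJ V J := by
  refine mem_ZJ.2 ⟨h.Vn x (h.TH hx) z (ZJ_le V J hz), fun y hy => ?_⟩
  have hy' : x⁻¹ * y * x ∈ J := by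
    have := Jn x⁻¹ (inv_mem hx) y hy
    rwa [inv_inv] at this
  have h1 := (mem_ZJ.1 hz).2 _ hy'
  calc y * (x * z * x⁻¹) = x * ((x⁻¹ * y * x) * z) * x⁻¹ := by group
    _ = x * (z * (x⁻¹ * y * x)) * x⁻¹ := by rw [h1]
    _ = _ := by group

theorem In.of_ZJ (h : In0 H T Q V J N d t r) (Jn : ∀ x ∈ T, ∀ y ∈ J, x * y * x⁻¹ ∈ J) :
    In H T Q V J (ZJ V J) N d t r :=
  { h with
    ZT := (ZJ_le V J).trans (h.VQ.trans h.QT)
    Zcomm := fun x hx y hy => h.Vcomm x (ZJ_le V J hx) y (ZJ_le V J hy)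
    Zsq := fun x hx => h.Vsq x (ZJ_le V J hx)
    JZ := fun z hz j hj => (mem_ZJ.1 hz).2 j hj
    Zn := fun x hx z hz => h.T_ZJ Jn hx hz
    ZcV := fun z hz v hv => h.Vcomm z (ZJ_le V J hz) v hv
    V1Z := fun v hv hc => mem_ZJ.2 ⟨hv, hc⟩
    Y_norm := fun g hg y hy => by
      have e : YY (ZJ V J) V = V := sup_eq_right.2 (ZJ_le V J)
      rw [e] at hy ⊢
      exact h.Vn g hg y hy }

/-- **`Z V` is normal in `H`** if `Z = C_{Y₀}(J)`, `Y₀ ≥ V` is normal in `H` and `[Y₀, J] ≤ V`. -/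
theorem In0.norm_of (h : In0 H T Q V J N d t r) [Finite G] (i : ι) {Y₀ Z : Subgroup G}
    (hY : ∀ g ∈ H, ∀ y ∈ Y₀, g * y * g⁻¹ ∈ Y₀) (hJ : ∀ j ∈ J, ∀ y ∈ Y₀, j * y * j⁻¹ * y⁻¹ ∈ V) (hZY : Z ≤ Y₀)
    (Zn : ∀ x ∈ T, ∀ z ∈ Z, x * z * x⁻¹ ∈ Z) : ∀ g ∈ H, ∀ y ∈ YY Z V, g * y * g⁻¹ ∈ YY Z V := by
  let M : Subgroup G := H ⊓ normalizer ((YY Z V : Subgroup G) : Set G)
  have hTN : T ≤ M := by
    intro t ht
    refine ⟨h.TH ht, mem_normalizer_of_cj_le ?_⟩
    rw [cj, YY, Subgroup.map_sup]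
    refine sup_le ?_ ?_
    · rintro _ ⟨z, hz, rfl⟩
      exact Z_le_Y Z V (Zn t ht z hz)
    · rintro _ ⟨v, hv, rfl⟩
      exact V_le_Y Z V (h.Vn t (h.TH ht) v hv)
  have hx : r i * t i * (r i)⁻¹ ∈ M := by
    have hg := h.rH i
    have hj := h.tJ i
    have hxH : r i * t i * (r i)⁻¹ ∈ H := mul_mem (mul_mem hg (h.tH i)) (inv_mem hg)
    refine ⟨hxH, mem_normalizer_of_cj_le ?_⟩
    rw [cj, YY, Subgroup.map_sup]
    refine sup_le ?_ ?_
    · rintro _ ⟨z, hz, rfl⟩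
      simp only [MulEquiv.toMonoidHom_eq_coe, MonoidHom.coe_coe, MulAut.conj_apply]
      have hz1 : (r i)⁻¹ * z * r i ∈ Y₀ := by
        have := hY _ (inv_mem hg) z (hZY hz)
        rwa [inv_inv] at this
      have h2 := h.Vn _ hg _ (hJ _ hj _ hz1)
      have e : r i * t i * (r i)⁻¹ * z * (r i * t i * (r i)⁻¹)⁻¹ =
        r i * (t i * ((r i)⁻¹ * z * r i) * (t i)⁻¹ * ((r i)⁻¹ * z * r i)⁻¹) * (r i)⁻¹ * z := by group
      rw [e]
      exact mul_mem (V_le_Y Z V h2) (Z_le_Y Z V hz)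
    · rintro _ ⟨v, hv, rfl⟩
      exact V_le_Y Z V (h.Vn _ hxH v hv)
  have hH := h.max' i hTN inf_le_left hx
  exact fun g hg y hy => (mem_normalizer_iff.1 (hH hg).2 y).1 hy

end

end Cfsg.Agent.Omega.OM.Lev.SIn

end

section


/-!
# The minimal blocks for `q = 2` at levels

`SQ1/BauSBlk.lean`, `SQ1/BauSMin.lean` over `SIn.In` (`J` in place of `J(T)`, `Z` in place of `Ω₁(Z(J(T)))`,
`B = C_T(Z)`):

* `Blk H T V Z d r i L` : `L` is minimal subject to `B ≤ L ≤ B ⟨r i⟩ C_H(V)` and `L` moves `d i`;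
* `Blk.QQ_norm` : `C_B(N i)` is normal in `L`; `Blk.Z_split`, `Blk.cent_of` : the action of `L` on `Z`;
* `In.exists_blks` : a `T`-equivariant choice of minimal blocks.
-/

set_option autoImplicit false

namespace Cfsg.Agent.Omega.OM.Lev.SIn

open Subgroup Cfsg Cfsg.Agent.PLocal.ThompsonJ Cfsg.Agent.ZN Cfsg.Agent.ZN.ChoiceBase
open Cfsg.Agent.PLocal.ElemAbSup
open Cfsg.Agent.Omega.SQ1.Bau (elem_comm elem_sq mem_sup_comm card_sup_comm mem_sup_norm)
open Cfsg.Agent.Omega.SQ1.BauS (Sim PermR RR mem_RR)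
open scoped Pointwise

universe u w

variable {G : Type u} [Group G]

/-- The ambient group of a block. -/
def PP (H T V Z : Subgroup G) (x : G) : Subgroup G :=
  BB T Z ⊔ zpowers x ⊔ (H ⊓ centralizer (V : Set G))

/-- `N i ⟨d j⟩` -/
def WW {ι : Type w} (N : ι → Subgroup G) (d : ι → G) (i : ι) : Subgroup G :=
  N i ⊔ Subgroup.closure (Set.range d)

/-- `V_i = Z_B N_i` -/
def VV {ι : Type w} (Z : Subgroup G) (N : ι → Subgroup G) (i : ι) : Subgroup G := Z ⊔ N i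

/-- `Q_i = C_B(N_i)` -/
def QQ {ι : Type w} (T Z : Subgroup G) (N : ι → Subgroup G) (i : ι) : Subgroup G :=
  BB T Z ⊓ centralizer (N i : Set G)

/-- `L` is a minimal block. -/
structure Blk (H T V Z : Subgroup G) {ι : Type w} (d r : ι → G) (i : ι) (L : Subgroup G) : Prop where
  BL : BB T Z ≤ L
  LP : L ≤ PP H T V Z (r i)
  mv : ∃ l ∈ L, l * d i * l⁻¹ ≠ d i
  min : ∀ X : Subgroup G, X ≤ L → BB T Z ≤ X → (∃ x ∈ X, x * d i * x⁻¹ ≠ d i) → L ≤ X

namespace In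

variable {H T Q V J Z : Subgroup G} {ι : Type w} {N : ι → Subgroup G} {d t r : ι → G}

theorem PP_le (h : In H T Q V J Z N d t r) (i : ι) : PP H T V Z (r i) ≤ H :=
  sup_le (sup_le h.bau_H ((zpowers_le).2 (h.rH i))) inf_le_left

theorem B_le_PP (H T V Z : Subgroup G) (x : G) : BB T Z ≤ PP H T V Z x :=
  le_sup_left.trans le_sup_left

theorem sim_one_iff {V : Subgroup G} {x : G} : Sim V x 1 ↔ ∀ v ∈ V, x * v = v * x := by
  constructor
  · intro h v hv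
    have := h v hv
    calc x * v = (x * v * x⁻¹) * x := by group
      _ = v * x := by rw [this]; group
  · intro h v hv
    rw [h v hv]; group

/-- `r ^ n` acts like some element `r ^ k` after moving past `b`. -/
theorem pow_comm (h : In H T Q V J Z N d t r) {i : ι} {b : G} (hb : b ∈ In0.EE t Q) (n : ℤ) :
    ∃ k : ℤ, Sim V (r i ^ n * b) (b * r i ^ k) := by
  have hbV := h.Vn b (h.EE_le_H hb)
  let S : Subgroup G :=
    { carrier := {s | s ∈ H ∧ ∃ k : ℤ, Sim V (s * b) (b * r i ^ k)}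
      mul_mem' := by
        rintro x y ⟨hx, k, hk⟩ ⟨hy, m, hm⟩
        refine ⟨mul_mem hx hy, k + m, ?_⟩
        have h1 := hm.mul_left x
        have h2 := hk.mul_right (h.Vn _ (zpow_mem (h.rH i) m))
        rw [zpow_add]
        have e1 : x * (b * r i ^ m) = x * b * r i ^ m := by group
        have e2 : b * (r i ^ k * r i ^ m) = b * r i ^ k * r i ^ m := by group
        rw [mul_assoc x y b, e2]
        rw [e1] at h1
        exact h1.trans h2
      one_mem' := ⟨one_mem _, 0, by rw [one_mul, zpow_zero, mul_one]; exact Sim.rfl'⟩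
      inv_mem' := by
        rintro x ⟨hx, k, hk⟩
        refine ⟨inv_mem hx, -k, ?_⟩
        have h1 := (hk.mul_left x⁻¹).mul_right (h.Vn _ (zpow_mem (h.rH i) (-k)))
        have e1 : x⁻¹ * (x * b) * r i ^ (-k) = b * r i ^ (-k) := by group
        have e2 : x⁻¹ * (b * r i ^ k) * r i ^ (-k) = x⁻¹ * b := by group
        rw [e1, e2] at h1
        exact h1.symm }
  have hr : r i ∈ S := by
    refine ⟨h.rH i, ?_⟩
    rcases (h.EE_good hb).actr i with h1 | h1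
    · exact ⟨1, by rw [zpow_one]; exact h1.symm⟩
    · refine ⟨-1, ?_⟩
      -- `b r ~ r⁻¹ b`, so `r b r ~ b`
      have h2 := (h1.mul_left (r i)).mul_right (h.Vn _ (inv_mem (h.rH i)))
      have e1 : r i * (b * r i) * (r i)⁻¹ = r i * b := by group
      have e2 : r i * ((r i)⁻¹ * b) * (r i)⁻¹ = b * r i ^ (-1 : ℤ) := by group
      rw [e1, e2] at h2
      exact h2
  have h2 : r i ^ n ∈ S := zpow_mem hr n
  exact h2.2

/-- Normal form of the elements of the ambient group of a block. -/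
theorem PP_form (h : In H T Q V J Z N d t r) [Finite G] {i : ι} {x : G} (hx : x ∈ PP H T V Z (r i)) :
    ∃ b ∈ BB T Z, ∃ n : ℤ, Sim V x (b * r i ^ n) := by
  let S : Subgroup G :=
    { carrier := {s | s ∈ H ∧ ∃ b ∈ BB T Z, ∃ n : ℤ, Sim V s (b * r i ^ n)}
      mul_mem' := by
        rintro x y ⟨hx, b, hb, n, hn⟩ ⟨hy, c, hc, m, hm⟩
        obtain ⟨k, hk⟩ := h.pow_comm (i := i) (h.bau_EE hc) n
        refine ⟨mul_mem hx hy, b * c, mul_mem hb hc, k + m, ?_⟩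
        have h1 := hn.mul (h.Vn y hy) hm
        have h2 := (hk.mul_left b).mul_right (h.Vn _ (zpow_mem (h.rH i) m))
        have e1 : b * r i ^ n * (c * r i ^ m) = b * (r i ^ n * c) * r i ^ m := by group
        have e2 : b * (c * r i ^ k) * r i ^ m = b * c * r i ^ (k + m) := by group
        rw [e1] at h1
        rw [e2] at h2
        exact h1.trans h2
      one_mem' := ⟨one_mem _, 1, one_mem _, 0, by rw [one_mul, zpow_zero]; exact Sim.rfl'⟩
      inv_mem' := by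
        rintro x ⟨hx, b, hb, n, hn⟩
        obtain ⟨k, hk⟩ := h.pow_comm (i := i) (h.bau_EE (inv_mem hb)) (-n)
        refine ⟨inv_mem hx, b⁻¹, inv_mem hb, k, ?_⟩
        have h1 := hn.inv (h.Vn' hx)
        have e : (b * r i ^ n)⁻¹ = r i ^ (-n) * b⁻¹ := by group
        rw [e] at h1
        exact h1.trans hk }
  have h1 : PP H T V Z (r i) ≤ S := by
    refine sup_le (sup_le ?_ ?_) ?_
    · intro b hb
      exact ⟨h.bau_H hb, b, hb, 0, by rw [zpow_zero, mul_one]; exact Sim.rfl'⟩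
    · rw [zpowers_le]
      exact ⟨h.rH i, 1, one_mem _, 1, by rw [one_mul, zpow_one]; exact Sim.rfl'⟩
    · rintro c ⟨hc, hc'⟩
      refine ⟨hc, 1, one_mem _, 0, ?_⟩
      rw [one_mul, zpow_zero, sim_one_iff]
      exact fun v hv => (mem_centralizer_iff.1 hc' v hv).symm
  exact (h1 hx).2

theorem pow_three (h : In H T Q V J Z N d t r) (i : ι) (q : ℤ) : Sim V (r i ^ (3 * q)) 1 := by
  have h1 : r i * r i * r i ∈ H ⊓ centralizer (V : Set G) := by
    refine ⟨mul_mem (mul_mem (h.rH i) (h.rH i)) (h.rH i), mem_centralizer_iff.2 fun v hv => ?_⟩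
    exact ((sim_one_iff.1 (h.r3 i)) v hv).symm
  have h2 := zpow_mem h1 q
  have e : (r i * r i * r i) ^ q = r i ^ (3 * q) := by
    rw [zpow_mul]
    congr 1
    rw [show (3 : ℤ) = 1 + 1 + 1 by norm_num, zpow_add, zpow_add, zpow_one]
  rw [e] at h2
  rw [sim_one_iff]
  exact fun v hv => (mem_centralizer_iff.1 h2.2 v hv).symm

/-- An element of the ambient group fixing `d i` acts like an element of `B`. -/
theorem PP_fix (h : In H T Q V J Z N d t r) [Finite G] {i : ι} {x : G} (hx : x ∈ PP H T V Z (r i))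
    (hfix : x * d i * x⁻¹ = d i) : ∃ b ∈ BB T Z, Sim V x b := by
  obtain ⟨b, hb, n, hn⟩ := h.PP_form hx
  refine ⟨b, hb, ?_⟩
  have hbd := (h.EE_good (h.bau_EE hb)).fixd i
  -- `r ^ n` fixes `d i`
  have h1 : r i ^ n * d i * (r i ^ n)⁻¹ = d i := by
    have h2 := hn (d i) (h.dV i)
    rw [hfix] at h2
    have e : b * r i ^ n * d i * (b * r i ^ n)⁻¹ = b * (r i ^ n * d i * (r i ^ n)⁻¹) * b⁻¹ := by
      group
    rw [e] at h2
    have h3 : b⁻¹ * d i * b = d i := by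
      calc b⁻¹ * d i * b = b⁻¹ * (b * d i * b⁻¹) * b := by rw [hbd]
        _ = d i := by group
    calc r i ^ n * d i * (r i ^ n)⁻¹ = b⁻¹ * (b * (r i ^ n * d i * (r i ^ n)⁻¹) * b⁻¹) * b := by
          group
      _ = b⁻¹ * d i * b := by rw [← h2]
      _ = d i := h3
  -- reduction modulo three
  have key : ∃ s : ℕ, s < 3 ∧ Sim V (r i ^ n) (r i ^ s) := by
    refine ⟨(n % 3).toNat, ?_, ?_⟩
    · have := Int.emod_lt_of_pos n (show (0 : ℤ) < 3 by norm_num)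
      have := Int.emod_nonneg n (show (3 : ℤ) ≠ 0 by norm_num)
      omega
    · have hnn := Int.emod_nonneg n (show (3 : ℤ) ≠ 0 by norm_num)
      have e1 : r i ^ n = r i ^ (3 * (n / 3)) * r i ^ (n % 3) := by
        rw [← zpow_add]
        congr 1
        have := Int.mul_ediv_add_emod n 3
        omega
      have e2 : r i ^ (n % 3).toNat = r i ^ (n % 3) := by
        rw [← zpow_natCast, Int.toNat_of_nonneg hnn]
      rw [e1, e2]
      have h4 := (h.pow_three i (n / 3)).mul_right (h.Vn _ (zpow_mem (h.rH i) (n % 3)))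
      rwa [one_mul] at h4
  obtain ⟨s, hs, hs'⟩ := key
  have h5 : r i ^ s * d i * (r i ^ s)⁻¹ = d i := by rw [← hs' _ (h.dV i), h1]
  have hs0 : s = 0 := by
    interval_cases s
    · rfl
    · exfalso
      rw [pow_one] at h5
      exact h.r_d_ne i h5
    · exfalso
      apply h.r_d_ne i
      have h6 := h.r3' i (h.dV i)
      have e : r i ^ 2 * d i * (r i ^ 2)⁻¹ = r i * (r i * d i * (r i)⁻¹) * (r i)⁻¹ := by
        rw [pow_two]; group
      rw [e] at h5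
      rwa [h5] at h6
  rw [hs0, pow_zero] at hs'
  have h7 := hs'.mul_left b
  rw [mul_one] at h7
  exact hn.trans h7

/-- An element of the ambient group moving `d i` yields, modulo `B`, one acting like `r i`. -/
theorem PP_mv (h : In H T Q V J Z N d t r) [Finite G] {i : ι} {x : G} (hx : x ∈ PP H T V Z (r i))
    (hm : x * d i * x⁻¹ ≠ d i) {X : Subgroup G} (hB : BB T Z ≤ X) (hxX : x ∈ X) :
    ∃ y ∈ X ⊓ H, Sim V y (r i) := by
  obtain ⟨b, hb, n, hn⟩ := h.PP_form hx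
  have hxH := h.PP_le i hx
  have hbH := h.bau_H hb
  have hyX : b⁻¹ * x ∈ X ⊓ H := ⟨X.mul_mem (X.inv_mem (hB hb)) hxX,
    H.mul_mem (H.inv_mem hbH) hxH⟩
  have hy : Sim V (b⁻¹ * x) (r i ^ n) := by
    have h1 := hn.mul_left b⁻¹
    have e : b⁻¹ * (b * r i ^ n) = r i ^ n := by group
    rwa [e] at h1
  have hrV := fun m : ℤ => h.Vn _ (zpow_mem (h.rH i) m)
  -- `r ^ (3 q + s) ~ r ^ s`
  have key : ∀ q s : ℤ, Sim V (r i ^ (3 * q + s)) (r i ^ s) := by
    intro q s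
    rw [zpow_add]
    have h4 := (h.pow_three i q).mul_right (hrV s)
    rwa [one_mul] at h4
  have h3 : n % 3 = 0 ∨ n % 3 = 1 ∨ n % 3 = 2 := by omega
  rcases h3 with h3 | h3 | h3
  · exfalso
    apply hm
    have h4 := key (n / 3) 0
    rw [show 3 * (n / 3) + 0 = n by omega, zpow_zero] at h4
    have h5 := hn.trans (h4.mul_left b)
    rw [mul_one] at h5
    rw [h5 _ (h.dV i), (h.EE_good (h.bau_EE hb)).fixd i]
  · refine ⟨_, hyX, hy.trans ?_⟩
    have h4 := key (n / 3) 1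
    rwa [show 3 * (n / 3) + 1 = n by omega, zpow_one] at h4
  · refine ⟨(b⁻¹ * x) * (b⁻¹ * x), mul_mem hyX hyX, ?_⟩
    have h4 := hy.mul (h.Vn _ hyX.2) hy
    rw [← zpow_add] at h4
    refine h4.trans ?_
    have h5 := key (2 * (n / 3) + 1) 1
    rwa [show 3 * (2 * (n / 3) + 1) + 1 = n + n by omega, zpow_one] at h5

theorem B_N (h : In H T Q V J Z N d t r) [Finite G] {i : ι} {b : G} (hb : b ∈ BB T Z) {v : G}
    (hv : v ∈ N i) : b * v * b⁻¹ ∈ N i := by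
  rcases (h.EE_good (h.bau_EE hb)).actN i with h1 | h1
  · rw [h1 v hv]; exact hv
  · rw [h1 v hv]; exact h.t_N i hv

theorem PP_norm_N (h : In H T Q V J Z N d t r) [Finite G] (i : ι) :
    PP H T V Z (r i) ≤ normalizer (N i : Set G) := by
  refine sup_le (sup_le ?_ ?_) ?_
  · intro b hb
    refine mem_normalizer_of_cj_le ?_
    rintro _ ⟨v, hv, rfl⟩
    exact h.B_N hb hv
  · rw [zpowers_le]
    refine mem_normalizer_of_cj_le ?_
    rintro _ ⟨v, hv, rfl⟩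
    exact h.r_N i hv
  · rintro c ⟨hc, hc'⟩
    refine mem_normalizer_of_cj_le ?_
    rintro _ ⟨v, hv, rfl⟩
    have e : (MulAut.conj c).toMonoidHom v = v := by
      simp only [MulEquiv.toMonoidHom_eq_coe, MonoidHom.coe_coe, MulAut.conj_apply]
      rw [← mem_centralizer_iff.1 hc' v (h.NV i hv)]; group
    rw [e]; exact hv

theorem PP_N (h : In H T Q V J Z N d t r) [Finite G] {i : ι} {x : G} (hx : x ∈ PP H T V Z (r i)) {v : G}
    (hv : v ∈ N i) : x * v * x⁻¹ ∈ N i := (mem_normalizer_iff.1 (h.PP_norm_N i hx) v).1 hv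

theorem W_le_V (h : In H T Q V J Z N d t r) (i : ι) : WW N d i ≤ V := sup_le (h.NV i) h.D_le_V

theorem PP_norm_W (h : In H T Q V J Z N d t r) [Finite G] (i : ι) :
    PP H T V Z (r i) ≤ normalizer ((WW N d i : Subgroup G) : Set G) := by
  have key : ∀ x : G, x ∈ PP H T V Z (r i) → (∀ j, x * d j * x⁻¹ ∈ WW N d i) →
      x ∈ normalizer ((WW N d i : Subgroup G) : Set G) := by
    intro x hx hd
    refine mem_normalizer_of_cj_le ?_
    rw [cj, WW, Subgroup.map_sup]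
    refine sup_le ?_ ?_
    · rintro _ ⟨v, hv, rfl⟩
      exact mem_sup_left (h.PP_N hx hv)
    · rw [Subgroup.map_le_iff_le_comap, closure_le]
      rintro _ ⟨j, rfl⟩
      exact hd j
  refine sup_le (sup_le ?_ ?_) ?_
  · intro b hb
    refine key b (B_le_PP H T V Z _ hb) fun j => ?_
    rw [(h.EE_good (h.bau_EE hb)).fixd j]
    exact mem_sup_right (subset_closure ⟨j, rfl⟩)
  · rw [zpowers_le]
    refine key _ (mem_sup_left (mem_sup_right (mem_zpowers _))) fun j => ?_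
    by_cases hij : i = j
    · subst hij
      exact mem_sup_left (h.r_N i (h.dN i))
    · rw [h.r_d' hij]
      exact mem_sup_right (subset_closure ⟨j, rfl⟩)
  · rintro c ⟨hc, hc'⟩
    refine key c (mem_sup_right ⟨hc, hc'⟩) fun j => ?_
    have e : c * d j * c⁻¹ = d j := by
      rw [← mem_centralizer_iff.1 hc' _ (h.dV j)]; group
    rw [e]
    exact mem_sup_right (subset_closure ⟨j, rfl⟩)

theorem PP_W (h : In H T Q V J Z N d t r) [Finite G] {i : ι} {x : G} (hx : x ∈ PP H T V Z (r i)) {v : G}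
    (hv : v ∈ WW N d i) : x * v * x⁻¹ ∈ WW N d i :=
  (mem_normalizer_iff.1 (h.PP_norm_W i hx) v).1 hv

theorem exists_blk (h : In H T Q V J Z N d t r) [Finite G] (i : ι) : ∃ L, Blk H T V Z d r i L := by
  classical
  obtain ⟨L, hL, hmin⟩ := (Set.toFinite {U : Subgroup G | BB T Z ≤ U ∧ U ≤ PP H T V Z (r i) ∧
    ∃ l ∈ U, l * d i * l⁻¹ ≠ d i}).exists_minimalFor id _
    ⟨PP H T V Z (r i), B_le_PP H T V Z _, le_rfl, r i, mem_sup_left (mem_sup_right (mem_zpowers _)),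
      h.r_d_ne i⟩
  exact ⟨L, hL.1, hL.2.1, hL.2.2, fun X hX hB hm => hmin ⟨hB, hX.trans hL.2.1, hm⟩ hX⟩

/-- The elements of `B` which do not centralise `N i` fix only `1` and `d i` in `N i`. -/
theorem B_ne (h : In H T Q V J Z N d t r) [Finite G] {i : ι} {b : G} (hb : b ∈ BB T Z)
    (hbQ : b ∉ QQ T Z N i) {v : G} (hv : v ∈ N i) (hfix : b * v * b⁻¹ = v) : v = 1 ∨ v = d i := by
  rcases (h.EE_good (h.bau_EE hb)).actN i with h1 | h1
  · exfalso
    refine hbQ ⟨hb, mem_centralizer_iff.2 fun w hw => ?_⟩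
    have := h1 w hw
    calc w * b = (b * w * b⁻¹) * b := by rw [this]
      _ = b * w := by group
  · rw [h1 v hv] at hfix
    exact h.t_ne i hv hfix

theorem t_not_QQ (h : In H T Q V J Z N d t r) (i : ι) : t i ∉ QQ T Z N i := by
  intro hc
  have h1 := mem_centralizer_iff.1 hc.2 _ (h.r_N i (h.dN i))
  have h2 := h.t_m i
  rw [← h1] at h2
  apply h.d1 i
  have e : r i * d i * (r i)⁻¹ * t i * (t i)⁻¹ = r i * d i * (r i)⁻¹ := by group
  rw [e] at h2
  simpa using h2.symm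

theorem comm_Y (h : In H T Q V J Z N d t r) [Finite G] {b : G} (hb : b ∈ BB T Z) {y : G}
    (hy : y ∈ YY Z V) : b * y * b⁻¹ * y⁻¹ ∈ Subgroup.closure (Set.range d) := by
  obtain ⟨z, hz, v, hv, rfl⟩ := h.mem_Y hy
  have h1 := (h.EE_good (h.bau_EE hb)).comm v hv
  have e1 : z * b = b * z := (mem_BB.1 hb).2 z hz
  have h2 : b * v * b⁻¹ * v⁻¹ ∈ V := h.D_le_V h1
  have e2 := h.ZcV z hz _ h2
  have e : b * (z * v) * b⁻¹ * (z * v)⁻¹ = b * v * b⁻¹ * v⁻¹ := by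
    calc b * (z * v) * b⁻¹ * (z * v)⁻¹ = (b * z) * v * b⁻¹ * v⁻¹ * z⁻¹ := by group
      _ = (z * b) * v * b⁻¹ * v⁻¹ * z⁻¹ := by rw [e1]
      _ = (z * (b * v * b⁻¹ * v⁻¹)) * z⁻¹ := by group
      _ = b * v * b⁻¹ * v⁻¹ := by rw [e2]; group
  rw [e]; exact h1

end In

namespace Blk

open In

variable {H T Q V J Z L : Subgroup G} {ι : Type w} {N : ι → Subgroup G} {d t r : ι → G} {i : ι}

theorem LH (k : Blk H T V Z d r i L) (h : In H T Q V J Z N d t r) : L ≤ H := k.LP.trans (h.PP_le i)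

theorem L_N (k : Blk H T V Z d r i L) (h : In H T Q V J Z N d t r) [Finite G] {l v : G} (hl : l ∈ L)
    (hv : v ∈ N i) : l * v * l⁻¹ ∈ N i := h.PP_N (k.LP hl) hv

theorem L_N' (k : Blk H T V Z d r i L) (h : In H T Q V J Z N d t r) [Finite G] {l v : G} (hl : l ∈ L)
    (hv : v ∈ N i) : l⁻¹ * v * l ∈ N i := by
  have := k.L_N h (inv_mem hl) hv
  rwa [inv_inv] at this

theorem mv_inv (_k : Blk H T V Z d r i L) {l : G} (hm : l * d i * l⁻¹ ≠ d i) :
    l⁻¹ * d i * l ≠ d i := fun e => hm (by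
      calc l * d i * l⁻¹ = l * (l⁻¹ * d i * l) * l⁻¹ := by rw [e]
        _ = d i := by group)

/-- `L = ⟨B, b^l⟩` for `b ∈ B - Q_i`. -/
theorem gen_left (k : Blk H T V Z d r i L) (h : In H T Q V J Z N d t r) [Finite G] {l b : G} (hl : l ∈ L)
    (hm : l * d i * l⁻¹ ≠ d i) (hb : b ∈ BB T Z) (hbQ : b ∉ QQ T Z N i) {X : Subgroup G}
    (hX : BB T Z ≤ X) (hx : l * b * l⁻¹ ∈ X) : L ≤ X := by
  refine (k.min (X ⊓ L) inf_le_right (le_inf hX k.BL) ⟨l * b * l⁻¹,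
    mem_inf.2 ⟨hx, mul_mem (mul_mem hl (k.BL hb)) (inv_mem hl)⟩, fun e => ?_⟩).trans inf_le_left
  -- `b` fixes `l⁻¹ d l`
  have h1 : b * (l⁻¹ * d i * l) * b⁻¹ = l⁻¹ * d i * l := by
    calc b * (l⁻¹ * d i * l) * b⁻¹ = l⁻¹ * (l * b * l⁻¹ * d i * (l * b * l⁻¹)⁻¹) * l := by group
      _ = l⁻¹ * d i * l := by rw [e]
  rcases h.B_ne hb hbQ (k.L_N' h hl (h.dN i)) h1 with h2 | h2
  · apply h.d1 i
    calc d i = l * (l⁻¹ * d i * l) * l⁻¹ := by group
      _ = 1 := by rw [h2]; group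
  · exact k.mv_inv hm h2

/-- `L = ⟨B, B^l⟩`. -/
theorem gen (k : Blk H T V Z d r i L) (h : In H T Q V J Z N d t r) [Finite G] {l : G} (hl : l ∈ L)
    (hm : l * d i * l⁻¹ ≠ d i) {X : Subgroup G} (hX : BB T Z ≤ X)
    (hx : ∀ b ∈ BB T Z, l * b * l⁻¹ ∈ X) : L ≤ X :=
  k.gen_left h hl hm (h.t_bau i) (h.t_not_QQ i) hX (hx _ (h.t_bau i))

/-- `L` acts trivially on `Y / W_i`. -/
theorem comm_Y (k : Blk H T V Z d r i L) (h : In H T Q V J Z N d t r) [Finite G] {l y : G} (hl : l ∈ L)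
    (hy : y ∈ YY Z V) : l * y * l⁻¹ * y⁻¹ ∈ WW N d i := by
  let S : Subgroup G :=
    { carrier := {x | x ∈ PP H T V Z (r i) ∧ ∀ y ∈ YY Z V, x * y * x⁻¹ * y⁻¹ ∈ WW N d i}
      mul_mem' := by
        rintro a b ⟨ha, ha'⟩ ⟨hb, hb'⟩
        refine ⟨mul_mem ha hb, fun y hy => ?_⟩
        have e : a * b * y * (a * b)⁻¹ * y⁻¹ =
          (a * (b * y * b⁻¹ * y⁻¹) * a⁻¹) * (a * y * a⁻¹ * y⁻¹) := by group
        rw [e]
        exact mul_mem (h.PP_W ha (hb' y hy)) (ha' y hy)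
      one_mem' := ⟨one_mem _, fun y _ => by
        have e : (1 : G) * y * 1⁻¹ * y⁻¹ = 1 := by group
        rw [e]; exact one_mem _⟩
      inv_mem' := by
        rintro a ⟨ha, ha'⟩
        refine ⟨inv_mem ha, fun y hy => ?_⟩
        have e : a⁻¹ * y * a⁻¹⁻¹ * y⁻¹ = a⁻¹ * (a * y * a⁻¹ * y⁻¹)⁻¹ * a⁻¹⁻¹ := by group
        rw [e]
        exact h.PP_W (inv_mem ha) (inv_mem (ha' y hy)) }
  have hBS : BB T Z ≤ S := fun b hb => ⟨B_le_PP H T V Z _ hb, fun y hy =>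
    mem_sup_right (h.comm_Y hb hy)⟩
  obtain ⟨m, hm, hmm⟩ := k.mv
  have hLS : L ≤ S := by
    refine k.gen h hm hmm hBS fun b hb => ?_
    have hmP := k.LP hm
    refine ⟨mul_mem (mul_mem hmP (B_le_PP H T V Z _ hb)) (inv_mem hmP), fun y hy => ?_⟩
    have hy' : m⁻¹ * y * m ∈ YY Z V := by
      have := h.Y_norm m⁻¹ (inv_mem (k.LH h hm)) y hy
      rwa [inv_inv] at this
    have h2 := h.PP_W hmP ((hBS hb).2 _ hy')
    have e : m * b * m⁻¹ * y * (m * b * m⁻¹)⁻¹ * y⁻¹ =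
      m * (b * (m⁻¹ * y * m) * b⁻¹ * (m⁻¹ * y * m)⁻¹) * m⁻¹ := by group
    rw [e]; exact h2
  exact (hLS hl).2 y hy

theorem W_le_VV (h : In H T Q V J Z N d t r) [Finite G] : WW N d i ≤ VV Z N i :=
  sup_le le_sup_right (h.D_le_Z.trans le_sup_left)

theorem VV_le_Y (h : In H T Q V J Z N d t r) : VV Z N i ≤ YY Z V :=
  sup_le (Z_le_Y Z V) ((h.NV i).trans (V_le_Y Z V))

theorem VV_norm (k : Blk H T V Z d r i L) (h : In H T Q V J Z N d t r) [Finite G] {l v : G} (hl : l ∈ L)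
    (hv : v ∈ VV Z N i) : l * v * l⁻¹ ∈ VV Z N i := by
  have h1 := k.comm_Y h hl (VV_le_Y h hv)
  have h2 := mul_mem (W_le_VV h h1) hv
  have e : l * v * l⁻¹ * v⁻¹ * v = l * v * l⁻¹ := by group
  rwa [e] at h2

theorem mem_VV (h : In H T Q V J Z N d t r) [Finite G] {v : G} (hv : v ∈ VV Z N i) :
    ∃ z ∈ Z, ∃ n ∈ N i, v = z * n :=
  mem_sup_comm (fun z hz n hn => h.ZcV z hz n (h.NV i hn)) hv

theorem Z_inf_N (h : In H T Q V J Z N d t r) [Finite G] {v : G} (hv : v ∈ N i) (hz : v ∈ Z) :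
    v = 1 ∨ v = d i := by
  refine h.B_ne (h.t_bau i) (h.t_not_QQ i) hv ?_
  have := (mem_BB.1 (h.t_bau i)).2 v hz
  rw [← this]; group

theorem VV_le_B (h : In H T Q V J Z N d t r) [Finite G] : VV Z N i ≤ BB T Z := by
  intro v hv
  have h1 := VV_le_Y h hv
  refine mem_BB.2 ⟨h.QT (h.Y_le_Q h1), fun y hy => ?_⟩
  exact elem_comm h.Y_elem y (Z_le_Y Z V hy) v h1

theorem VV_le_QQ (h : In H T Q V J Z N d t r) [Finite G] : VV Z N i ≤ QQ T Z N i := by
  intro v hv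
  refine ⟨VV_le_B h hv, mem_centralizer_iff.2 fun n hn => ?_⟩
  exact elem_comm h.Y_elem n (V_le_Y Z V (h.NV i hn)) v (VV_le_Y h hv)

/-- `Q* ≤ Q_i` -/
theorem star_le_QQ (h : In H T Q V J Z N d t r) : BB T Z ⊓ Q ≤ QQ T Z N i := fun x hx =>
  ⟨hx.1, mem_centralizer_iff.2 fun n hn => (h.VcQ x hx.2 n (h.NV i hn)).symm⟩

/-- An element of `Z` which stays in `Z` under `l⁻¹` is centralised by `L`. -/
theorem cent_of (k : Blk H T V Z d r i L) (h : In H T Q V J Z N d t r) [Finite G] {l y : G} (hl : l ∈ L)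
    (hm : l * d i * l⁻¹ ≠ d i) (h1 : y ∈ Z) (h2 : l⁻¹ * y * l ∈ Z) :
    ∀ x ∈ L, x * y = y * x := by
  have h3 : L ≤ centralizer ({y} : Set G) := by
    refine k.gen h hl hm (fun b hb => ?_) fun c hc => ?_
    · rw [mem_centralizer_iff]
      intro w hw
      rw [show w = y from hw]
      exact (mem_BB.1 hb).2 _ h1
    · rw [mem_centralizer_iff]
      intro w hw
      rw [show w = y from hw]
      have h4 := (mem_BB.1 hc).2 _ h2
      calc y * (l * c * l⁻¹) = l * (l⁻¹ * y * l * c) * l⁻¹ := by group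
        _ = l * (c * (l⁻¹ * y * l)) * l⁻¹ := by rw [h4]
        _ = l * c * l⁻¹ * y := by group
  intro x hx
  exact ((mem_centralizer_iff.1 (h3 hx)) y rfl).symm

/-- `Z = ⟨d i⟩ (Z ∩ Z^l)`. -/
theorem Z_split (k : Blk H T V Z d r i L) (h : In H T Q V J Z N d t r) [Finite G] {l z : G} (hl : l ∈ L)
    (hm : l * d i * l⁻¹ ≠ d i) (hz : z ∈ Z) :
    l⁻¹ * z * l ∈ Z ∨ l⁻¹ * (d i * z) * l ∈ Z := by
  have h1 : l⁻¹ * z * l ∈ VV Z N i := by
    have := k.VV_norm h (inv_mem hl) (mem_sup_left hz)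
    rwa [inv_inv] at this
  obtain ⟨z', hz', n, hn, e⟩ := mem_VV h h1
  have hdN := k.L_N' h hl (h.dN i)
  have hd1 : l⁻¹ * d i * l ≠ 1 := fun e1 => h.d1 i (by
    calc d i = l * (l⁻¹ * d i * l) * l⁻¹ := by group
      _ = 1 := by rw [e1]; group)
  have hdd := k.mv_inv hm
  have hdZ := h.d_mem_Z i
  have hmm := h.mem_N i hdN
  set m := r i * d i * (r i)⁻¹ with hmdef
  have hmN : m ∈ N i := h.r_N i (h.dN i)
  have hmV := h.NV i hmN
  have hmsq := h.mulself hmV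
  have hdsq := h.mulself (h.dV i)
  have hdm := h.Vcomm _ (h.dV i) _ hmV
  have e2 : l⁻¹ * (d i * z) * l = (l⁻¹ * d i * l) * (z' * n) := by
    rw [← e]; group
  have e3 : (l⁻¹ * d i * l) * (z' * n) = z' * ((l⁻¹ * d i * l) * n) := by
    have := h.ZcV z' hz' _ (h.NV i hdN)
    calc (l⁻¹ * d i * l) * (z' * n) = ((l⁻¹ * d i * l) * z') * n := by group
      _ = (z' * (l⁻¹ * d i * l)) * n := by rw [this]
      _ = _ := by group
  rcases h.mem_N i hn with h2 | h2 | h2 | h2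
  · left; rw [e, h2, mul_one]; exact hz'
  · left; rw [e, h2]; exact mul_mem hz' hdZ
  · right
    rw [e2, e3]
    refine mul_mem hz' ?_
    rcases hmm with h3 | h3 | h3 | h3
    · exact absurd h3 hd1
    · exact absurd h3 hdd
    · rw [h3, h2, ← hmdef, hmsq]; exact one_mem _
    · rw [h3, h2, ← hmdef, mul_assoc, hmsq, mul_one]; exact hdZ
  · right
    rw [e2, e3]
    refine mul_mem hz' ?_
    rcases hmm with h3 | h3 | h3 | h3
    · exact absurd h3 hd1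
    · exact absurd h3 hdd
    · rw [h3, h2, ← hmdef]
      have e4 : m * (d i * m) = d i := by
        rw [hdm, ← mul_assoc, hmsq, one_mul]
      rw [e4]; exact hdZ
    · rw [h3, h2, ← hmdef]
      have e4 : d i * m * (d i * m) = 1 := by
        calc d i * m * (d i * m) = (m * d i) * (d i * m) := by rw [← hdm]
          _ = m * (d i * d i) * m := by group
          _ = 1 := by rw [hdsq, mul_one, hmsq]
      rw [e4]; exact one_mem _

/-- `L ∩ Q ≤ B`. -/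
theorem inf_Q (k : Blk H T V Z d r i L) (h : In H T Q V J Z N d t r) [Finite G] {x : G} (hx : x ∈ L)
    (hxQ : x ∈ Q) : x ∈ BB T Z := by
  obtain ⟨l, hl, hm⟩ := k.mv
  refine mem_BB.2 ⟨h.QT hxQ, fun z hz => ?_⟩
  rcases k.Z_split h hl hm hz with h1 | h1
  · exact (k.cent_of h hl hm hz h1 x hx).symm
  · have h2 := k.cent_of h hl hm (mul_mem (h.d_mem_Z i) hz) h1 x hx
    have h3 := h.VcQ x hxQ _ (h.dV i)
    have e : x * z = z * x := by
      have h4 : d i * (x * z) = d i * (z * x) := by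
        calc d i * (x * z) = (d i * x) * z := by group
          _ = (x * d i) * z := by rw [h3]
          _ = x * (d i * z) := by group
          _ = d i * z * x := h2
          _ = _ := by group
      exact mul_left_cancel h4
    exact e.symm

/-- `Q_i` is a Sylow 2-subgroup of `C_L(N_i)`. -/
theorem syl_QQ (k : Blk H T V Z d r i L) (h : In H T Q V J Z N d t r) [Finite G] :
    ChoiceSit.Syl (QQ T Z N i) (L ⊓ centralizer (N i : Set G)) := by
  refine ⟨inf_le_inf_right _ k.BL, h.Tp.to_le (inf_le_left.trans (BB_le T Z)), ?_⟩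
  intro P hPC hP hQP
  refine le_antisymm ?_ hQP
  intro x hx
  have hxC := hPC hx
  have hxL : x ∈ L := hxC.1
  have hfix : ∀ n ∈ N i, x * n * x⁻¹ = n := fun n hn => by
    rw [← mem_centralizer_iff.1 hxC.2 n hn]; group
  obtain ⟨b, hb, hbx⟩ := h.PP_fix (k.LP hxL) (hfix _ (h.dN i))
  have hbQ : b ∈ QQ T Z N i := by
    refine ⟨hb, mem_centralizer_iff.2 fun n hn => ?_⟩
    have h1 := hbx n (h.NV i hn)
    rw [hfix n hn] at h1
    calc n * b = (b * n * b⁻¹) * b := by rw [← h1]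
      _ = b * n := by group
  have hcP : b⁻¹ * x ∈ P := mul_mem (inv_mem (hQP hbQ)) hx
  have hcH : b⁻¹ * x ∈ H := mul_mem (inv_mem (h.bau_H hb)) (k.LH h hxL)
  have hcV : ∀ v ∈ V, b⁻¹ * x * v = v * (b⁻¹ * x) := by
    refine sim_one_iff.1 ?_
    have := hbx.mul_left b⁻¹
    rwa [inv_mul_cancel] at this
  have hcQ : b⁻¹ * x ∈ Q := by
    obtain ⟨n, hn⟩ := hP ⟨_, hcP⟩
    exact h.two _ hcH hcV ⟨n, by simpa using congrArg Subtype.val hn⟩
  have hcB : b⁻¹ * x ∈ BB T Z := k.inf_Q h (mul_mem (inv_mem (k.BL hb)) hxL) hcQ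
  have h2 := mul_mem hbQ (star_le_QQ (i := i) h ⟨hcB, hcQ⟩)
  rwa [mul_inv_cancel_left] at h2

/-- `Q_i` is normal in `L`. -/
theorem QQ_norm (k : Blk H T V Z d r i L) (h : In H T Q V J Z N d t r) [Finite G] :
    L ≤ normalizer ((QQ T Z N i : Subgroup G) : Set G) := by
  set C := L ⊓ centralizer (N i : Set G) with hC
  have hB : BB T Z ≤ normalizer ((QQ T Z N i : Subgroup G) : Set G) := by
    intro b hb
    refine mem_normalizer_of_cj_le ?_
    rintro _ ⟨x, hx, rfl⟩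
    refine ⟨(BB T Z).mul_mem ((BB T Z).mul_mem hb hx.1) ((BB T Z).inv_mem hb),
      mem_centralizer_iff.2 fun n hn => ?_⟩
    have hn' : b⁻¹ * n * b ∈ N i := by
      have := h.B_N (inv_mem hb) hn
      rwa [inv_inv] at this
    have h1 := mem_centralizer_iff.1 hx.2 _ hn'
    change n * (b * x * b⁻¹) = (b * x * b⁻¹) * n
    calc n * (b * x * b⁻¹) = b * ((b⁻¹ * n * b) * x) * b⁻¹ := by group
      _ = b * (x * (b⁻¹ * n * b)) * b⁻¹ := by rw [h1]
      _ = _ := by group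
  obtain ⟨l, hl, hm⟩ := k.mv
  have hs := k.syl_QQ h
  rw [← hC] at hs
  have hlC : cj l C = C := by
    refine cj_eq_of_mem_normalizer (mem_normalizer_of_cj_le ?_)
    rintro _ ⟨x, hx, rfl⟩
    refine ⟨L.mul_mem (L.mul_mem hl hx.1) (L.inv_mem hl), mem_centralizer_iff.2 fun n hn => ?_⟩
    have h1 := mem_centralizer_iff.1 hx.2 _ (k.L_N' h hl hn)
    change n * (l * x * l⁻¹) = (l * x * l⁻¹) * n
    calc n * (l * x * l⁻¹) = l * ((l⁻¹ * n * l) * x) * l⁻¹ := by group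
      _ = l * (x * (l⁻¹ * n * l)) * l⁻¹ := by rw [h1]
      _ = _ := by group
  have hs' : ChoiceSit.Syl (cj l (QQ T Z N i)) C := by
    refine ⟨?_, isPGroup_cj l hs.2.1, ?_⟩
    · rw [← hlC]; exact cj_mono l hs.1
    · intro P hP hP2 hQP
      have h1 : cj l⁻¹ P = QQ T Z N i := by
        refine hs.2.2 _ ?_ (isPGroup_cj _ hP2) ?_
        · rw [cj_le_iff, inv_inv, hlC]; exact hP
        · rw [← cj_le_iff]; exact hQP
      rw [← h1, cj_cj_inv]
  obtain ⟨c, hc, hcc⟩ := ChoiceSit.syl_conj hs' hs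
  rw [cj_cj] at hcc
  have hcl : c * l ∈ normalizer ((QQ T Z N i : Subgroup G) : Set G) := mem_normalizer_iff_cj.2 hcc
  refine (k.min (L ⊓ normalizer ((QQ T Z N i : Subgroup G) : Set G)) inf_le_left
    (le_inf k.BL hB) ⟨c * l, ⟨mul_mem hc.1 hl, hcl⟩, ?_⟩).trans inf_le_right
  have h1 := mem_centralizer_iff.1 hc.2 _ (k.L_N h hl (h.dN i))
  have e : c * l * d i * (c * l)⁻¹ = l * d i * l⁻¹ := by
    calc c * l * d i * (c * l)⁻¹ = (c * (l * d i * l⁻¹)) * c⁻¹ := by group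
      _ = (l * d i * l⁻¹ * c) * c⁻¹ := by rw [h1]
      _ = _ := by group
  rw [e]; exact hm

theorem L_QQ (k : Blk H T V Z d r i L) (h : In H T Q V J Z N d t r) [Finite G] {l x : G} (hl : l ∈ L)
    (hx : x ∈ QQ T Z N i) : l * x * l⁻¹ ∈ QQ T Z N i :=
  (mem_normalizer_iff.1 (k.QQ_norm h hl) x).1 hx

/-- `⟨T, L⟩ = H`. -/
theorem sup_T (k : Blk H T V Z d r i L) (h : In H T Q V J Z N d t r) [Finite G] {X : Subgroup G}
    (hT : T ≤ X) (hL : L ≤ X) : H ≤ X := by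
  obtain ⟨l, hl, hm⟩ := k.mv
  obtain ⟨y, hy, hys⟩ := h.PP_mv (k.LP hl) hm ((BB_le T Z).trans hT) (hL hl)
  exact (h.max (X ⊓ H) (le_inf hT h.TH) inf_le_right i ⟨y, hy, hys⟩).trans inf_le_left

/-- `l` moves `D_i` out of `Z` iff it moves `d i`. -/
theorem mv_iff (k : Blk H T V Z d r i L) (h : In H T Q V J Z N d t r) [Finite G] {l : G} (hl : l ∈ L) :
    Cfsg.Agent.Omega.PushUp.Mv (zpowers (d i)) (Z) l ↔ l * d i * l⁻¹ ≠ d i := by
  constructor
  · rintro ⟨x, hx, hx'⟩ e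
    apply hx'
    have h1 : zpowers (d i) ≤ centralizer ({l} : Set G) := by
      rw [zpowers_le, mem_centralizer_iff]
      intro w hw
      rw [show w = l from hw]
      calc l * d i = (l * d i * l⁻¹) * l := by group
        _ = d i * l := by rw [e]
    have h2 := mem_centralizer_iff.1 (h1 hx) l rfl
    have e2 : Cfsg.Agent.MinSimple.PushUp.cj l x = x := by
      change l * x * l⁻¹ = x
      rw [h2]; group
    rw [e2]
    exact (zpowers_le).2 (h.d_mem_Z i) hx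
  · intro hm
    refine ⟨d i, mem_zpowers _, fun hZ => ?_⟩
    rcases Z_inf_N h (k.L_N h hl (h.dN i)) hZ with h1 | h1
    · apply h.d1 i
      calc d i = l⁻¹ * (l * d i * l⁻¹) * l := by group
        _ = 1 := by rw [h1]; group
    · exact hm h1

theorem mem_zp (h : In H T Q V J Z N d t r) {x : G} (hx : x ∈ zpowers (d i)) : x = 1 ∨ x = d i := by
  obtain ⟨n, rfl⟩ := mem_zpowers_iff.1 hx
  have hsq : d i ^ (2 : ℤ) = 1 := by
    rw [show (2 : ℤ) = 1 + 1 by norm_num, zpow_add, zpow_one, h.mulself (h.dV i)]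
  rcases Int.emod_two_eq_zero_or_one n with h1 | h1
  · left
    rw [show n = 2 * (n / 2) by omega, zpow_mul, hsq, one_zpow]
  · right
    rw [show n = 2 * (n / 2) + 1 by omega, zpow_add, zpow_mul, hsq, one_zpow, one_mul, zpow_one]

theorem relIndex_QQ (h : In H T Q V J Z N d t r) [Finite G] : (QQ T Z N i).relIndex (BB T Z) = 2 := by
  rw [Subgroup.relIndex, Subgroup.index_eq_two_iff]
  refine ⟨⟨t i, h.t_bau i⟩, ?_⟩
  rintro ⟨b, hb⟩
  simp only [mem_subgroupOf, Subgroup.coe_mul]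
  have hQ : ∀ {b : G}, b ∈ BB T Z → (b ∈ QQ T Z N i ↔ ∀ v ∈ N i, b * v * b⁻¹ = v) := by
    intro b hb
    constructor
    · intro h1 v hv
      rw [← mem_centralizer_iff.1 h1.2 v hv]; group
    · intro h1
      refine ⟨hb, mem_centralizer_iff.2 fun v hv => ?_⟩
      calc v * b = (b * v * b⁻¹) * b := by rw [h1 v hv]
        _ = b * v := by group
  have hd : ∀ v : G, b * t i * v * (b * t i)⁻¹ = b * (t i * v * (t i)⁻¹) * b⁻¹ := fun v => by group
  rcases (h.EE_good (h.bau_EE hb)).actN i with h1 | h1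
  · refine Or.inr ⟨(hQ hb).2 h1, fun h2 => h.t_not_QQ i ((hQ (h.t_bau i)).2 fun v hv => ?_)⟩
    have h3 := (hQ (mul_mem hb (h.t_bau i))).1 h2 v hv
    rwa [hd, h1 _ (h.t_N i hv)] at h3
  · refine Or.inl ⟨(hQ (mul_mem hb (h.t_bau i))).2 fun v hv => ?_, fun h2 => ?_⟩
    · rw [hd, h1 _ (h.t_N i hv)]
      have e : t i * (t i * v * (t i)⁻¹) * (t i)⁻¹ = t i * t i * v * (t i * t i)⁻¹ := by group
      rw [e, h.tsq i v (h.NV i hv)]; group
    · exact h.t_not_QQ i ((hQ (h.t_bau i)).2 fun v hv => by rw [← h1 v hv, (hQ hb).1 h2 v hv])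

end Blk

end Cfsg.Agent.Omega.OM.Lev.SIn

end

section


/-!
# THEOREM QW, (2') for every `q` (helper866 #24897, helper276 #25131, helper360 #25134)

`FrL B Q V X ZJ L W Z C A q` (at least two blocks), `B` weakly closed, `N_G(B) ≤ N_G(X)`, `z ∈ Z_J` of full support with
`V ≤ O₂(C_G(z))`. Then `W j ≤ O₂(C_G(z c))` for every `c ∈ Z j`:

* the `j`-component of `z c` is not trivial: `z c = z^g`, `g ∈ L j`;
* the `j`-component of `z c` is trivial: a Sylow 2-subgroup `T ≥ B` of `C_G(z c)` normalises `B`, so it permutes the `Z i` and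
  fixes `Z j`; it fixes some `1 ≠ d ∈ Z j`, `d ∈ Z(O₂(C_G(z c)))`, and `L j ≤ C_G(z c)`.
-/

set_option autoImplicit false
set_option linter.unusedSectionVars false

namespace Cfsg.Agent.Omega.NO3S.CaseLW.QWoFr

open Subgroup Cfsg Cfsg.Agent.PLocal.ThompsonJ Cfsg.Agent.ZN Cfsg.Agent.ZN.ChoiceBase
open Cfsg.Agent.Omega.SQ1.Bau (mem_sup_comm card_sup_comm elem_comm elem_sq)
open Cfsg.Agent.Omega.OM.BlockUniq Cfsg.Agent.Omega.OM.Uni Cfsg.Agent.Omega.OM.Lev.Uni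
open Cfsg.Agent.ZN.ChoiceSit (Syl exists_syl o2_le_syl)
open Cfsg.Agent.MinSimple.VModule (o2_isPGroup)

universe u

variable {G : Type u} [Group G] [Finite G] {ι : Type*} {B Q V X ZJ : Subgroup G} {L W Z C A : ι → Subgroup G} {q : ℕ}

/-- a 2-group normalising a nontrivial 2-group fixes a nontrivial element -/
theorem exists_fix {U N : Subgroup G} (hU : IsPGroup 2 U) (hn : ∀ u ∈ U, ∀ n ∈ N, u * n * u⁻¹ ∈ N)
    (hN : 2 ∣ Nat.card N) : ∃ v ∈ N, v ≠ 1 ∧ ∀ u ∈ U, u * v * u⁻¹ = v := by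
  have : Fact (Nat.Prime 2) := ⟨Nat.prime_two⟩
  let act : MulAction U N :=
    { smul := fun u n => ⟨(u : G) * n * (u : G)⁻¹, hn u u.2 n n.2⟩
      one_smul := fun n => Subtype.ext (by
        change (1 : G) * n * (1 : G)⁻¹ = n
        group)
      mul_smul := fun a b n => Subtype.ext (by
        change ((a : G) * b) * n * ((a : G) * b)⁻¹ = (a : G) * ((b : G) * n * (b : G)⁻¹) * (a : G)⁻¹
        group) }
  have hone : (1 : N) ∈ MulAction.fixedPoints U N := by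
    intro u
    apply Subtype.ext
    change (u : G) * 1 * (u : G)⁻¹ = 1
    group
  obtain ⟨v, hv, hv1⟩ := hU.exists_fixed_point_of_prime_dvd_card_of_fixed_point N hN hone
  refine ⟨v, v.2, fun h => hv1 (Subtype.ext h.symm), ?_⟩
  intro u hu
  exact congrArg Subtype.val (hv ⟨u, hu⟩)

theorem Z_ne (h : FrL B Q V X ZJ L W Z C A q) (i : ι) : ∃ z ∈ Z i, z ≠ 1 := by
  have h1 : 1 < Nat.card (Z i) := by rw [h.cardZ i]; exact (h.blk i).one
  have : Nontrivial (Z i) := Finite.one_lt_card_iff_nontrivial.1 h1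
  obtain ⟨z, hz⟩ := exists_ne (1 : Z i)
  exact ⟨z, z.2, fun h => hz (Subtype.ext h)⟩

theorem Z_C (h : FrL B Q V X ZJ L W Z C A q) {i j : ι} (hij : i ≠ j) : Z j ≤ C i :=
  (h.blk j).ZV.trans (h.WjC i j hij)

theorem not_mem_C (h : FrL B Q V X ZJ L W Z C A q) {i : ι} {z : G} (hz : z ∈ Z i) (h1 : z ≠ 1) : z ∉ C i := by
  intro hc
  have h2 : z ∈ W i ⊓ C i := mem_inf.2 ⟨(h.blk i).ZV hz, hc⟩
  rw [h.dir i, mem_bot] at h2
  exact h1 h2

/-- `Z` is injective. -/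
theorem Z_inj (h : FrL B Q V X ZJ L W Z C A q) {i j : ι} (e : Z i = Z j) : i = j := by
  by_contra hne
  obtain ⟨z, hz, hz1⟩ := Z_ne h i
  exact not_mem_C h hz hz1 (Z_C h hne (e ▸ hz))

theorem two_dvd (h : FrL B Q V X ZJ L W Z C A q) (i : ι) : 2 ∣ Nat.card (Z i) := by
  obtain ⟨z, hz, hz1⟩ := Z_ne h i
  have h2 : z ^ 2 = 1 := elem_sq h.elX z (h.VX (h.ZV i hz))
  have h3 : orderOf (⟨z, hz⟩ : Z i) = 2 := by
    rw [orderOf_eq_prime_iff]
    exact ⟨Subtype.ext h2, fun h4 => hz1 (congrArg Subtype.val h4)⟩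
  rw [← h3]
  exact orderOf_dvd_natCard _

/-- an element of `Z_J` is in the product of the `Z i` over its support -/
theorem mem_sup_supp (h : FrL B Q V X ZJ L W Z C A q) [Finite ι] (s : Finset ι) :
    ∀ x ∈ ZJ, (∀ i, i ∉ s → x ∈ C i) → x ∈ ⨆ i ∈ s, Z i := by
  classical
  induction s using Finset.induction_on with
  | empty =>
    intro x hx hs
    rw [h.C0 x (h.ZJV hx) fun i => hs i (Finset.notMem_empty i)]
    exact one_mem _
  | insert a s ha ih =>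
    intro x hx hs
    obtain ⟨w, hw, c, hc, hcJ, e⟩ := h.split_ZJ a hx
    have h1 : c ∈ ⨆ i ∈ s, Z i := by
      refine ih c hcJ fun i hi => ?_
      by_cases hia : i = a
      · rw [hia]; exact hc
      · have h2 : x ∈ C i := hs i (by
          rw [Finset.mem_insert]
          push Not
          exact ⟨hia, hi⟩)
        have h3 : w ∈ C i := Z_C h hia hw
        have h4 : c = w⁻¹ * x := by rw [e]; group
        rw [h4]
        exact mul_mem (inv_mem h3) h2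
    rw [e]
    refine mul_mem ?_ ?_
    · exact (le_iSup₂_of_le (f := fun i (_ : i ∈ insert a s) => Z i) a (Finset.mem_insert_self a s) le_rfl) hw
    · refine (iSup₂_le fun i hi => ?_ : (⨆ i ∈ s, Z i) ≤ _) h1
      exact le_iSup₂_of_le (f := fun i (_ : i ∈ insert a s) => Z i) i (Finset.mem_insert_of_mem hi) le_rfl

/-- an element permuting the `Z i` permutes the supports -/
theorem supp_cj (h : FrL B Q V X ZJ L W Z C A q) [Finite ι] {g : G} (hg : ∀ i, ∃ j, cj g (Z i) = Z j) {i j : ι}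
    (e : cj g (Z j) = Z i) {x : G} (hx : x ∈ ZJ) (hxj : x ∈ C j) : g * x * g⁻¹ ∈ C i := by
  classical
  cases nonempty_fintype ι
  have h1 : x ∈ ⨆ l ∈ (Finset.univ.erase j), Z l := by
    refine mem_sup_supp h _ x hx fun l hl => ?_
    rw [Finset.mem_erase] at hl
    push Not at hl
    by_cases hlj : l = j
    · rw [hlj]; exact hxj
    · exact absurd (Finset.mem_univ l) (hl hlj)
  have h2 : (⨆ l ∈ (Finset.univ.erase j), Z l) ≤ (C i).comap (MulAut.conj g).toMonoidHom := by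
    refine iSup₂_le fun l hl => ?_
    rw [Finset.mem_erase] at hl
    intro y hy
    obtain ⟨m, hm⟩ := hg l
    have hmi : m ≠ i := by
      intro h3
      rw [h3, ← e] at hm
      have h4 : Z l = Z j := by
        have := congrArg (cj g⁻¹) hm
        rwa [cj_inv_cj, cj_inv_cj] at this
      exact hl.1 (Z_inj h h4)
    rw [mem_comap]
    change g * y * g⁻¹ ∈ C i
    exact Z_C h hmi.symm (by rw [← hm]; exact ⟨y, hy, rfl⟩)
  exact h2 h1

theorem Z_conj (h : FrL B Q V X ZJ L W Z C A q) {j : ι} {x y : G} (hx : x ∈ Z j) (hy : y ∈ Z j) (hx1 : x ≠ 1)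
    (hy1 : y ≠ 1) : ∃ l ∈ L j, l * x * l⁻¹ = y := by
  obtain ⟨k, hk, hne⟩ := h.exists_mv j
  have key : ∀ t ∈ Z j, t ∈ centralizer (L j : Set G) → t = 1 := by
    intro t ht htc
    have h1 : t ∈ cj k (Z j) ⊓ Z j := by
      refine mem_inf.2 ⟨?_, ht⟩
      rw [mem_cj]
      have h2 := mem_centralizer_iff.1 htc k hk
      have h3 : k⁻¹ * t * k = t := by
        calc k⁻¹ * t * k = k⁻¹ * (t * k) := by group
          _ = k⁻¹ * (k * t) := by rw [h2]
          _ = t := by group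
      rwa [h3]
    rw [h.tri' hk hne, mem_bot] at h1
    exact h1
  obtain ⟨l, hl, hlB, h1⟩ := (h.blk j).tor x hx (fun h2 => hx1 (key x hx h2)) y hy fun h2 => hy1 (key y hy h2)
  refine ⟨l, hl, ?_⟩
  have h2 : l * x * l⁻¹ ∈ Z j := by
    refine (h.blk j).mem_Z_iff.2 ⟨(h.blk j).nV l hl x ((h.blk j).ZV hx), fun b hb => ?_⟩
    have h3 : l⁻¹ * b * l ∈ B := by
      have := (mem_normalizer_iff.1 (inv_mem hlB) b).1 hb
      rwa [inv_inv] at this
    have h4 := (h.blk j).cZ _ h3 x hx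
    calc b * (l * x * l⁻¹) = l * ((l⁻¹ * b * l) * x) * l⁻¹ := by group
      _ = l * (x * (l⁻¹ * b * l)) * l⁻¹ := by rw [h4]
      _ = l * x * l⁻¹ * b := by group
  exact mul_inv_eq_one.1 (key _ (mul_mem h2 (inv_mem hy)) h1)

/-- `W j` is generated by the conjugates of `1 ≠ d ∈ Z j` under `L j` -/
theorem W_le (h : FrL B Q V X ZJ L W Z C A q) {j : ι} {d : G} (hd : d ∈ Z j) (hd1 : d ≠ 1) {K : Subgroup G}
    (hK : ∀ l ∈ L j, l * d * l⁻¹ ∈ K) : W j ≤ K := by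
  obtain ⟨k, hk, hs⟩ := (h.blk j).sup
  have h2 : ⁅W j, B⁆ ≤ Z j := (h.blk j).comm_le le_rfl
  refine hs.trans (sup_le ?_ ?_)
  · intro x hx
    by_cases hx1 : x = 1
    · rw [hx1]; exact one_mem _
    obtain ⟨l, hl, e⟩ := Z_conj h hd (h2 hx) hd1 hx1
    rw [← e]
    exact hK l hl
  · rintro _ ⟨x, hx, rfl⟩
    change k * x * k⁻¹ ∈ K
    by_cases hx1 : x = 1
    · rw [hx1]; simp
    obtain ⟨l, hl, e⟩ := Z_conj h hd (h2 hx) hd1 hx1
    rw [← e]
    have h3 := hK (k * l) (mul_mem hk hl)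
    have e2 : k * (l * d * l⁻¹) * k⁻¹ = k * l * d * (k * l)⁻¹ := by group
    rwa [e2]

/-- conjugation of `O₂(C_G(r))` -/
theorem o2_cj {r r' d x : G} (h : d * r * d⁻¹ = r') (hx : x ∈ o2 (centralizer ({r} : Set G))) :
    d * x * d⁻¹ ∈ o2 (centralizer ({r'} : Set G)) := by
  have e1 : cj d (centralizer ({r} : Set G)) = centralizer ({r'} : Set G) := by
    ext x
    rw [mem_cj, mem_centralizer_singleton_iff, mem_centralizer_singleton_iff, ← h]
    constructor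
    · intro h1
      calc x * (d * r * d⁻¹) = d * (d⁻¹ * x * d * r) * d⁻¹ := by group
        _ = d * (r * (d⁻¹ * x * d)) * d⁻¹ := by rw [h1]
        _ = d * r * d⁻¹ * x := by group
    · intro h1
      calc d⁻¹ * x * d * r = d⁻¹ * (x * (d * r * d⁻¹)) * d := by group
        _ = d⁻¹ * (d * r * d⁻¹ * x) * d := by rw [h1]
        _ = r * (d⁻¹ * x * d) := by group
  have e2 : o2 (cj d (centralizer ({r} : Set G))) = cj d (o2 (centralizer ({r} : Set G))) :=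
    ZN.o2_map _ (MulAut.conj d).injective _
  rw [← e1, e2, mem_cj]
  have e3 : d⁻¹ * (d * x * d⁻¹) * d = x := by group
  rw [e3]
  exact hx

variable [Finite ι]

/-- **(2'), the `j`-component of `e` is trivial, the others are not.** -/
theorem le_o2_zero (h : FrL B Q V X ZJ L W Z C A q) (hG : IsCharacteristicTwoType G) (hB : IsPGroup 2 B)
    (wc : ∀ R : Subgroup G, IsPGroup 2 R → B ≤ R → R ≤ normalizer (B : Set G))
    (hX : normalizer (B : Set G) ≤ normalizer (X : Set G)) {e : G} (he : e ∈ ZJ) (he1 : e ≠ 1) {j : ι} (hej : e ∈ C j)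
    (hf : ∀ i, i ≠ j → e ∉ C i) : W j ≤ o2 (centralizer ({e} : Set G)) := by
  set H : Subgroup G := centralizer ({e} : Set G) with hH
  have hBH : B ≤ H := fun b hb => mem_centralizer_singleton_iff.2 (((h.mem_ZJ e).1 he).2 b hb)
  have hLH : L j ≤ H := fun l hl => mem_centralizer_singleton_iff.2 (h.LC j l hl e he hej)
  obtain ⟨T, hT, hBT⟩ := exists_syl hB hBH
  have hTB := wc T hT.2.1 hBT
  have hTZ : ∀ t ∈ T, cj t (Z j) = Z j := by
    intro t ht
    obtain ⟨-, hp⟩ := h.norm_of (hTB ht) (hX (hTB ht))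
    obtain ⟨i, hi, -⟩ := hp j
    have h1 : t * e * t⁻¹ ∈ C i := supp_cj h (fun i => (hp i).imp fun m hm => hm.1) hi he hej
    have h2 : t * e * t⁻¹ = e := mul_inv_eq_iff_eq_mul.2 (mem_centralizer_singleton_iff.1 (hT.1 ht))
    rw [h2] at h1
    by_cases hij : i = j
    · rw [hi, hij]
    · exact absurd h1 (hf i hij)
  obtain ⟨d, hd, hd1, hdT⟩ := exists_fix hT.2.1 (fun t ht n hn => by
    rw [← hTZ t ht]; exact ⟨n, hn, rfl⟩) (two_dvd h j)
  have he2 : e ^ 2 = 1 := elem_sq h.elX e (h.VX (h.ZJV he))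
  have hdB : d ∈ B := h.QB (h.VQ (h.ZV j hd))
  have hdO : d ∈ o2 H := by
    refine MinSimple.Basic.char2_centralizer hG he2 he1 (mem_inf.2 ⟨hBH hdB, mem_centralizer_iff.2 fun x hx => ?_⟩)
    exact mul_inv_eq_iff_eq_mul.1 (hdT x (o2_le_syl hT hx))
  refine W_le h hd hd1 fun l hl => ?_
  have h1 : H ≤ normalizer (o2 H : Set G) := ZN.le_normalizer_o2 _
  exact (mem_normalizer_iff.1 (h1 (hLH hl)) d).1 hdO

/-- **(2') for every `q`** : `W j ≤ O₂(C_G(z c))`, `c ∈ Z j`, `z` of full support, `V ≤ O₂(C_G(z))`. -/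
theorem le_o2_q (h : FrL B Q V X ZJ L W Z C A q) (hG : IsCharacteristicTwoType G) (hB : IsPGroup 2 B)
    (wc : ∀ R : Subgroup G, IsPGroup 2 R → B ≤ R → R ≤ normalizer (B : Set G))
    (hX : normalizer (B : Set G) ≤ normalizer (X : Set G)) (two : ∀ i : ι, ∃ j, j ≠ i) {z : G} (hz : z ∈ ZJ)
    (hf : ∀ i, z ∉ C i) (hVo : V ≤ o2 (centralizer ({z} : Set G))) (j : ι) {c : G} (hc : c ∈ Z j) :
    W j ≤ o2 (centralizer ({z * c} : Set G)) := by
  have hzc : z * c ∈ ZJ := mul_mem hz (h.Z_le j hc)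
  by_cases hj : z * c ∈ C j
  · have hf' : ∀ i, i ≠ j → z * c ∉ C i := by
      intro i hij h1
      apply hf i
      have h2 := mul_mem h1 (inv_mem (Z_C h hij hc))
      rwa [mul_inv_cancel_right] at h2
    refine le_o2_zero h hG hB wc hX hzc (fun h1 => ?_) hj hf'
    obtain ⟨i, hi⟩ := two j
    exact hf' i hi (by rw [h1]; exact one_mem _)
  · obtain ⟨w, hw, c', hc', hcJ, e⟩ := h.split_ZJ j hz
    have hw1 : w ≠ 1 := fun h1 => hf j (by rw [e, h1, one_mul]; exact hc')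
    have hcomm : c' * c = c * c' := h.Vc (h.CV j hc') (h.ZV j hc)
    have hwc1 : w * c ≠ 1 := fun h1 => hj (by
      have e2 : z * c = w * c * c' := by rw [e, mul_assoc, hcomm, mul_assoc]
      rw [e2, h1, one_mul]
      exact hc')
    obtain ⟨l, hl, e3⟩ := Z_conj h hw (mul_mem hw hc) hw1 hwc1
    have e4 : l * z * l⁻¹ = z * c := by
      have h1 := h.LC j l hl c' hcJ hc'
      calc l * z * l⁻¹ = (l * w * l⁻¹) * (l * c' * l⁻¹) := by rw [e]; group
        _ = (w * c) * c' := by rw [e3, h1]; group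
        _ = z * c := by rw [e, mul_assoc, ← hcomm, mul_assoc]
    intro x hx
    have h2 : l⁻¹ * x * l ∈ W j := by
      have := (h.blk j).nV l⁻¹ (inv_mem hl) x hx
      rwa [inv_inv] at this
    have h3 := o2_cj e4 (hVo (h.WV j h2))
    have e5 : l * (l⁻¹ * x * l) * l⁻¹ = x := by group
    rwa [e5] at h3

/-- (2') conjugated by `y` fixing `z`. -/
theorem le_o2_cj (h : FrL B Q V X ZJ L W Z C A q) (hG : IsCharacteristicTwoType G) (hB : IsPGroup 2 B)
    (wc : ∀ R : Subgroup G, IsPGroup 2 R → B ≤ R → R ≤ normalizer (B : Set G))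
    (hX : normalizer (B : Set G) ≤ normalizer (X : Set G)) (two : ∀ i : ι, ∃ j, j ≠ i) {z : G} (hz : z ∈ ZJ)
    (hf : ∀ i, z ∉ C i) (hVo : V ≤ o2 (centralizer ({z} : Set G))) {y : G} (hy : y * z = z * y) (j : ι) :
    ∀ c ∈ cj y (Z j), cj y (W j) ≤ o2 (centralizer ({z * c} : Set G)) := by
  rintro _ ⟨c, hc, rfl⟩ _ ⟨x, hx, rfl⟩
  change y * x * y⁻¹ ∈ o2 (centralizer ({z * (y * c * y⁻¹)} : Set G))
  refine o2_cj (r := z * c) ?_ (le_o2_q h hG hB wc hX two hz hf hVo j hc hx)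
  calc y * (z * c) * y⁻¹ = (y * z) * c * y⁻¹ := by group
    _ = z * (y * c * y⁻¹) := by rw [hy]; group

end Cfsg.Agent.Omega.NO3S.CaseLW.QWoFr

end
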