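import Cfsg.Agent.Mrg.Omega.OM.FrSym
import Cfsg.Agent.Mrg.Omega.OM.Lev.SMin
import Cfsg.Agent.Mrg.Omega.OM.Lev.Uni
import Cfsg.Agent.Mrg.Omega.NO3S.OneLine.LevOf
import Cfsg.Agent.Mrg.Omega.OM.ROneSymT
import Mathlib

section


/-!
# The frame `FrL` for the symmetric blocks (`q = 2`: `S₃ ≀`, `S_{2^m+1} ≀`)

`OM/FrSym.lean` over `SIn.In` (`J` in place of `J(T)`, `Z` in place of `Ω₁(Z(J(T)))`, `B = C_T(Z)`), `X ≥ V` elementary
abelian:

* `fb` : a minimal block `k : Blk H T V Z d r i L` is an FF-block `FB B L (N i) ⟨d i⟩ 2` if `Ω₁(Z(B)) ≤ Z`; `block`,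
  `mainBlk` : the blocks of LEMMA K; `zc_BB` : `Ω₁(Z(B)) ≤ Z` if `Z ≤ V`;
* `exists_A` : a best offender `A ≤ J` on `X` which acts on `V` only on `N i`;
* `frame` : `FrL B Q V X Z L N ⟨d i⟩ (C i) A 2` if `Z ≤ V`.
-/

set_option autoImplicit false

namespace Cfsg.Agent.Omega.OM.Lev.SFr

open Subgroup Cfsg Cfsg.Agent.PLocal.ThompsonJ Cfsg.Agent.ZN Cfsg.Agent.ZN.ChoiceBase
open Cfsg.Agent.PLocal.ElemAbSup
open Cfsg.Agent.Omega.SQ1.Bau (elem_comm elem_sq mem_sup_comm card_sup_comm)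
open Cfsg.Agent.Omega.SQ1.BauS (Sim PermR)
open Cfsg.Agent.Omega.OM.BlockUniq
open Cfsg.Agent.Omega.OM.Uni (Md FB)
open Cfsg.Agent.Omega.OM.Lev.Uni (FrL Best fullX)
open Cfsg.Agent.Omega.FFThm (ElemM)
open Cfsg.Agent.Omega.OM.FrSym (CC N_le_CC CC_le fix_of fix_iff mem_cent CC_eq card_two_mul exists_fix)
open Cfsg.Agent.Omega.OM.Lev.SIn
open scoped Pointwise commutatorElement

universe u w

variable {G : Type u} [Group G] {H T Q V J Z : Subgroup G} {ι : Type w} {N : ι → Subgroup G} {d t r : ι → G}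

theorem mem_zp (h : In H T Q V J Z N d t r) {i : ι} {x : G} (hx : x ∈ zpowers (d i)) : x = 1 ∨ x = d i :=
  Blk.mem_zp h hx

theorem d_sq (h : In H T Q V J Z N d t r) (i : ι) : d i * d i = 1 := h.mulself (h.dV i)

theorem card_zp (h : In H T Q V J Z N d t r) (i : ι) : Nat.card (zpowers (d i)) = 2 := by
  rw [Nat.card_zpowers]
  exact orderOf_eq_prime (by rw [pow_two]; exact d_sq h i) (h.d1 i)

/-- `t i` centralises `C i`. -/
theorem t_CC (h : In H T Q V J Z N d t r) {i : ι} {c : G} (hc : c ∈ CC N i) : t i * c = c * t i := by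
  have h1 : CC N i ≤ centralizer ({t i} : Set G) := CC_le fun j hj =>
    fix_of fun x hx => h.t_N' hj hx
  exact mem_cent.1 (h1 hc)

theorem CC_le_V (h : In H T Q V J Z N d t r) (i : ι) : CC N i ≤ V := CC_le fun j _ => h.NV j

theorem split_CC (h : In H T Q V J Z N d t r) (hN : V ≤ ⨆ i, N i) (i : ι) {v : G} (hv : v ∈ V) :
    ∃ n ∈ N i, ∃ c ∈ CC N i, v = n * c := by
  have h1 : V ≤ N i ⊔ CC N i := by
    refine hN.trans (iSup_le fun j => ?_)
    by_cases hj : j = i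
    · subst hj; exact le_sup_left
    · exact (N_le_CC hj).trans le_sup_right
  exact mem_sup_comm (fun a ha b hb => h.Vcomm a (h.NV i ha) b (CC_le_V h i hb)) (h1 hv)

/-- An element of `⨆ N j` fixed by all `t j` is a product of elements `d j`. -/
theorem mem_D (h : In H T Q V J Z N d t r) [Finite G] (s : Set ι) {v : G} (hv : v ∈ ⨆ j ∈ s, N j)
    (hfix : ∀ j, t j * v * (t j)⁻¹ = v) : v ∈ Subgroup.closure (d '' s) := by
  classical
  have := h.finite_index
  have := Fintype.ofFinite ι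
  -- remove the moved coordinates one by one
  have key : ∀ F : Finset ι, ∀ v, v ∈ ⨆ j ∈ F, N j → (∀ j, t j * v * (t j)⁻¹ = v) →
      v ∈ Subgroup.closure (d '' (F : Set ι)) := by
    intro F
    induction F using Finset.induction_on with
    | empty =>
      intro v hv _
      have : v = 1 := by simpa using hv
      rw [this]; exact one_mem _
    | insert i F hi ih =>
      intro v hv hf
      rw [Finset.iSup_insert] at hv
      have hFV : (⨆ j ∈ F, N j) ≤ V := iSup₂_le fun j _ => h.NV j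
      obtain ⟨n, hn, c, hc, rfl⟩ := mem_sup_comm (fun a ha b hb => h.Vcomm a (h.NV i ha) b (hFV hb)) hv
      have hcC : c ∈ CC N i := by
        have : (⨆ j ∈ F, N j) ≤ CC N i := iSup₂_le fun j hj => N_le_CC fun e => hi (e ▸ hj)
        exact this hc
      have h1 : t i * n * (t i)⁻¹ = n := by
        have h2 := hf i
        have e : t i * (n * c) * (t i)⁻¹ = (t i * n * (t i)⁻¹) * (t i * c * (t i)⁻¹) := by group
        rw [e, fix_iff.2 (t_CC h hcC)] at h2
        exact mul_right_cancel h2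
      have hnd := h.t_ne i hn h1
      have hnfix : ∀ j, t j * n * (t j)⁻¹ = n := by
        intro j
        rcases hnd with h2 | h2
        · rw [h2]; group
        · rw [h2]; exact h.t_d' i j
      have hcfix : ∀ j, t j * c * (t j)⁻¹ = c := by
        intro j
        have h2 := hf j
        have e : t j * (n * c) * (t j)⁻¹ = (t j * n * (t j)⁻¹) * (t j * c * (t j)⁻¹) := by group
        rw [e, hnfix j] at h2
        exact mul_left_cancel h2
      have h3 := ih c hc hcfix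
      refine mul_mem ?_ ?_
      · rcases hnd with h2 | h2
        · rw [h2]; exact one_mem _
        · rw [h2]; exact subset_closure ⟨i, by simp, rfl⟩
      · refine closure_mono (Set.image_mono ?_) h3
        intro x hx; simp only [Finset.coe_insert]; exact Or.inr hx
  have h1 := key (Set.toFinset s) v (by simpa using hv) hfix
  simpa using h1

/-- `r i` fixes the elements of `C i` fixed by all `t j`. -/
theorem r_CC (h : In H T Q V J Z N d t r) [Finite G] {i : ι} {c : G} (hc : c ∈ CC N i)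
    (hfix : ∀ j, t j * c * (t j)⁻¹ = c) : r i * c = c * r i := by
  rw [CC_eq] at hc
  have h1 := mem_D h _ hc hfix
  have h2 : Subgroup.closure (d '' ({i}ᶜ : Set ι)) ≤ centralizer ({r i} : Set G) := by
    rw [closure_le]
    rintro _ ⟨j, hj, rfl⟩
    exact mem_cent.2 (fix_iff.1 (h.r_d' (fun e => hj (e ▸ rfl))))
  exact mem_cent.1 (h2 h1)

theorem dir (h : In H T Q V J Z N d t r) [Finite G] (i : ι) : N i ⊓ CC N i = ⊥ := by
  rw [eq_bot_iff]
  rintro x ⟨hx, hc⟩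
  rw [mem_bot]
  rcases h.t_ne i hx (fix_iff.2 (t_CC h hc)) with h1 | h1
  · exact h1
  · exfalso
    have h2 : ∀ j, t j * x * (t j)⁻¹ = x := fun j => by rw [h1]; exact h.t_d' i j
    have h3 := r_CC h hc h2
    rw [h1] at h3
    exact h.r_d_ne i (fix_iff.2 h3)

theorem C0 (h : In H T Q V J Z N d t r) [Finite G] (hN : V ≤ ⨆ i, N i) {x : G} (hx : x ∈ V)
    (hc : ∀ i, x ∈ CC N i) : x = 1 := by
  classical
  have hfix : ∀ j, t j * x * (t j)⁻¹ = x := fun j => fix_iff.2 (t_CC h (hc j))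
  have hr : ∀ i, r i * x = x * r i := fun i => r_CC h (hc i) hfix
  have := h.finite_index
  have := Fintype.ofFinite ι
  -- `x` is a product of `d j`, fixed by all `r i`
  have key : ∀ F : Finset ι, ∀ v, v ∈ ⨆ j ∈ F, N j → (∀ j, t j * v * (t j)⁻¹ = v) →
      (∀ i, r i * v = v * r i) → v = 1 := by
    intro F
    induction F using Finset.induction_on with
    | empty =>
      intro v hv _ _
      simpa using hv
    | insert i F hi ih =>
      intro v hv hf hrv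
      rw [Finset.iSup_insert] at hv
      have hFV : (⨆ j ∈ F, N j) ≤ V := iSup₂_le fun j _ => h.NV j
      obtain ⟨n, hn, c, hc, rfl⟩ := mem_sup_comm (fun a ha b hb => h.Vcomm a (h.NV i ha) b (hFV hb)) hv
      have hcC : c ∈ CC N i := by
        have : (⨆ j ∈ F, N j) ≤ CC N i := iSup₂_le fun j hj => N_le_CC fun e => hi (e ▸ hj)
        exact this hc
      have h1 : t i * n * (t i)⁻¹ = n := by
        have h2 := hf i
        have e : t i * (n * c) * (t i)⁻¹ = (t i * n * (t i)⁻¹) * (t i * c * (t i)⁻¹) := by group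
        rw [e, fix_iff.2 (t_CC h hcC)] at h2
        exact mul_right_cancel h2
      have hnd := h.t_ne i hn h1
      have hnfix : ∀ j, t j * n * (t j)⁻¹ = n := by
        intro j
        rcases hnd with h2 | h2
        · rw [h2]; group
        · rw [h2]; exact h.t_d' i j
      have hcfix : ∀ j, t j * c * (t j)⁻¹ = c := by
        intro j
        have h2 := hf j
        have e : t j * (n * c) * (t j)⁻¹ = (t j * n * (t j)⁻¹) * (t j * c * (t j)⁻¹) := by group
        rw [e, hnfix j] at h2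
        exact mul_left_cancel h2
      have hrc := r_CC h hcC hcfix
      have hn1 : n = 1 := by
        rcases hnd with h2 | h2
        · exact h2
        · exfalso
          have h3 := hrv i
          have h4 : r i * n = n * r i := by
            have h5 : r i * n * c = n * r i * c := by
              rw [mul_assoc, h3, mul_assoc, ← hrc]; group
            exact mul_right_cancel h5
          rw [h2] at h4
          exact h.r_d_ne i (fix_iff.2 h4)
      subst hn1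
      rw [one_mul] at hf hrv ⊢
      exact ih c hc hf hrv
  exact key Finset.univ x (by simpa using hN hx) hfix hr

/-! ### The group `A i` -/

/-- `a ∈ J` centralises `N j` or acts on it as `t j`. -/
theorem J_N (h : In H T Q V J Z N d t r) {a : G} (ha : a ∈ J) (j : ι) :
    (∀ v ∈ N j, a * v = v * a) ∨ ∀ v ∈ N j, a * v * a⁻¹ = t j * v * (t j)⁻¹ := by
  rcases (h.EE_good (h.Jt ha)).actN j with h1 | h1
  · exact Or.inl fun v hv => fix_iff.1 (h1 v hv)
  · exact Or.inr h1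

/-! ### The blocks -/

variable {i : ι} {L : Subgroup G}

theorem B_fix (h : In H T Q V J Z N d t r) [Finite G] {b : G} (hb : b ∈ BB T Z) (i : ι) : b * d i = d i * b :=
  fix_iff.1 ((h.EE_good (h.bau_EE hb)).fixd i)

theorem mem_QQ {b : G} (hb : b ∈ BB T Z) : b ∈ QQ T Z N i ↔ ∀ v ∈ N i, b * v = v * b := by
  rw [QQ, mem_inf, mem_centralizer_iff]
  exact ⟨fun h1 v hv => (h1.2 v hv).symm, fun h1 => ⟨hb, fun v hv => (h1 v hv).symm⟩⟩

theorem B_comm (h : In H T Q V J Z N d t r) [Finite G] {b v : G} (hb : b ∈ BB T Z) (hv : v ∈ N i) :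
    b * v * b⁻¹ * v⁻¹ ∈ zpowers (d i) := by
  rcases (h.EE_good (h.bau_EE hb)).actN i with h1 | h1
  · rw [h1 v hv, mul_inv_cancel]; exact one_mem _
  · rw [h1 v hv]
    rcases h.t_comm i v (h.NV i hv) with h2 | h2
    · rw [h2, mul_inv_cancel]; exact one_mem _
    · rw [h2, mul_inv_cancel_right]; exact mem_zpowers _

theorem NB (h : In H T Q V J Z N d t r) [Finite G] (i : ι) : N i ≤ BB T Z := le_sup_right.trans (Blk.VV_le_B h)

theorem md (h : In H T Q V J Z N d t r) [Finite G] (i : ι) : Md (BB T Z) (N i) (zpowers (d i)) 2 where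
  VB := NB h i
  el := isElementaryAbelian_mono h.Velem (h.NV i)
  ZV := (zpowers_le).2 (h.dN i)
  cZ := fun b hb z hz => by
    rcases mem_zp h hz with h1 | h1
    · rw [h1, mul_one, one_mul]
    · rw [h1]; exact B_fix h hb i
  com := fun b hb v hv => B_comm h hb hv
  free := fun b hb v hv hvZ hc => by
    by_contra hcon
    have h1 : b ∉ QQ T Z N i := fun h2 => hcon ((mem_QQ hb).1 h2)
    rcases h.B_ne hb h1 hv (fix_iff.2 hc) with h2 | h2
    · exact hvZ (by rw [h2]; exact one_mem _)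
    · exact hvZ (by rw [h2]; exact mem_zpowers _)
  ne := by
    refine ⟨t i, h.t_bau i, ?_⟩
    by_contra hcon
    push Not at hcon
    exact h.t_not_QQ i ((mem_QQ (h.t_bau i)).2 hcon)
  card := by rw [h.cardN, card_zp h]
  cardB := by
    have h1 := Blk.relIndex_QQ (i := i) h
    rw [Subgroup.relIndex] at h1
    have h3 := ((QQ T Z N i).subgroupOf (BB T Z)).card_mul_index
    rw [Nat.card_congr (Subgroup.subgroupOfEquivOfLe (show QQ T Z N i ≤ BB T Z from inf_le_left)).toEquiv, h1] at h3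
    rw [← h3, mul_comm]
    exact le_rfl
  one := one_lt_two


/-- The kernel of a best offender on a block module is a best offender. -/
theorem best_cut [Finite G] {B V' Z X E : Subgroup G} {q : ℕ} (h : Md B V' Z q)
    (hX : ∀ x ∈ X, ∀ y ∈ X, x * y = y * x) (hVX : V' ≤ X) (hE : E ≤ B) (hb : Best X E) :
    Best X (E ⊓ centralizer (V' : Set G)) := by
  rcases fullX h hX hVX hE hb with h0 | ⟨-, h2, h3, h4⟩
  · have e : E ⊓ centralizer (V' : Set G) = E := inf_eq_left.2 fun a ha =>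
      mem_centralizer_iff.2 fun v hv => (h0 a ha v hv).symm
    rw [e]; exact hb
  · intro F hF1 hF2
    refine (hb F ?_ (hF2.trans inf_le_left)).trans ?_
    · refine le_trans (le_inf (le_inf inf_le_left (inf_le_right.trans (centralizer_le hVX))) inf_le_right) hF1
    · rw [h4]
      have h5 := card_sup_comm (A := V') (B := X ⊓ centralizer (E : Set G)) fun a ha b hb' => hX a (hVX ha) b hb'.1
      have h6 : V' ⊓ (X ⊓ centralizer (E : Set G)) = Z := by rw [← inf_assoc, inf_eq_left.2 hVX, h2]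
      rw [h6, h.card] at h5
      have hp : 0 < Nat.card Z := Nat.card_pos
      have h7 : Nat.card ↥(V' ⊔ (X ⊓ centralizer (E : Set G))) = q * Nat.card ↥(X ⊓ centralizer (E : Set G)) := by
        refine Nat.eq_of_mul_eq_mul_right hp ?_
        rw [h5]; ring
      rw [h7, ← h3]
      exact le_of_eq (by ring)

/-- **There is a best offender `A ≤ J` on `X` acting only on `N i`.** -/
theorem exists_A (h : In H T Q V J Z N d t r) [Finite G] {X : Subgroup G} (hX : ∀ x ∈ X, ∀ y ∈ X, x * y = y * x)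
    (hVX : V ≤ X) (i : ι)
    (hne : ∃ A ≤ J, ElemM X A ∧ Best X A ∧ ¬ ∀ a ∈ A, ∀ v ∈ N i, a * v = v * a) :
    ∃ A ≤ J, ElemM X A ∧ Best X A ∧ (¬ ∀ a ∈ A, ∀ v ∈ N i, a * v = v * a) ∧ ∀ a ∈ A, ∀ c ∈ CC N i, a * c = c * a := by
  classical
  obtain ⟨A, hA, hmin⟩ := Set.exists_min_image {A : Subgroup G | A ≤ J ∧ ElemM X A ∧ Best X A ∧
    ¬ ∀ a ∈ A, ∀ v ∈ N i, a * v = v * a} (fun A => Nat.card A) (Set.toFinite _) hne
  obtain ⟨hAJ, hAel, hAb, hAi⟩ := hA
  refine ⟨A, hAJ, hAel, hAb, hAi, ?_⟩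
  suffices hj : ∀ j, j ≠ i → ∀ a ∈ A, ∀ v ∈ N j, a * v = v * a by
    intro a ha c hc
    have h1 : CC N i ≤ centralizer ({a} : Set G) := CC_le fun j hji v hv => mem_cent.2 (hj j hji a ha v hv)
    exact mem_cent.1 (h1 hc)
  intro j hji
  by_contra hAj
  have hAB : A ≤ BB T Z := hAJ.trans (h.le_BB)
  have hNX : N j ≤ X := (h.NV j).trans hVX
  rcases fullX (md h j) hX hNX hAB hAb with h0 | ⟨-, -, h3, h4⟩
  · exact hAj h0
  set A₁ := A ⊓ centralizer (N j : Set G) with hA₁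
  have hA₁b : Best X A₁ := best_cut (md h j) hX hNX hAB hAb
  have hA₁A : A₁ ≤ A := inf_le_left
  have hA₁el : ElemM X A₁ := ⟨fun a ha => hAel.sq a (hA₁A ha), fun a ha b hb => hAel.comm a (hA₁A ha) b (hA₁A hb)⟩
  -- `A₁` centralises `N i`
  have hc : ∀ a ∈ A₁, ∀ v ∈ N i, a * v = v * a := by
    by_contra hcon
    have h5 := hmin A₁ ⟨hA₁A.trans hAJ, hA₁el, hA₁b, hcon⟩
    have h6 : 0 < Nat.card A₁ := Nat.card_pos
    omega
  push Not at hAi
  obtain ⟨a, ha, v, hv, hav⟩ := hAi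
  have hai : ∀ v ∈ N i, a * v * a⁻¹ = t i * v * (t i)⁻¹ :=
    (J_N h (hAJ ha) i).resolve_left fun h1 => hav (h1 v hv)
  -- `m ∈ N j C_X(A)`
  have hmN : r i * d i * (r i)⁻¹ ∈ N i := h.r_N i (h.dN i)
  have hm := h.t_m i
  set m := r i * d i * (r i)⁻¹ with hmd
  have h5 : m ∈ N j ⊔ (X ⊓ centralizer (A : Set G)) := by
    rw [← h4]
    exact ⟨hVX (h.NV i hmN), mem_centralizer_iff.2 fun b hb => hc b hb m hmN⟩
  obtain ⟨n, hn, c, hcX, e⟩ := mem_sup_comm (A := N j) (B := X ⊓ centralizer (A : Set G))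
    (fun x hx y hy => hX x (hNX hx) y hy.1) h5
  have hac : a * c * a⁻¹ = c := fix_iff.2 (mem_centralizer_iff.1 hcX.2 a ha)
  have h6 : d i = (a * n * a⁻¹) * n⁻¹ := by
    have e1 : a * m * a⁻¹ = d i * m := by rw [hai m hmN, hm]
    calc d i = (d i * m) * m⁻¹ := by group
      _ = (a * (n * c) * a⁻¹) * (n * c)⁻¹ := by rw [← e1, e]
      _ = (a * n * a⁻¹) * (a * c * a⁻¹) * c⁻¹ * n⁻¹ := by group
      _ = _ := by rw [hac]; group
  have h7 : d i ∈ N i ⊓ CC N i := by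
    refine mem_inf.2 ⟨h.dN i, N_le_CC hji ?_⟩
    rw [h6]
    exact mul_mem (h.B_N (hAB ha) hn) (inv_mem hn)
  rw [dir h i, mem_bot] at h7
  exact h.d1 i h7

/-- `Ω₁(Z(B)) ≤ Z` -/
theorem zc_BB (h : In H T Q V J Z N d t r) (hZV : Z ≤ V)
    (hzQ : ∀ x ∈ Q, x ^ 2 = 1 → (∀ y ∈ Q, x * y = y * x) → x ∈ V) : zc (BB T Z) ≤ Z := by
  intro z hz
  obtain ⟨h1, h2, h3⟩ := ChoiceBase.mem_zc.1 hz
  have h4 : z ∈ Q := h.cT (BB_le T Z h1) fun v hv => (h3 v (h.VB hv)).symm
  exact h.V1Z z (hzQ z h4 h2 fun y hy => (h3 y (h.Q_le_B hZV hy)).symm) fun y hy => h3 y (h.le_BB hy)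

/-- A 2-subgroup of `L` containing `B` is `B`. -/
theorem blk_syl (k : Blk H T V Z d r i L) (h : In H T Q V J Z N d t r) [Finite G] {P : Subgroup G}
    (hBP : BB T Z ≤ P) (hPL : P ≤ L) (hP : IsPGroup 2 P) : P = BB T Z := by
  refine le_antisymm ?_ hBP
  have hN1 : N i ≠ ⊥ := fun h0 => h.d1 i (by
    have := h.dN i
    rwa [h0, mem_bot] at this)
  obtain ⟨v, hv, hv1, hvf⟩ := exists_fix hP (isElementaryAbelian_mono h.Velem (h.NV i)) hN1
    fun x hx v hv => k.L_N h (hPL hx) hv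
  have hvd : v = d i := (h.t_ne i hv (hvf _ (hBP (h.t_bau i)))).resolve_left hv1
  intro x hx
  obtain ⟨b, hb, hs⟩ := h.PP_fix (k.LP (hPL hx)) (by rw [← hvd]; exact hvf x hx)
  have hcP : b⁻¹ * x ∈ P := mul_mem (inv_mem (hBP hb)) hx
  have hcH : b⁻¹ * x ∈ H := mul_mem (inv_mem (h.bau_H hb)) (k.LH h (hPL hx))
  have hcV : ∀ v ∈ V, b⁻¹ * x * v = v * (b⁻¹ * x) := by
    refine In.sim_one_iff.1 ?_
    have := hs.mul_left b⁻¹
    rwa [inv_mul_cancel] at this
  obtain ⟨n, hn⟩ := hP ⟨_, hcP⟩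
  have h1 : b⁻¹ * x ∈ Q := h.two _ hcH hcV ⟨n, by simpa using congrArg Subtype.val hn⟩
  have h2 := mul_mem hb (k.inf_Q h (mul_mem (inv_mem (k.BL hb)) (hPL hx)) h1)
  rwa [mul_inv_cancel_left] at h2

theorem blk_gen (k : Blk H T V Z d r i L) (h : In H T Q V J Z N d t r) [Finite G] :
    L ≤ ⨆ x : L, cj (x : G) (BB T Z) := by
  obtain ⟨l, hl, hm⟩ := k.mv
  refine k.gen h hl hm ?_ ?_
  · have h1 : cj ((1 : L) : G) (BB T Z) ≤ ⨆ x : L, cj (x : G) (BB T Z) :=
      le_iSup (fun x : L => cj (x : G) (BB T Z)) 1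
    intro b hb
    exact h1 ⟨b, hb, by simp⟩
  · intro b hb
    exact (le_iSup (fun x : L => cj (x : G) (BB T Z)) ⟨l, hl⟩) ⟨b, hb, rfl⟩

/-- `[Z, L] ≤ N i`. -/
theorem zj_act (k : Blk H T V Z d r i L) (h : In H T Q V J Z N d t r) [Finite G] {l z : G} (hl : l ∈ L)
    (hz : z ∈ Z) : l * z * l⁻¹ * z⁻¹ ∈ N i := by
  obtain ⟨l₀, hl₀, hm⟩ := k.mv
  rcases k.Z_split h hl₀ hm hz with h1 | h1
  · have h2 := k.cent_of h hl₀ hm hz h1 l hl
    rw [h2, mul_inv_cancel_right, mul_inv_cancel]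
    exact one_mem _
  · have h2 := k.cent_of h hl₀ hm (mul_mem (h.d_mem_Z i) hz) h1 l hl
    have e : l * z * l⁻¹ * z⁻¹ = (l * d i * l⁻¹)⁻¹ * (l * (d i * z) * l⁻¹) * (d i * z)⁻¹ * d i := by group
    rw [e, h2]
    have e2 : (l * d i * l⁻¹)⁻¹ * (d i * z * l * l⁻¹) * (d i * z)⁻¹ * d i = (l * d i * l⁻¹)⁻¹ * d i := by group
    rw [e2]
    exact mul_mem (inv_mem (k.L_N h hl (h.dN i))) (h.dN i)

theorem comm_zp {g : G} (i : ι) (hg : g * d i * g⁻¹ = d i) : cj g (zpowers (d i)) = zpowers (d i) := by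
  rw [cj, MonoidHom.map_zpowers]
  change zpowers (g * d i * g⁻¹) = _
  rw [hg]

/-- `d i ∈ [N i, B]`. -/
theorem d_mem_comm (h : In H T Q V J Z N d t r) (i : ι) : d i ∈ ⁅N i, BB T Z⁆ := by
  have h1 := commutator_mem_commutator (h.r_N i (h.dN i)) (h.t_bau i)
  have e : (⁅r i * d i * (r i)⁻¹, t i⁆)⁻¹ = d i := by
    rw [commutatorElement_def]
    calc (r i * d i * (r i)⁻¹ * t i * (r i * d i * (r i)⁻¹)⁻¹ * (t i)⁻¹)⁻¹
        = (t i * (r i * d i * (r i)⁻¹) * (t i)⁻¹) * (r i * d i * (r i)⁻¹)⁻¹ := by group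
      _ = d i := by rw [h.t_m i]; group
  rw [← e]
  exact inv_mem h1

/-- `N i = ⟨d, d'⟩` for `d' ∈ N i` different from `1`, `d`. -/
theorem N_le_of (h : In H T Q V J Z N d t r) [Finite G] (i : ι) {X : Subgroup G} (hd : d i ∈ X) {x : G} (hx : x ∈ X)
    (hxN : x ∈ N i) (hx1 : x ≠ 1) (hxd : x ≠ d i) : N i ≤ X := by
  set m := r i * d i * (r i)⁻¹ with hm
  have hmX : m ∈ X := by
    rcases h.mem_N i hxN with h1 | h1 | h1 | h1
    · exact absurd h1 hx1
    · exact absurd h1 hxd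
    · rwa [h1] at hx
    · rw [h1, ← hm] at hx
      have h2 := mul_mem (inv_mem hd) hx
      rwa [inv_mul_cancel_left] at h2
  intro v hv
  rcases h.mem_N i hv with h1 | h1 | h1 | h1
  · rw [h1]; exact one_mem _
  · rw [h1]; exact hd
  · rw [h1]; exact hmX
  · rw [h1]; exact mul_mem hd hmX

theorem cj_d_ne_one (h : In H T Q V J Z N d t r) (l : G) (i : ι) : l * d i * l⁻¹ ≠ 1 := fun e => h.d1 i (by
  calc d i = l⁻¹ * (l * d i * l⁻¹) * l := by group
    _ = 1 := by rw [e]; group)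

/-- **The FF-block.** -/
theorem fb (k : Blk H T V Z d r i L) (h : In H T Q V J Z N d t r) [Finite G] (hzB : zc (BB T Z) ≤ Z) :
    FB (BB T Z) L (N i) (zpowers (d i)) 2 where
  toMd := md h i
  BL := k.BL
  nV := fun l hl v hv => k.L_N h hl hv
  gen := blk_gen k h
  syl := fun P h1 h2 h3 => blk_syl k h h1 h2 h3
  cor := fun l hl x hx hc => (k.L_QQ h hl ((mem_QQ hx).2 hc)).1
  act := fun l hl z hz => zj_act k h hl (hzB hz)
  sup := by
    obtain ⟨l, hl, hm⟩ := k.mv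
    refine ⟨l, hl, N_le_of h i (mem_sup_left (d_mem_comm h i)) (x := l * d i * l⁻¹)
      (mem_sup_right ⟨d i, d_mem_comm h i, rfl⟩) (k.L_N h hl (h.dN i)) (cj_d_ne_one h l i) hm⟩
  tri := fun l hl => by
    by_cases hm : l * d i * l⁻¹ = d i
    · left; exact comm_zp i hm
    · right
      intro x hx0
      obtain ⟨hx1, hx2⟩ := mem_inf.1 hx0
      rw [mem_cj] at hx1
      have h1 : x = 1 := by
        rcases mem_zp h hx2 with h2 | h2
        · exact h2
        · exfalso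
          rw [h2] at hx1
          rcases mem_zp h hx1 with h3 | h3
          · apply h.d1 i
            calc d i = l * (l⁻¹ * d i * l) * l⁻¹ := by group
              _ = 1 := by rw [h3]; group
          · apply hm
            calc l * d i * l⁻¹ = l * (l⁻¹ * d i * l) * l⁻¹ := by rw [h3]
              _ = d i := by group
      rw [h1]; exact one_mem _
  tor := fun z hz hzc z' hz' hzc' => by
    have h1 : z = d i := (mem_zp h hz).resolve_left fun e => hzc (by rw [e]; exact one_mem _)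
    have h2 : z' = d i := (mem_zp h hz').resolve_left fun e => hzc' (by rw [e]; exact one_mem _)
    refine ⟨1, one_mem _, one_mem _, ?_⟩
    rw [h1, h2]
    have e : (1 : G) * d i * 1⁻¹ * (d i)⁻¹ = 1 := by group
    rw [e]; exact one_mem _

/-! ### The frame -/

theorem fix_t (h : In H T Q V J Z N d t r) {v : G} (hv : v ∈ Z) (j : ι) : t j * v * (t j)⁻¹ = v :=
  fix_iff.2 (h.JZ v hv _ (h.tJ j))

/-- `L i` centralises `C i ∩ Z`. -/
theorem LC (k : Blk H T V Z d r i L) (h : In H T Q V J Z N d t r) [Finite G] {l z : G} (hl : l ∈ L) (hz : z ∈ Z)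
    (hc : z ∈ CC N i) : l * z = z * l := by
  have h1 : PP H T V Z (r i) ≤ centralizer ({z} : Set G) := by
    have key : ∀ y : G, z * y = y * z → y ∈ centralizer ({z} : Set G) := fun y hy => mem_cent.2 hy
    refine sup_le (sup_le (fun b hb => key b ((mem_BB.1 hb).2 z hz)) ?_) ?_
    · rw [zpowers_le]
      exact key _ (r_CC h hc (fix_t h hz)).symm
    · rintro c ⟨-, hc'⟩
      exact key c (mem_centralizer_iff.1 hc' z (CC_le_V h i hc))
  exact (mem_cent.1 (h1 (k.LP hl))).symm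

theorem mem_Z_iff (h : In H T Q V J Z N d t r) [Finite G] (hZV : Z ≤ V) (v : G) :
    v ∈ Z ↔ v ∈ V ∧ ∀ b ∈ BB T Z, b * v = v * b := by
  constructor
  · intro hv
    exact ⟨hZV hv, fun b hb => ((mem_BB.1 hb).2 v hv).symm⟩
  · rintro ⟨hv, hc⟩
    exact h.V1Z v hv fun j hj => hc j (h.le_BB hj)

/-- **The frame of the symmetric blocks at a level.** -/
theorem frame [Finite G] (h : In H T Q V J Z N d t r) (hZV : Z ≤ V) {X : Subgroup G} (elX : IsElementaryAbelian 2 X) (hVX : V ≤ X)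
    (hHX : ∀ g ∈ H, ∀ x ∈ X, g * x * g⁻¹ ∈ X)
    (hzQ : ∀ x ∈ Q, x ^ 2 = 1 → (∀ y ∈ Q, x * y = y * x) → x ∈ V) (hN : V ≤ ⨆ i, N i)
    (hA : ∀ i, ∃ A ≤ J, ElemM X A ∧ Best X A ∧ ¬ ∀ a ∈ A, ∀ v ∈ N i, a * v = v * a) {L : ι → Subgroup G}
    (hL : ∀ i, Blk H T V Z d r i (L i)) :
    ∃ A : ι → Subgroup G, (∀ i, A i ≤ J) ∧
      FrL (BB T Z) Q V X Z L N (fun i => zpowers (d i)) (fun i => CC N i) A 2 := by
  choose A hAJ hAel hAb hA1 hA2 using fun i => exists_A h (elem_comm elX) hVX i (hA i)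
  refine ⟨A, hAJ, ?_⟩
  exact
    { blk := fun i => fb (hL i) h (zc_BB h hZV hzQ)
      cardZ := fun i => card_zp h i
      QB := h.Q_le_B hZV
      VQ := h.VQ
      elX := elX
      VX := hVX
      mem_Q := fun x hx => ⟨fun hxQ v hv => h.VcQ x hxQ v hv, fun hc => h.cT (BB_le T Z hx) hc⟩
      zcQ := hzQ
      mem_ZJ := mem_Z_iff h hZV
      LV := fun i l hl v hv => h.Vn l ((hL i).LH h hl) v hv
      LQ := fun i l hl x hx => h.Qn l ((hL i).LH h hl) x hx
      LX := fun i l hl x hx => hHX l ((hL i).LH h hl) x hx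
      WV := fun i => h.NV i
      CV := fun i => CC_le_V h i
      WC := fun i v hv => split_CC h hN i hv
      dir := fun i => dir h i
      C0 := fun x hx hc => C0 h hN hx hc
      WjC := fun i j hij => N_le_CC (Ne.symm hij)
      BC := fun i b hb c hc => by
        have h1 : CC N i ≤ (CC N i).comap (MulAut.conj b).toMonoidHom := by
          refine CC_le fun j hj => ?_
          intro x hx
          rw [mem_comap]
          exact N_le_CC hj (h.B_N hb hx)
        exact h1 hc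
      LC := fun i l hl z hz hc => LC (hL i) h hl hz hc
      AB := fun i => (hAJ i).trans (h.le_BB)
      AX := hAel
      best := hAb
      Ane := fun i => hA1 i
      AC := fun i a ha c hc => hA2 i a ha c hc }

/-! ### The blocks of LEMMA K -/

theorem irr (k : Blk H T V Z d r i L) (h : In H T Q V J Z N d t r) [Finite G] {U : Subgroup G} (hU : U ≤ N i)
    (hn : L ≤ normalizer (U : Set G)) (hne : U ≠ ⊥) : N i ≤ U := by
  obtain ⟨l, hl, hm⟩ := k.mv
  obtain ⟨u, hu, hu1⟩ := (Subgroup.bot_or_exists_ne_one U).resolve_left hne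
  have hd : d i ∈ U := by
    by_cases hud : u = d i
    · rwa [← hud]
    · have h1 : t i * u * (t i)⁻¹ * u⁻¹ ∈ U :=
        mul_mem ((mem_normalizer_iff.1 (hn (k.BL (h.t_bau i))) u).1 hu) (inv_mem hu)
      rcases h.t_comm i u (h.NV i (hU hu)) with h2 | h2
      · exfalso
        rcases h.t_ne i (hU hu) h2 with h3 | h3
        · exact hu1 h3
        · exact hud h3
      · rwa [h2, mul_inv_cancel_right] at h1
  exact N_le_of h i hd (x := l * d i * l⁻¹) ((mem_normalizer_iff.1 (hn hl) _).1 hd) (k.L_N h hl (h.dN i))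
    (cj_d_ne_one h l i) hm

/-- **The block of LEMMA K.** -/
theorem block (k : Blk H T V Z d r i L) (h : In H T Q V J Z N d t r) [Finite G] (hzB : zc (BB T Z) ≤ Z) (hW : LemmaK.WeakNormal 2 (BB T Z)) :
    LemmaK.Block 2 (BB T Z) L (N i) :=
  (fb k h hzB).toBlock (card_zp h i) (h.Tp.to_le (BB_le T Z)) hW

/-- **The block of `LemmaK.Main`.** -/
theorem mainBlk (k : Blk H T V Z d r i L) (h : In H T Q V J Z N d t r) [Finite G] (hzB : zc (BB T Z) ≤ Z) : LemmaK.Main.Blk (BB T Z) L (N i) := by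
  have hb := fb k h hzB
  refine LemmaK.Main.Blk.of_irr hb.BL hb.gen (hb.VB.trans hb.BL) ?_ ?_ (OM.Uni.isPGroup_of_el hb.el) (elem_comm hb.el)
    hb.perf ?_
  · intro w h1 h2
    have e : N i = vl (BB T Z) L := hb.V_eq
    rw [e]
    exact LemmaK.Endo.norm_vl h1 h2
  · exact hb.core (h.Tp.to_le (BB_le T Z)) (ZN.isPGroup_o2 L) (ZN.o2_le L) (ZN.le_normalizer_o2 L)
  · intro U hU _ hn hne
    by_cases hU1 : U = ⊥
    · exact absurd (by rw [hU1]; exact bot_le) hne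
    · exact irr k h hU hn hU1

end Cfsg.Agent.Omega.OM.Lev.SFr

end

section


/-!
# The symmetric instance of the frame `FrL` (`V_P` a sum of even-subset modules of `S_{2^m+1}`), every level

`Exa S P X L AA` (`NO3S/OneLine/LevK.lean`), `V_P` a sum of `k` even-subset modules (`SymKM`), `J ≤ S` an `S`-invariant
group with `AA ⊆ J ≤ C_S(X) ⟨AA⟩` (`J = nxt S K` for `X = Ω₁(Z(K))`, `AA = BO S K`):

* `syL_of` : the module data `SyL`;
* `SymOut` : `V = ⨆ N i = Ω₁(Z(O₂(P)))`, `Z_J = C_V(J) = ⟨d i⟩`, `B = C_S(Z_J)`, `SIn.In`, `PermR`;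
* `exists_sym` : the frame `FrL B (O₂(P)) V X Z_J L N ⟨d i⟩ (C i) A 2`, with an `S`-equivariant choice of the blocks.
-/

set_option autoImplicit false
set_option linter.unusedVariables false
set_option linter.unusedSectionVars false

namespace Cfsg.Agent.Omega.OM.Lev.Sym

open Subgroup Cfsg Cfsg.Agent.PLocal.ThompsonJ Cfsg.Agent.ZN Cfsg.Agent.ZN.ChoiceBase
open Cfsg.Agent.ZN.ChoiceSit
open Cfsg.Agent.Omega.SQ1 Cfsg.Agent.Omega.SQ1.FFOne Cfsg.Agent.Omega.SQ1.FFSym Cfsg.Agent.Omega.SQ1.VOf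
open Cfsg.Agent.Omega.FFThm (ActsSym SymK SymKM OffM ElemM)
open Cfsg.Agent.Omega.SQ1.BauS (Sim PermR)
open Cfsg.Agent.Omega.FrameFF (cv)
open Cfsg.Agent.Omega.MinPar (IsParS)
open Cfsg.Agent.Omega.OM.Lev.SymIn Cfsg.Agent.Omega.OM.Lev.SymIn.SyL
open Cfsg.Agent.Omega.OM.Lev.SIn (In In0 ZJ BB Blk mem_ZJ mem_BB)
open Cfsg.Agent.Omega.OM.Lev.Uni (FrL Best)
open Cfsg.Agent.Omega.NO3S.OneLine (Exa BFam)
open Cfsg.Agent.Omega.OM.FrSym (CC)
open scoped Pointwise

universe v w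

variable {G : Type v} [Group G]

section syt

variable {T H Q V Jg : Subgroup G} {AA : Set (Subgroup G)} {k n : ℕ} {o : Fin n} {e : G → Fin k → Fin n → ZMod 2}
  {ι : Type} {J : ι → Fin k} {X Y : ι → Fin n} {t r : ι → G}

/-- `C_V(J) = ⟨d i⟩` -/
theorem fix_le (h : SyL T H Q V Jg ⊥ AA o e) [Finite G] (c : Ch Jg H V ⊥ o e J X Y t r) {v : G}
    (hv : v ∈ V) (hJ : ∀ j ∈ Jg, j * v = v * j) :
    v ∈ closure (Set.range fun i => u H V ⊥ e (J i) (X i) (Y i)) := by
  classical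
  have hb := In.of_ZJ (c.main h Cfsg.Agent.Omega.SQ1.SymCyc.exists_pow) h.Jn
  have := hb.finite_index
  have := Fintype.ofFinite ι
  set Z := closure (Set.range fun i => u H V ⊥ e (J i) (X i) (Y i)) with hZ
  have hZV : Z ≤ V := hb.D_le_Z.trans (SIn.ZJ_le V Jg)
  have hXY : ∀ v ∈ V, (∀ j ∈ Jg, j * v = v * j) → ∀ i, e v (J i) (X i) = e v (J i) (Y i) := by
    intro v hv hJ i
    have h1 := (c.tg i).act v hv (J i) (X i)
    have h2 : t i * v * (t i)⁻¹ = v := by rw [hJ _ (c.tJ i)]; group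
    rw [h2, Equiv.Perm.one_apply, Pi.mulSingle_eq_same, Equiv.swap_apply_left] at h1
    exact h1.symm
  have key : ∀ s : Finset ι, ∃ w ∈ Z, ∀ i ∈ s, e (v * w) (J i) (X i) = 0 := by
    intro s
    induction s using Finset.induction_on with
    | empty => exact ⟨1, one_mem _, by simp⟩
    | insert i s hi ih =>
      obtain ⟨w, hw, hws⟩ := ih
      by_cases h0 : e (v * w) (J i) (X i) = 0
      · refine ⟨w, hw, fun l hl => ?_⟩
        rcases Finset.mem_insert.1 hl with rfl | hl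
        · exact h0
        · exact hws l hl
      · have h1 : e (v * w) (J i) (X i) = 1 := by
          have : ∀ a : ZMod 2, a ≠ 0 → a = 1 := by decide
          exact this _ h0
        refine ⟨w * u H V ⊥ e (J i) (X i) (Y i), mul_mem hw (subset_closure ⟨i, rfl⟩),
          fun l hl => ?_⟩
        rw [← mul_assoc, h.mul _ (mul_mem hv (hZV hw)) _ (h.u_mem _ _ _), h.e_u]
        rcases Finset.mem_insert.1 hl with rfl | hl
        · have hne := (c.tr l).1
          simp only [Pi.add_apply, h1, E, true_and, if_true, hne, if_false, add_zero]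
          decide
        · have hli : l ≠ i := fun e => hi (e ▸ hl)
          have h2 := hws l hl
          by_cases hJl : J l = J i
          · obtain ⟨a1, a2, -, -⟩ := c.cases h hli hJl
            simp only [Pi.add_apply, h2, E, a1, a2, and_false, if_false, add_zero]
          · simp only [Pi.add_apply, h2, E, hJl, false_and, if_false, add_zero]
  obtain ⟨w, hw, hws⟩ := key Finset.univ
  have hvw : v * w ∈ V := mul_mem hv (hZV hw)
  have hwJ : ∀ j ∈ Jg, j * w = w * j := fun j hj => (mem_ZJ.1 (hb.D_le_Z hw)).2 j hj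
  have hvwJ : ∀ j ∈ Jg, j * (v * w) = v * w * j := by
    intro j hj
    have c1 : Commute j v := hJ j hj
    have c2 : Commute j w := hwJ j hj
    exact (c1.mul_right c2).eq
  have h0 : e (v * w) = 0 := by
    have h1 : ∀ i x, x ≠ o → e (v * w) i x = 0 := by
      intro j x hx
      obtain ⟨y, hy⟩ := h.cover Cfsg.Agent.Omega.SQ1.SymCyc.exists_pow j hx
      obtain ⟨i, rfl, -, -, ⟨rfl, rfl⟩ | ⟨rfl, rfl⟩⟩ := c.exists_idx h hy
      · exact hws i (Finset.mem_univ i)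
      · rw [← hXY _ hvw hvwJ i]
        exact hws i (Finset.mem_univ i)
    funext i x
    by_cases hx : x = o
    · subst hx
      have h2 := h.even _ hvw i
      rw [Finset.sum_eq_single_of_mem x (Finset.mem_univ x) fun y _ hy => h1 i y hy] at h2
      exact h2
    · exact h1 i x hx
  have h2 : v * w = 1 := mem_bot.1 ((h.ker _ hvw).1 h0)
  rw [eq_inv_of_mul_eq_one_left h2]
  exact inv_mem hw

/-- `V = ⟨N i⟩` -/
theorem V_le_iSup (h : SyL T H Q V Jg ⊥ AA o e) [Finite G] (c : Ch Jg H V ⊥ o e J X Y t r) :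
    V ≤ ⨆ i, h.NN (J i) o (X i) (Y i) := by
  refine h.V_le o bot_le fun j a => ?_
  by_cases ha : a = o
  · subst ha
    rw [Sy.u_self]
    exact one_mem _
  · obtain ⟨y, hy⟩ := h.cover Cfsg.Agent.Omega.SQ1.SymCyc.exists_pow j ha
    obtain ⟨i, rfl, -, -, hp⟩ := c.exists_idx h hy
    refine (le_iSup (fun i => h.NN (J i) o (X i) (Y i)) i) ?_
    rcases hp with ⟨rfl, rfl⟩ | ⟨rfl, rfl⟩
    · exact Or.inr (Or.inl rfl)
    · exact Or.inr (Or.inr (Or.inl rfl))

end syt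

/-! ### The output -/

/-- `V = ⨆ N i = Ω₁(Z(O₂(H)))`, `Z_J = C_V(J) = ⟨d i⟩`. -/
structure SymOut (T H V Jg : Subgroup G) {ι : Type} (N : ι → Subgroup G) (d t r : ι → G) : Prop where
  ne : Nonempty ι
  bau : In H T (o2 H) V Jg (ZJ V Jg) N d t r
  permR : PermR T V d r
  ZJ_eq : ZJ V Jg = closure (Set.range d)
  V_eq : V = ⨆ i, N i
  mem_o2 : ∀ x, x ∈ o2 H ↔ x ∈ T ∧ ∀ v ∈ V, x * v = v * x
  zc_eq : zc (o2 H) = V

theorem symOut_of [Finite G] {T H V Jg : Subgroup G} {AA : Set (Subgroup G)} {k n : ℕ} {o : Fin n}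
    {e : G → Fin k → Fin n → ZMod 2} {ι : Type} {J : ι → Fin k} {X Y : ι → Fin n} {t r : ι → G}
    (h : SyL T H (o2 H) V Jg ⊥ AA o e) (c : Ch Jg H V ⊥ o e J X Y t r) (hz : zc (o2 H) = V) :
    SymOut T H V Jg (fun i => h.NN (J i) o (X i) (Y i)) (fun i => u H V ⊥ e (J i) (X i) (Y i)) t r := by
  have hb := In.of_ZJ (c.main h Cfsg.Agent.Omega.SQ1.SymCyc.exists_pow) h.Jn
  have hne : Nonempty ι := by
    obtain ⟨j, x, y, hT⟩ := h.exists_tr
    obtain ⟨i, -⟩ := c.ex j x y hT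
    exact ⟨i⟩
  exact
    { ne := hne
      bau := hb
      permR := c.permR h
      ZJ_eq := le_antisymm (fun z hz => fix_le h c (mem_ZJ.1 hz).1 (mem_ZJ.1 hz).2) hb.D_le_Z
      V_eq := le_antisymm (V_le_iSup h c) (iSup_le fun i => h.NN_le _ _ _ _)
      mem_o2 := fun x => ⟨fun hx => ⟨h.QT hx, h.VcQ x hx⟩, fun hx => h.cT x hx.1 hx.2⟩
      zc_eq := hz }

/-- `|V| ≥ 2^m + 1` -/
theorem card_sym {T H V D : Subgroup G} [Finite G] {k m : ℕ} (hk : 0 < k) (N : SymK T H V D k m) :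
    2 ^ m + 1 ≤ Nat.card V := by
  classical
  have h1 : ∀ x : Fin (2 ^ m + 1), ∃ v ∈ V, N.e v = fun _ z =>
      (if z = 0 then 1 else 0) + (if z = x then 1 else 0) := by
    intro x
    refine N.surj _ fun i => ?_
    rw [Finset.sum_add_distrib, Finset.sum_ite_eq', Finset.sum_ite_eq']
    simp only [Finset.mem_univ, if_true]
    exact CharTwo.add_self_eq_zero 1
  choose f hf1 hf2 using h1
  have h2 : Function.Injective fun x => (⟨f x, hf1 x⟩ : V) := by
    intro x y hxy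
    have e : f x = f y := congrArg Subtype.val hxy
    have e2 := congrFun (congrFun ((hf2 x).symm.trans ((congrArg N.e e).trans (hf2 y))) ⟨0, hk⟩) x
    simp only [if_true] at e2
    have e3 := add_left_cancel e2
    by_contra hne
    rw [if_neg hne] at e3
    exact one_ne_zero e3
  have h3 := Nat.card_le_card_of_injective _ h2
  rwa [Nat.card_fin] at h3

/-! ### The module data -/

section gen

/-- **The module data of a pair `(T, H)`** with a family `AA` of offenders, `Jg ≤ ⟨AA⟩ O₂(H)`. -/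
theorem syL_gen [Finite G] {T H Jg D : Subgroup G} {AA : Set (Subgroup G)} (hM : MinH H T) {k m : ℕ} (hk : 0 < k)
    (hm : 1 ≤ m) (N : SymKM T H (zl T H) D k m) (hDV : D ≤ zl T H) (hDn : ∀ h ∈ H, ∀ v ∈ D, h * v * h⁻¹ ∈ D)
    (hAT : ∀ A ∈ AA, A ≤ T) (hoff : ∀ A ∈ AA, ¬ A ≤ o2 H → OffM (zl T H) A) (hex : ∃ A ∈ AA, ¬ A ≤ o2 H)
    (JT : Jg ≤ T) (Jn : ∀ x ∈ T, ∀ y ∈ Jg, x * y * x⁻¹ ∈ Jg) (AJ : ∀ A ∈ AA, A ≤ Jg) (Jle : Jg ≤ sSup AA ⊔ o2 H) :
    SyL T H (o2 H) (zl T H) Jg D AA (0 : Fin (2 ^ m + 1)) N.e :=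
  { toSy := sy_of hM N.toSymK hk hm hDV hDn
    TH := hM.syl.1
    Tp := hM.syl.2.1
    QT := o2_le_syl hM.syl
    VQ := MinH.zl_le_o2 hM
    Qn := fun g hg x hx => conj_mem_of_norm (ZN.le_normalizer_o2 H hg) hx
    VcQ := MinH.o2_cent hM
    cT := fun x hx hc => cT' hM N.toSymK hk hm hDV hx hc
    syl := fun x hx h2 => syl_elt hM.syl hx h2
    trans := N.trans
    fix0 := N.fix0
    gen := fun K hT hK => N.gen K hT fun g hg τ ha hd => hK g τ ⟨hg, hd, ha⟩
    JT := JT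
    Jn := Jn
    AJ := AJ
    Jle := Jle
    offD := by
      intro A hA a ha
      by_cases hne : A ≤ o2 H
      · have hc := MinH.o2_cent hM a (hne ha)
        refine ⟨1, ⟨hM.syl.1 (hAT A hA ha), fun d hd => hc d (hDV hd), fun v hv i x => ?_⟩,
          fun i x hx => absurd rfl hx⟩
        have h1 := hc v hv
        have h2 : a * v * a⁻¹ = v := by rw [h1]; group
        rw [h2, Equiv.Perm.one_apply, Pi.one_apply, Equiv.Perm.one_apply]
      · obtain ⟨h1, h2⟩ := N.offM A (hAT A hA) (hoff A hA hne)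
        obtain ⟨τ, hτ, hτ'⟩ := h2 a ha
        refine ⟨τ, ⟨hM.syl.1 (hAT A hA ha), h1 a ha, hτ⟩, fun i x hx => ?_⟩
        obtain ⟨h3, b, hb, hb'⟩ := hτ' i x hx
        exact ⟨h3, b, hb, hM.syl.1 (hAT A hA hb), h1 b hb, hb'⟩
    nJ := by
      obtain ⟨A, hA, hAQ⟩ := hex
      by_contra hcon
      push Not at hcon
      apply hAQ
      intro a ha
      exact cT' hM N.toSymK hk hm hDV (hAT A hA ha) fun v hv => hcon A hA a ha v hv
    cycle := by
      obtain ⟨p, h1, -, h3, h4⟩ := Cfsg.Agent.Omega.SQ1.SymCyc.exists_cyc m hm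
      exact ⟨p, m, h1, h3, h4⟩
    prop := by
      intro K hTK hKH hle
      by_contra hcon
      obtain ⟨M₀, hn, hu⟩ := hM.uniq
      have h1 : K ≤ M₀ := hu K hTK hKH fun h => hcon h.ge
      have h2 : (H ⊓ centralizer (zl T H : Set G)) ⊔ T ≤ M₀ :=
        hu _ le_sup_right (sup_le inf_le_left hM.syl.1) (cent_sup_ne' hM N.toSymK hk hm hDV)
      exact hn (hle.trans (sup_le h1 (le_sup_left.trans h2))) }

end gen

section exa

variable [Finite G] {S : Sylow 2 G} {P X L : Subgroup G} {AA : Set (Subgroup G)}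

/-- **The module data at a level.** -/
theorem syL_of (h : Exa S P X L AA) {Jg D : Subgroup G} {k m : ℕ} (hk : 0 < k) (hm : 1 ≤ m)
    (N : SymKM (S : Subgroup G) P (zl (S : Subgroup G) P) D k m) (hD : D = ⊥)
    (JT : Jg ≤ (S : Subgroup G)) (Jn : ∀ x ∈ (S : Subgroup G), ∀ y ∈ Jg, x * y * x⁻¹ ∈ Jg)
    (AJ : ∀ A ∈ AA, A ≤ Jg) (Jle : Jg ≤ sSup AA ⊔ ((S : Subgroup G) ⊓ centralizer (X : Set G))) :
    SyL (S : Subgroup G) P (o2 P) (zl (S : Subgroup G) P) Jg ⊥ AA (0 : Fin (2 ^ m + 1)) N.e := by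
  subst hD
  have hC : (S : Subgroup G) ⊓ centralizer (X : Set G) ≤ o2 P := by
    rw [← MinPar.IsParS.inf_centralizer S h.char2 h.star]
    exact inf_le_inf_left _ (centralizer_le h.VX)
  refine syL_gen h.minH' hk hm N bot_le (fun g _ v hv => ?_) h.fam.le (fun A hA hAQ => h.offM hA hAQ) h.ex JT Jn AJ
    (Jle.trans (sup_le_sup_left hC _))
  rw [mem_bot.1 hv, mul_one, mul_inv_cancel]
  exact one_mem _

/-- a member of the family is a best offender -/
theorem best_of (h : Exa S P X L AA) {A : Subgroup G} (hA : A ∈ AA) : Best X A := fun F h1 h2 => h.fam.best A hA F h1 h2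

/-- **The symmetric frame**, with the coordinates. -/
theorem exists_frame (h : Exa S P X L AA) {Jg D : Subgroup G} {k m : ℕ} (hk : 0 < k) (hm : 1 ≤ m)
    (N : SymKM (S : Subgroup G) P (zl (S : Subgroup G) P) D k m) (hD : D = ⊥)
    (hz : zc (o2 P) = zl (S : Subgroup G) P)
    (JT : Jg ≤ (S : Subgroup G)) (Jn : ∀ x ∈ (S : Subgroup G), ∀ y ∈ Jg, x * y * x⁻¹ ∈ Jg)
    (AJ : ∀ A ∈ AA, A ≤ Jg) (Jle : Jg ≤ sSup AA ⊔ ((S : Subgroup G) ⊓ centralizer (X : Set G))) :
    ∃ (ι : Type) (J : ι → Fin k) (U Y : ι → Fin (2 ^ m + 1)) (t r : ι → G)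
      (h0 : SyL (S : Subgroup G) P (o2 P) (zl (S : Subgroup G) P) Jg ⊥ AA (0 : Fin (2 ^ m + 1)) N.e)
      (Lb A : ι → Subgroup G),
      Ch Jg P (zl (S : Subgroup G) P) ⊥ 0 N.e J U Y t r ∧
      SymOut (S : Subgroup G) P (zl (S : Subgroup G) P) Jg (fun i => h0.NN (J i) 0 (U i) (Y i))
        (fun i => u P (zl (S : Subgroup G) P) ⊥ N.e (J i) (U i) (Y i)) t r ∧
      (∀ i, Blk P (S : Subgroup G) (zl (S : Subgroup G) P) (ZJ (zl (S : Subgroup G) P) Jg)
        (fun i => u P (zl (S : Subgroup G) P) ⊥ N.e (J i) (U i) (Y i)) r i (Lb i)) ∧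
      (∀ x ∈ (S : Subgroup G), ∀ i j, x * u P (zl (S : Subgroup G) P) ⊥ N.e (J i) (U i) (Y i) * x⁻¹ =
        u P (zl (S : Subgroup G) P) ⊥ N.e (J j) (U j) (Y j) → cj x (Lb i) = Lb j) ∧
      (∀ i, A i ≤ Jg) ∧
      FrL (BB (S : Subgroup G) (ZJ (zl (S : Subgroup G) P) Jg)) (o2 P) (zl (S : Subgroup G) P) X
        (ZJ (zl (S : Subgroup G) P) Jg) Lb (fun i => h0.NN (J i) 0 (U i) (Y i))
        (fun i => zpowers (u P (zl (S : Subgroup G) P) ⊥ N.e (J i) (U i) (Y i)))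
        (fun i => CC (fun i => h0.NN (J i) 0 (U i) (Y i)) i) A 2 := by
  have h0 := syL_of h hk hm N hD JT Jn AJ Jle
  obtain ⟨ι, J, U, Y, t, r, c⟩ := h0.exists_ch
  have hs := symOut_of h0 c hz
  obtain ⟨Lb, hL, hc⟩ := hs.bau.exists_blks hs.permR
  have hzQ : ∀ x ∈ o2 P, x ^ 2 = 1 → (∀ y ∈ o2 P, x * y = y * x) → x ∈ zl (S : Subgroup G) P := by
    intro x hx h2 hxc
    rw [← hz]
    exact ChoiceBase.mem_zc.2 ⟨hx, h2, fun y hy => (hxc y hy).symm⟩
  have hA : ∀ i, ∃ A ≤ Jg, ElemM X A ∧ Best X A ∧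
      ¬ ∀ a ∈ A, ∀ v ∈ h0.NN (J i) 0 (U i) (Y i), a * v = v * a := by
    intro i
    by_contra hcon
    push Not at hcon
    have h1 : Jg ≤ centralizer (h0.NN (J i) 0 (U i) (Y i) : Set G) := by
      refine h0.Jle.trans (sup_le (sSup_le fun A hA a ha => mem_centralizer_iff.2 fun v hv => ?_) ?_)
      · exact (hcon A (AJ A hA) (h.fam.elem A hA) (best_of h hA) a ha v hv).symm
      · exact fun x hx => mem_centralizer_iff.2 fun v hv => (h0.VcQ x hx v (hs.bau.NV i hv)).symm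
    exact hs.bau.t_not_QQ i ⟨hs.bau.t_bau i, h1 (hs.bau.tJ i)⟩
  obtain ⟨A, hAJ, hF⟩ := SFr.frame hs.bau (SIn.ZJ_le _ _) h.elem h.VX (fun g hg x hx => (mem_normalizer_iff.1 (h.norm hg) x).1 hx)
    hzQ hs.V_eq.le hA hL
  exact ⟨ι, J, U, Y, t, r, h0, Lb, A, c, hs, hL, hc, hAJ, hF⟩

/-- **The symmetric frame** (`m ≥ 2`): at least two blocks. -/
theorem exists_sym (h : Exa S P X L AA) {Jg : Subgroup G} {k m : ℕ} (hk : 0 < k) (hm : 2 ≤ m)
    (N : SymKM (S : Subgroup G) P (zl (S : Subgroup G) P) (cv (S : Subgroup G) P) k m)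
    (JT : Jg ≤ (S : Subgroup G)) (Jn : ∀ x ∈ (S : Subgroup G), ∀ y ∈ Jg, x * y * x⁻¹ ∈ Jg)
    (AJ : ∀ A ∈ AA, A ≤ Jg) (Jle : Jg ≤ sSup AA ⊔ ((S : Subgroup G) ⊓ centralizer (X : Set G))) :
    ∃ (ι : Type) (_ : Finite ι) (W : ι → Subgroup G) (d t r : ι → G) (Lb A : ι → Subgroup G),
      SymOut (S : Subgroup G) P (zl (S : Subgroup G) P) Jg W d t r ∧
      (∀ i, Blk P (S : Subgroup G) (zl (S : Subgroup G) P) (ZJ (zl (S : Subgroup G) P) Jg) d r i (Lb i)) ∧
      (∀ x ∈ (S : Subgroup G), ∀ i j, x * d i * x⁻¹ = d j → cj x (Lb i) = Lb j) ∧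
      (∀ i, A i ≤ Jg) ∧ (∀ i : ι, ∃ j, j ≠ i) ∧
      FrL (BB (S : Subgroup G) (ZJ (zl (S : Subgroup G) P) Jg)) (o2 P) (zl (S : Subgroup G) P) X
        (ZJ (zl (S : Subgroup G) P) Jg) Lb W (fun i => zpowers (d i)) (fun i => CC W i) A 2 := by
  have hm1 : 1 ≤ m := by omega
  obtain ⟨ι, J, U, Y, t, r, h0, Lb, A, c, hs, hL, hc, hAJ, hF⟩ := exists_frame h hk hm1 N (h.cv_eq_bot_sym N)
    (h.zc_o2_sym N hk hm1) JT Jn AJ Jle
  have hfin : Finite ι := hs.bau.finite_index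
  refine ⟨ι, hfin, _, _, t, r, Lb, A, hs, hL, hc, hAJ, fun i => ?_, hF⟩
  by_contra hcon
  push Not at hcon
  have h3 : zl (S : Subgroup G) P = h0.NN (J i) 0 (U i) (Y i) := by
    refine le_antisymm (hs.V_eq.le.trans (iSup_le fun j => ?_)) (hs.bau.NV i)
    rw [hcon j]
  have h4 := hs.bau.cardN i
  rw [← h3] at h4
  have h5 := card_sym hk N.toSymK
  have h6 : 2 ^ 2 ≤ 2 ^ m := Nat.pow_le_pow_right (by norm_num) hm
  omega

end exa

/-! ### At a level of `Level/Basic.lean` -/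

section lev

open Cfsg.Agent.Omega.NO3S.Level (Lev BO nxt)

variable [Finite G] {S : Sylow 2 G} {P K : Subgroup G}

theorem nxt_le_sup (S K : Subgroup G) : nxt S K ≤ sSup (BO S K) ⊔ (S ⊓ centralizer (zc K : Set G)) :=
  sup_le le_sup_right le_sup_left

theorem nxt_norm (hL : Lev (S : Subgroup G) K) :
    ∀ x ∈ (S : Subgroup G), ∀ y ∈ nxt (S : Subgroup G) K, x * y * x⁻¹ ∈ nxt (S : Subgroup G) K :=
  fun x hx y hy => (mem_normalizer_iff.1 (hL.next.S_norm hx) y).1 hy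

/-- **The symmetric frame at a level `K ≤ O₂(P)`**, `B = C_S(Ω₁(Z(nxt S K)))`, `X = Ω₁(Z(K))`. -/
theorem exists_sym_lev (hFF : FFThm.StmtM.{v}) (hG : IsCharacteristicTwoType G) (hP : IsParS (S : Subgroup G) P)
    (hL : Lev (S : Subgroup G) K) (hK : K ≤ o2 P)
    (hcen : zc (S : Subgroup G) ⊓ centralizer (P : Set G) = ⊥)
    (hJ : ∃ A ∈ BO (S : Subgroup G) K, ¬ A ≤ o2 P) {k m : ℕ} (hk : 0 < k) (hm : 2 ≤ m)
    (N : SymKM (S : Subgroup G) P (zl (S : Subgroup G) P) (cv (S : Subgroup G) P) k m) :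
    ∃ (ι : Type) (_ : Finite ι) (W : ι → Subgroup G) (d t r : ι → G) (Lb A : ι → Subgroup G),
      SymOut (S : Subgroup G) P (zl (S : Subgroup G) P) (nxt (S : Subgroup G) K) W d t r ∧
      (∀ i, Blk P (S : Subgroup G) (zl (S : Subgroup G) P) (zc (nxt (S : Subgroup G) K)) d r i (Lb i)) ∧
      (∀ x ∈ (S : Subgroup G), ∀ i j, x * d i * x⁻¹ = d j → cj x (Lb i) = Lb j) ∧
      (∀ i, A i ≤ nxt (S : Subgroup G) K) ∧ (∀ i : ι, ∃ j, j ≠ i) ∧
      FrL ((S : Subgroup G) ⊓ centralizer (zc (nxt (S : Subgroup G) K) : Set G)) (o2 P) (zl (S : Subgroup G) P)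
        (zc K) (zc (nxt (S : Subgroup G) K)) Lb W (fun i => zpowers (d i)) (fun i => CC W i) A 2 := by
  obtain ⟨h, hc⟩ := NO3S.OneLine.exa_lev hFF hG hP hL hK hcen hJ
  have e1 := (NO3S.OneLine.lev_eq hFF hG hP hL hK hcen hJ).2
  have e2 : ZJ (zl (S : Subgroup G) P) (nxt (S : Subgroup G) K) = zc (nxt (S : Subgroup G) K) := e1.symm
  obtain ⟨ι, hι, W, d, t, r, Lb, A, h1, h2, h3, h4, h5, h6⟩ := exists_sym h hk hm N (NO3S.Level.nxt_le _ _)
    (nxt_norm hL) (fun A hA => NO3S.Level.BO.le_nxt hA) (nxt_le_sup _ _)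
  rw [e2] at h2 h6
  exact ⟨ι, hι, W, d, t, r, Lb, A, h1, h2, h3, h4, h5, h6⟩

end lev

end Cfsg.Agent.Omega.OM.Lev.Sym

end

section


/-!
# THEOREM S / S+ (symmetric blocks): the light pairs and their symmetries

`V` = the sum of `k` even-subset modules, `d i = u (J i) (X i) (Y i)` the light vectors (`i : ι`), a partition of the
points `≠ o` of every component into pairs.

* `Prs S H V o e J X Y` : this setting;
* `Prs.swap` : `J i = J j`: some `g ∈ H` induces the transposition `(i j)` on the `d l`;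
* `Prs.brother` : every `l` has a brother `l' ≠ l`, `J l' = J l` (`5 ≤ n`);
* `Prs.perm` : `S` permutes the `d l`; `Prs.trans` : `H ∩ {permuting the d l}` is transitive;
* `Prs.sw` : `j ≠ l`: some `g ∈ H` fixes `j` and moves `l`, or interchanges `j` and `l`;
* `prs_lev`, `prs_neg` : from the frames `SyL` (levels) and `SyT` (stage `-1`).
-/

set_option autoImplicit false
set_option linter.unusedSectionVars false

namespace Cfsg.Agent.Omega.ESym

open Subgroup Cfsg Cfsg.Agent.ZN.ChoiceBase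
open Cfsg.Agent.Omega.FFThm (ActsSym SymK SymKM)
open Cfsg.Agent.Omega.SQ1.FFSym

universe v

variable {G : Type v} [Group G] {k n : ℕ}

/-- The light pairs. -/
structure Prs (S H V : Subgroup G) (o : Fin n) (e : G → Fin k → Fin n → ZMod 2) {ι : Type}
    (J : ι → Fin k) (X Y : ι → Fin n) : Prop where
  sy : Sy H V ⊥ e
  SH : S ≤ H
  ne : ∀ i, X i ≠ Y i
  dis : ∀ i j, i ≠ j → J i = J j → X i ≠ X j ∧ X i ≠ Y j ∧ Y i ≠ X j ∧ Y i ≠ Y j
  cov : ∀ j x, x ≠ o → ∃ i, J i = j ∧ (X i = x ∨ Y i = x)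
  conj : ∀ s ∈ S, ∀ σ τ, ActsSym e V s σ τ → ∀ i, ∃ l, J l = σ (J i) ∧
    s * u H V ⊥ e (J i) (X i) (Y i) * s⁻¹ = u H V ⊥ e (J l) (X l) (Y l)
  tr : ∀ i j, ∃ t ∈ S, ∃ σ τ, ActsSym e V t σ τ ∧ σ i = j

namespace Prs

variable {S H V : Subgroup G} {o : Fin n} {e : G → Fin k → Fin n → ZMod 2} {ι : Type}
  {J : ι → Fin k} {X Y : ι → Fin n}

theorem inj (h : Prs S H V o e J X Y) {i j : ι}
    (he : u H V ⊥ e (J i) (X i) (Y i) = u H V ⊥ e (J j) (X j) (Y j)) : i = j := by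
  by_contra hij
  obtain ⟨h1, h2⟩ := h.sy.u_inj (h.ne i) he
  obtain ⟨h3, h4, -, -⟩ := h.dis i j hij h1
  rcases h2 with h2 | h2
  · exact h3 h2.1
  · exact h4 h2.1

/-- **the transposition `(i j)`** of two pairs of one component -/
theorem swap [DecidableEq ι] (h : Prs S H V o e J X Y) {i j : ι} (hij : i ≠ j) (hJ : J i = J j) :
    ∃ g ∈ H, ∀ l, g * u H V ⊥ e (J l) (X l) (Y l) * g⁻¹ =
      u H V ⊥ e (J (Equiv.swap i j l)) (X (Equiv.swap i j l)) (Y (Equiv.swap i j l)) := by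
  obtain ⟨a1, a2, a3, a4⟩ := h.dis i j hij hJ
  have hi := h.ne i
  have hj := h.ne j
  obtain ⟨g, hg⟩ := h.sy.exists_gd (Pi.mulSingle (J i) (Equiv.swap (X i) (X j) * Equiv.swap (Y i) (Y j)))
  refine ⟨g, hg.mem, fun l => ?_⟩
  rw [h.sy.u_conj hg.mem hg.act, Equiv.Perm.one_apply]
  by_cases hli : l = i
  · subst hli
    rw [Equiv.swap_apply_left, Pi.mulSingle_eq_same, ← hJ, Equiv.Perm.mul_apply, Equiv.Perm.mul_apply,
      Equiv.swap_apply_of_ne_of_ne hi a2, Equiv.swap_apply_left, Equiv.swap_apply_left,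
      Equiv.swap_apply_of_ne_of_ne a2.symm hj.symm]
  · by_cases hlj : l = j
    · subst hlj
      rw [Equiv.swap_apply_right, ← hJ, Pi.mulSingle_eq_same, Equiv.Perm.mul_apply, Equiv.Perm.mul_apply,
        Equiv.swap_apply_of_ne_of_ne a3.symm hj, Equiv.swap_apply_right, Equiv.swap_apply_right,
        Equiv.swap_apply_of_ne_of_ne hi.symm a3]
    · rw [Equiv.swap_apply_of_ne_of_ne hli hlj]
      by_cases hJl : J l = J i
      · obtain ⟨b1, b2, b3, b4⟩ := h.dis l i hli hJl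
        obtain ⟨c1, c2, c3, c4⟩ := h.dis l j hlj (hJl.trans hJ)
        rw [hJl, Pi.mulSingle_eq_same, Equiv.Perm.mul_apply, Equiv.Perm.mul_apply,
          Equiv.swap_apply_of_ne_of_ne b2 c2, Equiv.swap_apply_of_ne_of_ne b1 c1,
          Equiv.swap_apply_of_ne_of_ne b4 c4, Equiv.swap_apply_of_ne_of_ne b3 c3]
      · rw [Pi.mulSingle_eq_of_ne hJl, Equiv.Perm.one_apply, Equiv.Perm.one_apply]

/-- every pair has a brother in its component -/
theorem brother (h : Prs S H V o e J X Y) (hn : 4 ≤ n) (l : ι) : ∃ l', l' ≠ l ∧ J l' = J l := by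
  have h1 : ∃ x : Fin n, x ∉ ({o, X l, Y l} : Finset (Fin n)) := by
    by_contra hcon
    push Not at hcon
    have h2 : (Finset.univ : Finset (Fin n)) ⊆ {o, X l, Y l} := fun x _ => hcon x
    have h3 := Finset.card_le_card h2
    rw [Finset.card_univ, Fintype.card_fin] at h3
    have h4 := h3.trans (Finset.card_le_three (a := o) (b := X l) (c := Y l))
    omega
  obtain ⟨x, hx⟩ := h1
  simp only [Finset.mem_insert, Finset.mem_singleton, not_or] at hx
  obtain ⟨l', hJ, hl'⟩ := h.cov (J l) x hx.1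
  refine ⟨l', ?_, hJ⟩
  rintro rfl
  rcases hl' with h5 | h5
  · exact hx.2.1 h5.symm
  · exact hx.2.2 h5.symm

/-- `S` permutes the `d l` -/
theorem perm [Finite ι] (h : Prs S H V o e J X Y) {s : G} (hs : s ∈ S) {σ : Equiv.Perm (Fin k)}
    {τ : Fin k → Equiv.Perm (Fin n)} (hσ : ActsSym e V s σ τ) :
    ∃ ρ : Equiv.Perm ι, ∀ l, J (ρ l) = σ (J l) ∧ s * u H V ⊥ e (J l) (X l) (Y l) * s⁻¹ =
      u H V ⊥ e (J (ρ l)) (X (ρ l)) (Y (ρ l)) := by
  choose f hf using h.conj s hs σ τ hσ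
  have hinj : Function.Injective f := by
    intro i j hij
    apply h.inj
    have h1 := (hf i).2
    have h2 := (hf j).2
    rw [hij, ← h2] at h1
    have h3 := mul_right_cancel h1
    exact mul_left_cancel h3
  exact ⟨Equiv.ofBijective f (Finite.injective_iff_bijective.1 hinj), hf⟩

/-- **transitivity** on the `d l` -/
theorem trans [Finite ι] (h : Prs S H V o e J X Y) (i j : ι) :
    ∃ g ∈ H, ∃ ρ : Equiv.Perm ι, ρ i = j ∧ ∀ l, g * u H V ⊥ e (J l) (X l) (Y l) * g⁻¹ =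
      u H V ⊥ e (J (ρ l)) (X (ρ l)) (Y (ρ l)) := by
  classical
  obtain ⟨t, ht, σ, τ, hta, hσ⟩ := h.tr (J i) (J j)
  obtain ⟨ρ, hρ⟩ := h.perm ht hta
  by_cases hij : ρ i = j
  · exact ⟨t, h.SH ht, ρ, hij, fun l => (hρ l).2⟩
  · obtain ⟨g, hg, hgd⟩ := h.swap hij ((hρ i).1.trans hσ)
    refine ⟨g * t, mul_mem hg (h.SH ht), Equiv.swap (ρ i) j * ρ, ?_, fun l => ?_⟩
    · rw [Equiv.Perm.mul_apply, Equiv.swap_apply_left]
    · have e1 : g * t * u H V ⊥ e (J l) (X l) (Y l) * (g * t)⁻¹ =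
          g * (t * u H V ⊥ e (J l) (X l) (Y l) * t⁻¹) * g⁻¹ := by group
      rw [e1, (hρ l).2, hgd, Equiv.Perm.mul_apply]

/-- **(sw)** -/
theorem sw [Finite ι] (h : Prs S H V o e J X Y) (hn : 4 ≤ n) {j l : ι} (hjl : j ≠ l) :
    (∃ g ∈ H, ∃ ρ : Equiv.Perm ι, ρ j = j ∧ ρ l ≠ l ∧ ∀ a, g * u H V ⊥ e (J a) (X a) (Y a) * g⁻¹ =
      u H V ⊥ e (J (ρ a)) (X (ρ a)) (Y (ρ a))) ∨
    ∃ g ∈ H, ∃ ρ : Equiv.Perm ι, ρ j = l ∧ ρ l = j ∧ ∀ a, g * u H V ⊥ e (J a) (X a) (Y a) * g⁻¹ =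
      u H V ⊥ e (J (ρ a)) (X (ρ a)) (Y (ρ a)) := by
  classical
  by_cases hJ : J j = J l
  · obtain ⟨g, hg, hgd⟩ := h.swap hjl hJ
    exact Or.inr ⟨g, hg, Equiv.swap j l, Equiv.swap_apply_left _ _, Equiv.swap_apply_right _ _, hgd⟩
  · obtain ⟨l', hl', hJl⟩ := h.brother hn l
    obtain ⟨g, hg, hgd⟩ := h.swap hl'.symm hJl.symm
    refine Or.inl ⟨g, hg, Equiv.swap l l', ?_, ?_, hgd⟩
    · refine Equiv.swap_apply_of_ne_of_ne hjl ?_
      rintro rfl
      exact hJ hJl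
    · rw [Equiv.swap_apply_left]
      exact hl'

end Prs

/-! ### The instances -/

section inst

variable [Finite G] {T H Q V : Subgroup G} {o : Fin n} {e : G → Fin k → Fin n → ZMod 2} {ι : Type}
  {J : ι → Fin k} {X Y : ι → Fin n} {t r : ι → G}

/-- levels -/
theorem prs_lev {Jg : Subgroup G} {AA : Set (Subgroup G)} (h : OM.Lev.SymIn.SyL T H Q V Jg ⊥ AA o e)
    (c : OM.Lev.SymIn.SyL.Ch Jg H V ⊥ o e J X Y t r) : Prs T H V o e J X Y where
  sy := h.toSy
  SH := h.TH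
  ne := fun i => (c.tr i).1
  dis := fun _ _ hij hJ => c.cases h hij hJ
  cov := by
    intro j x hx
    obtain ⟨y, hy⟩ := h.cover Cfsg.Agent.Omega.SQ1.SymCyc.exists_pow j hx
    obtain ⟨i, hi, -, -, h1 | h1⟩ := c.exists_idx h hy
    · exact ⟨i, hi, Or.inl h1.1⟩
    · exact ⟨i, hi, Or.inr h1.2⟩
  conj := by
    intro s hs σ τ hσ i
    obtain ⟨l, h1, -, h3, -⟩ := c.exists_idx h ((c.tr i).conj h hs hσ)
    exact ⟨l, h1, by rw [h3, h.u_conj (h.TH hs) hσ]⟩
  tr := h.trans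

/-- stage `-1` -/
theorem prs_neg (h : SyT T H Q V ⊥ o e) (c : SyT.Ch T H V ⊥ o e J X Y t r) : Prs T H V o e J X Y where
  sy := h.toSy
  SH := h.TH
  ne := fun i => (c.tr i).1
  dis := fun _ _ hij hJ => c.cases h hij hJ
  cov := by
    intro j x hx
    obtain ⟨y, hy⟩ := h.cover Cfsg.Agent.Omega.SQ1.SymCyc.exists_pow j hx
    obtain ⟨i, hi, -, -, h1 | h1⟩ := c.exists_idx h hy
    · exact ⟨i, hi, Or.inl h1.1⟩
    · exact ⟨i, hi, Or.inr h1.2⟩
  conj := by
    intro s hs σ τ hσ i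
    obtain ⟨l, h1, -, h3, -⟩ := c.exists_idx h ((c.tr i).conj h hs hσ)
    exact ⟨l, h1, by rw [h3, h.u_conj (h.TH hs) hσ]⟩
  tr := h.trans

end inst

end Cfsg.Agent.Omega.ESym

end

section


/-!
# The combinatorial end of THEOREM S'' (helper11)

`Ar i j` : "`Y_i` does not normalise `N_j N_i`".  Every index has an arrow, every proper non-empty
set of indices contains a sink of the induced digraph.  Then the digraph is a directed cycle, and an
automorphism which fixes one index is the identity.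
-/

namespace Cfsg.Agent.Omega.ESym.Comb

variable {ι : Type*} {Ar : ι → ι → Prop}

/-- every choice of arrows is transitive -/
theorem reach
    (sink : ∀ K : Set ι, K.Nonempty → K ≠ Set.univ → ∃ i ∈ K, ∀ j ∈ K, j ≠ i → ¬ Ar i j)
    {f : ι → ι} (hf : ∀ i, f i ≠ i ∧ Ar i (f i)) (i j : ι) : ∃ t : ℕ, f^[t] i = j := by
  classical
  by_contra hcon
  obtain ⟨a, ⟨t, ht⟩, ha⟩ := sink {j | ∃ t : ℕ, f^[t] i = j} ⟨i, 0, rfl⟩
    (fun h => hcon (by
      have : j ∈ ({j | ∃ t : ℕ, f^[t] i = j} : Set ι) := by rw [h]; exact Set.mem_univ j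
      exact this))
  exact ha (f a) ⟨t + 1, by rw [Function.iterate_succ_apply', ht]⟩ (hf a).1 (hf a).2

theorem surj
    (sink : ∀ K : Set ι, K.Nonempty → K ≠ Set.univ → ∃ i ∈ K, ∀ j ∈ K, j ≠ i → ¬ Ar i j)
    {f : ι → ι} (hf : ∀ i, f i ≠ i ∧ Ar i (f i)) : Function.Surjective f := by
  intro y
  obtain ⟨t, ht⟩ := reach sink hf (f y) y
  refine ⟨f^[t] y, ?_⟩
  rw [← Function.iterate_succ_apply' f t y, Function.iterate_succ_apply]
  exact ht

/-- the arrow at `i` is unique -/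
theorem unique [Finite ι]
    (sink : ∀ K : Set ι, K.Nonempty → K ≠ Set.univ → ∃ i ∈ K, ∀ j ∈ K, j ≠ i → ¬ Ar i j)
    {f : ι → ι} (hf : ∀ i, f i ≠ i ∧ Ar i (f i)) {i j : ι} (hj : j ≠ i) (hij : Ar i j) :
    j = f i := by
  classical
  by_contra hne
  have hf' : ∀ a, Function.update f i j a ≠ a ∧ Ar a (Function.update f i j a) := by
    intro a
    by_cases h : a = i
    · subst h
      simpa using ⟨hj, hij⟩
    · rw [Function.update_of_ne h]
      exact hf a
  have hinj : Function.Injective f := Finite.injective_iff_surjective.mpr (surj sink hf)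
  obtain ⟨a, ha⟩ := surj sink hf' (f i)
  by_cases h : a = i
  · subst h
    rw [Function.update_self] at ha
    exact hne ha
  · rw [Function.update_of_ne h] at ha
    exact h (hinj ha)

/-- **the combinatorial end of THEOREM S''** -/
theorem fix_all [Finite ι] (Ar : ι → ι → Prop) (out : ∀ i, ∃ j, j ≠ i ∧ Ar i j)
    (sink : ∀ K : Set ι, K.Nonempty → K ≠ Set.univ → ∃ i ∈ K, ∀ j ∈ K, j ≠ i → ¬ Ar i j)
    (σ : Equiv.Perm ι) (h : ∀ i j, Ar i j → Ar (σ i) (σ j)) (i : ι) (hi : σ i = i) : σ = 1 := by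
  choose f hf using out
  have key : ∀ t : ℕ, σ (f^[t] i) = f^[t] i := by
    intro t
    induction t with
    | zero => exact hi
    | succ t ih =>
      rw [Function.iterate_succ_apply']
      refine unique sink hf ?_ ?_
      · intro hc
        have := (hf (f^[t] i)).1
        apply this
        apply σ.injective
        rw [hc, ih]
      · have := h _ _ (hf (f^[t] i)).2
        rwa [ih] at this
  ext j
  obtain ⟨t, ht⟩ := reach sink hf i j
  rw [Equiv.Perm.one_apply, ← ht]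
  exact key t

end Cfsg.Agent.Omega.ESym.Comb

end
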