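import Cfsg.Agent.Mrg.Omega.OM.Lev.FixPt
import Cfsg.Agent.Mrg.Omega.OM.Lev.SFr
import Cfsg.Agent.Mrg.Omega.OM.PB
import Cfsg.Agent.Mrg.Omega.OM.Swap.Pair
import Cfsg.Agent.Mrg.Omega.NO3S.Level.Fam
import Cfsg.Agent.Mrg.Omega.OM.Lev.SMin
import Cfsg.Agent.Mrg.Omega.OM.FrSym
import Cfsg.Agent.Mrg.Omega.NO3S.EThree.Frame

section


/-!
# Blocks over `B = C_T(Z_J)` of type `S_{2^m+1} ≀` (or `S₃ ≀`) in a minimal parabolic `H` over `T`, general pair `(T, H)`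

`GE T H X AA` (`Lev/GLev.lean`), `V = ⟨Ω₁Z(T)^H⟩` a sum of even-subset modules modulo `D = C_V(O²(H))` (`SymKM`),
`Z_J = C_X(AA) = Ω₁Z(B)` (`BZ`):

* `pb` : a minimal block `Blk H T V Z d r i L` over `B = BB T Z` with `Ω₁Z(B) = Z` gives `PB B L (N i) ⟨d i⟩ 1 2`;
* `exists_pb` : a block `L ≤ H` over `B`, `H = ⟨T, L⟩`; the literal of `GNat.exists_pb` with `2` for `|F|`.
-/

set_option autoImplicit false
set_option linter.unusedSectionVars false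

namespace Cfsg.Agent.Omega.OM.GSym

open Subgroup Cfsg Cfsg.Agent.PLocal.ThompsonJ Cfsg.Agent.ZN Cfsg.Agent.ZN.ChoiceBase
open Cfsg.Agent.ZN.ChoiceSit (Syl)
open Cfsg.Agent.PLocal.ElemAbSup
open Cfsg.Agent.Omega.SQ1.Bau (elem_comm elem_sq mem_sup_comm card_sup_comm mem_sup_norm Mv not_mv_iff mv_inv)
open Cfsg.Agent.Omega.SQ1.BauS (Sim)
open Cfsg.Agent.Omega.OM.Lev.SIn
open Cfsg.Agent.Omega.OM.Lev.SIn.In (sim_one_iff)
open Cfsg.Agent.Omega.OM.Lev.SIn.Blk (mem_zp Z_inf_N VV_le_B relIndex_QQ)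
open Cfsg.Agent.Omega.OM.GLev
open Cfsg.Agent.Omega.LemmaK (WeakNormal)
open Cfsg.Agent.Omega.FFThm (SymKM)
open Cfsg.Agent.Omega.FrameFF (cv)
open scoped Pointwise commutatorElement

universe u w

section blk

variable {G : Type u} [Group G] {H T Q V J Z L : Subgroup G} {ι : Type w} {N : ι → Subgroup G} {d t r : ι → G} {i : ι}

theorem mv_iff (h : In H T Q V J Z N d t r) {l : G} : Mv (zpowers (d i)) l ↔ l * d i * l⁻¹ ≠ d i := by
  constructor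
  · rintro ⟨x, hx, hx'⟩ e
    apply hx'
    rcases mem_zp h hx with h1 | h1
    · rw [h1, mul_one, mul_inv_cancel]; exact one_mem _
    · rw [h1, e]; exact mem_zpowers _
  · intro hm
    refine ⟨d i, mem_zpowers _, fun h1 => ?_⟩
    rcases mem_zp h h1 with h2 | h2
    · apply h.d1 i
      calc d i = l⁻¹ * (l * d i * l⁻¹) * l := by group
        _ = 1 := by rw [h2]; group
    · exact hm h2

/-- `B` is a Sylow 2-subgroup of `L`. -/
theorem syl (h : In H T Q V J Z N d t r) [Finite G] (hz : zc (BB T Z) = Z) (hw : WeakNormal 2 (BB T Z))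
    (k : Blk H T V Z d r i L) {S : Subgroup G} (hBS : BB T Z ≤ S) (hSL : S ≤ L) (h2 : IsPGroup 2 S) :
    S = BB T Z := by
  refine le_antisymm (fun x hx => ?_) hBS
  have hxL := hSL hx
  have hxN : x ∈ normalizer (BB T Z : Set G) := hw S h2 hBS hx
  -- `x` fixes `d i`
  have hfix : x * d i * x⁻¹ = d i := by
    have h3 : x * d i * x⁻¹ ∈ Z := by
      have h4 := normalizer_le_of_cj (F := zc) (fun g B => LemmaK.Main.zc_cj g B) (BB T Z) hxN
      rw [hz] at h4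
      exact (mem_normalizer_iff.1 h4 _).1 (h.d_mem_Z i)
    rcases Z_inf_N h (k.L_N h hxL (h.dN i)) h3 with h5 | h5
    · exfalso
      apply h.d1 i
      calc d i = x⁻¹ * (x * d i * x⁻¹) * x := by group
        _ = 1 := by rw [h5]; group
    · exact h5
  obtain ⟨b, hb, hbx⟩ := h.PP_fix (k.LP hxL) hfix
  have hcP : b⁻¹ * x ∈ S := mul_mem (inv_mem (hBS hb)) hx
  have hcH : b⁻¹ * x ∈ H := mul_mem (inv_mem (h.bau_H hb)) (k.LH h hxL)
  have hcV : ∀ v ∈ V, b⁻¹ * x * v = v * (b⁻¹ * x) := by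
    refine sim_one_iff.1 ?_
    have := hbx.mul_left b⁻¹
    rwa [inv_mul_cancel] at this
  have hcQ : b⁻¹ * x ∈ Q := by
    obtain ⟨n, hn⟩ := h2 ⟨_, hcP⟩
    exact h.two _ hcH hcV ⟨n, by simpa using congrArg Subtype.val hn⟩
  have hcB : b⁻¹ * x ∈ BB T Z := k.inf_Q h (mul_mem (inv_mem (k.BL hb)) hxL) hcQ
  have h3 := mul_mem hb hcB
  rwa [mul_inv_cancel_left] at h3

/-- **The blocks for `q = 2`.** -/
theorem pb (h : In H T Q V J Z N d t r) [Finite G] (hz : zc (BB T Z) = Z) (hw : WeakNormal 2 (BB T Z))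
    (k : Blk H T V Z d r i L) : PB (BB T Z) L (N i) (zpowers (d i)) ⊥ 2 where
  Bp := h.Tp.to_le (BB_le T Z)
  BL := k.BL
  el := isElementaryAbelian_mono h.Velem (h.NV i)
  NB := le_sup_right.trans (VV_le_B h)
  Nn := fun l hl v hv => k.L_N h hl hv
  N1N := (zpowers_le).2 (h.dN i)
  N1c := fun b hb v hv => by
    have h1 : v ∈ Z := (zpowers_le.2 (h.d_mem_Z i)) hv
    exact ((mem_BB.1 hb).2 v h1).symm
  N01 := bot_le
  N0c := fun l _ v hv => by rw [mem_bot.1 hv, mul_one, one_mul]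
  card := by rw [h.cardN, Lev.SFr.card_zp h]
  card1 := by rw [Lev.SFr.card_zp h, Subgroup.card_bot]
  opp := by
    intro l hl hm v hv hlv
    rcases mem_zp h hv with h1 | h1
    · rw [h1, mul_one, mul_inv_cancel]; exact one_mem _
    · exfalso
      rw [h1] at hlv
      rcases mem_zp h hlv with h2 | h2
      · apply h.d1 i
        calc d i = l⁻¹ * (l * d i * l⁻¹) * l := by group
          _ = 1 := by rw [h2]; group
      · exact (mv_iff h).1 hm h2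
  quad := by
    intro b hb v hv
    rcases (h.EE_good (h.bau_EE hb)).actN i with h1 | h1
    · rw [h1 v hv, mul_inv_cancel]; exact one_mem _
    · rw [h1 v hv]
      rcases h.t_comm i v (h.NV i hv) with h2 | h2
      · rw [h2, mul_inv_cancel]; exact one_mem _
      · rw [h2, mul_inv_cancel_right]; exact mem_zpowers _
  cent := by
    intro b hb hne v hv h0
    have h1 : b * v * b⁻¹ = v := mul_inv_eq_one.1 (mem_bot.1 h0)
    have hbQ : b ∉ QQ T Z N i := by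
      intro hbQ
      obtain ⟨w, hw, hne⟩ := hne
      exact hne (mem_centralizer_iff.1 hbQ.2 w hw).symm
    rcases h.B_ne hb hbQ hv h1 with h2 | h2
    · rw [h2]; exact one_mem _
    · rw [h2]; exact mem_zpowers _
  cardB := by
    have h1 := relIndex_QQ (i := i) h
    have h2 : QQ T Z N i ≤ BB T Z := inf_le_left
    have h3 := relIndex_mul_relIndex (⊥ : Subgroup G) (QQ T Z N i) (BB T Z) bot_le h2
    rw [relIndex_bot_left, relIndex_bot_left, h1] at h3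
    exact h3.symm
  one := by norm_num
  mv := by
    obtain ⟨l, hl, hm⟩ := k.mv
    exact ⟨l, hl, (mv_iff h).2 hm⟩
  gen := fun l hl hm X hX hx => k.gen h hl ((mv_iff h).1 hm) hX hx
  act := fun l hl z hz' => Lev.SFr.zj_act k h hl (by rwa [hz] at hz')
  cor := fun l hl x hx hc => (k.L_QQ h hl (x := x)
    ⟨hx, mem_centralizer_iff.2 fun v hv => (hc v hv).symm⟩).1
  syl := fun S h1 h2 h3 => syl h hz hw k h1 h2 h3
  tor := by
    intro z hz hz0 z' hz' hz0'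
    refine ⟨1, one_mem _, one_mem _, ?_⟩
    have h1 := (mem_zp h hz).resolve_left fun e => hz0 (by rw [e]; exact one_mem _)
    have h2 := (mem_zp h hz').resolve_left fun e => hz0' (by rw [e]; exact one_mem _)
    rw [h1, h2, one_mul, inv_one, mul_one, mul_inv_cancel]
    exact one_mem _

end blk

section main

variable {G : Type u} [Group G] [Finite G] {T H X B ZJ : Subgroup G} {AA : Set (Subgroup G)} {k m : ℕ}

theorem T_norm_ZJ (h : GE T H X AA) (b : BZ T X AA B ZJ) : ∀ x ∈ T, ∀ z ∈ ZJ, x * z * x⁻¹ ∈ ZJ := by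
  intro x hx z hz
  have h1 : x ∈ normalizer (B : Set G) := b.wn T h.hm.syl.2.1 b.BT hx
  have h2 := normalizer_le_of_cj (F := zc) (fun g B => LemmaK.Main.zc_cj g B) B h1
  rw [b.zcB] at h2
  exact (mem_normalizer_iff.1 h2 z).1 hz

theorem T_norm_AA (h : GE T H X AA) : ∀ x ∈ T, ∀ y ∈ sSup AA, x * y * x⁻¹ ∈ sSup AA := by
  intro x hx y hy
  have h1 : sSup AA ≤ (sSup AA).comap (MulAut.conj x).toMonoidHom := by
    refine sSup_le fun A hA a ha => ?_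
    have h2 : cj x A ∈ AA := h.fam.conj A hA x (h.norm (h.TH hx)) (by
      rintro _ ⟨a, ha, rfl⟩
      exact mul_mem (mul_mem hx (h.fam.le A hA ha)) (inv_mem hx))
    exact (le_sSup h2 : cj x A ≤ sSup AA) ⟨a, ha, rfl⟩
  exact h1 hy

/-- `[Y0, ⟨AA⟩] ≤ V` -/
theorem Y0_sSup (h : GE T H X AA) : ∀ j ∈ sSup AA, ∀ y ∈ Y0 H X AA, j * y * j⁻¹ * y⁻¹ ∈ zl T H := by
  let S : Subgroup G :=
    { carrier := {j | j ∈ H ∧ ∀ y ∈ Y0 H X AA, j * y * j⁻¹ * y⁻¹ ∈ zl T H}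
      mul_mem' := by
        rintro a b ⟨ha, ha'⟩ ⟨hb, hb'⟩
        refine ⟨mul_mem ha hb, fun y hy => ?_⟩
        have e : a * b * y * (a * b)⁻¹ * y⁻¹ = (a * (b * y * b⁻¹ * y⁻¹) * a⁻¹) * (a * y * a⁻¹ * y⁻¹) := by group
        rw [e]
        exact mul_mem (SQ1.VOf.zl_norm a ha _ (hb' y hy)) (ha' y hy)
      one_mem' := ⟨one_mem _, fun y _ => by
        have e : (1 : G) * y * 1⁻¹ * y⁻¹ = 1 := by group
        rw [e]; exact one_mem _⟩
      inv_mem' := by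
        rintro a ⟨ha, ha'⟩
        refine ⟨inv_mem ha, fun y hy => ?_⟩
        have e : a⁻¹ * y * a⁻¹⁻¹ * y⁻¹ = a⁻¹ * (a * y * a⁻¹ * y⁻¹)⁻¹ * a⁻¹⁻¹ := by group
        rw [e]
        exact SQ1.VOf.zl_norm a⁻¹ (inv_mem ha) _ (inv_mem (ha' y hy)) }
  have h1 : sSup AA ≤ S := by
    refine sSup_le fun A hA a ha => ⟨h.TH (h.fam.le A hA ha), fun y hy => ?_⟩
    obtain ⟨v, hv, hvy⟩ := h.Y0_comm hA hy
    rw [hvy a ha]
    exact mul_mem (SQ1.VOf.zl_norm a (h.TH (h.fam.le A hA ha)) v hv) (inv_mem hv)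
  exact fun j hj => (h1 hj).2

/-- The Baumann input with `Z = Z_J` from the one without. -/
theorem in_of (h : GE T H X AA) (b : BZ T X AA B ZJ) {ι : Type} {N : ι → Subgroup G} {d t r : ι → G} (i : ι)
    (h0 : In0 H T (o2 H) (zl T H) (sSup AA) N d t r) : In H T (o2 H) (zl T H) (sSup AA) ZJ N d t r :=
  { h0 with
    ZT := by
      rw [← b.zcB]
      exact (zc_le B).trans b.BT
    Zcomm := fun x hx y hy => h.Xc x ((b.mem_ZJ x).1 hx).1 y ((b.mem_ZJ y).1 hy).1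
    Zsq := fun x hx => by
      have := elem_sq h.elem x ((b.mem_ZJ x).1 hx).1
      simpa [pow_two] using this
    JZ := fun z hz j hj => by
      have h1 : sSup AA ≤ centralizer ({z} : Set G) := by
        refine sSup_le fun A hA a ha => ?_
        rw [mem_centralizer_singleton_iff]
        exact ((b.mem_ZJ z).1 hz).2 A hA a ha
      exact mem_centralizer_singleton_iff.1 (h1 hj)
    Zn := T_norm_ZJ h b
    ZcV := fun z hz v hv => h.Xc z ((b.mem_ZJ z).1 hz).1 v (h.VX hv)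
    V1Z := fun v hv hc => (b.mem_ZJ v).2 ⟨h.VX hv, fun A hA a ha => hc a ((le_sSup hA : A ≤ sSup AA) ha)⟩
    Y_norm := h0.norm_of i (Y₀ := Y0 H X AA) (fun g hg y hy => (mem_normalizer_iff.1 (h.norm_Y0 hg) y).1 hy)
      (Y0_sSup h) (fun z hz => h.mem_Y0_of ((b.mem_ZJ z).1 hz).1 ((b.mem_ZJ z).1 hz).2) (T_norm_ZJ h b) }

/-- **The symmetric blocks of a general pair `(T, H)`.** -/
theorem exists_pb (h : GE T H X AA) (b : BZ T X AA B ZJ) (N : SymKM T H (zl T H) (cv T H) k m) (hk : 0 < k)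
    (hm : 1 ≤ m) (hex : ∃ A ∈ AA, ¬ A ≤ o2 H) :
    ∃ L N' N₁ D', B ≤ L ∧ L ≤ H ∧ PB B L N' N₁ D' 2 ∧ H ≤ T ⊔ L := by
  have h0 := Lev.Sym.syL_gen (Jg := sSup AA) h.hm hk hm N SQ1.FFOf.cv_le SQ1.FFOf.cv_norm h.fam.le
    (fun A hA hAQ => h.offM hA hAQ) hex (sSup_le h.fam.le) (T_norm_AA h) (fun A hA => le_sSup hA) le_sup_left
  obtain ⟨ι, J, U, Y, t, r, c⟩ := h0.exists_ch
  obtain ⟨j, x, y, hTr⟩ := h0.exists_tr
  obtain ⟨i, -⟩ := c.ex j x y hTr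
  have hin := in_of h b i (c.main h0 Cfsg.Agent.Omega.SQ1.SymCyc.exists_pow)
  obtain ⟨L, hL⟩ := hin.exists_blk i
  have hB : BB T ZJ = B := b.eqB.symm
  have hw : WeakNormal 2 (BB T ZJ) := by
    rw [hB]
    exact fun R hR hBR => b.wn R hR hBR
  have hpb := pb hin (by rw [hB]; exact b.zcB) hw hL
  rw [hB] at hpb
  exact ⟨L, _, _, _, hB ▸ hL.BL, hL.LH hin, hpb, hL.sup_T hin le_sup_left le_sup_right⟩

end main

end Cfsg.Agent.Omega.OM.GSym

end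

section


/-!
# (O1+) of #14539 at every level: minimal parabolics which move `Ω₁(Z(T))` are generated by `T` and blocks

`FBlk B L V` : `L` is an FF-block (`Uni.FB`) over `B` with module `V`, and a block of Lemma K.

* `FBlk.conj`, `fam`; `zc_B` : `Ω₁Z(B) = ZJ`;
* `bz_lev` : `BZ` at stage `n` for every 2-group `T ≥ B`;
* `SymBlk` : the symmetric type (statement), `symBlk` : it holds (helper668's `GSym.exists_pb`);
* `blkGen` : stage `n`: `LevD.BlkGen (lev S (n + 1)) ZJ (FBlk B) T H` for every minimal parabolic `H` of characteristic 2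
  over `T ≥ B` with `lev S n ≤ O₂(H)`.
-/

set_option autoImplicit false

namespace Cfsg.Agent.Omega.OM.LevB

open Subgroup Cfsg Cfsg.Agent.ZN.ChoiceBase Cfsg.Agent.ZN.ChoiceSit
open Cfsg.Agent.ZN (jj zj bau zc zl o2)
open Cfsg.Agent.MinSimple.MinParabolic (IsMinPar)
open Cfsg.Agent.Omega.LemmaK (Block WeakNormal)
open Cfsg.Agent.Omega.FFThm (NatKM SymKM OffM NoOverM)
open Cfsg.Agent.Omega.FrameFF (cv)
open Cfsg.Agent.Omega.OM.Uni (FB)
open Cfsg.Agent.Omega.OM.LevD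
open Cfsg.Agent.Omega.OM.GLev
open Cfsg.Agent.Omega.NO3S.Level
open scoped Pointwise commutatorElement

universe u

variable {G : Type u} [Group G]

/-- `L` is an FF-block over `B` with module `V`. -/
structure FBlk (B L V : Subgroup G) : Prop where
  fb : ∃ Z q, FB B L V Z q
  blk : Block 2 B L V

theorem FBlk.conj {B L V : Subgroup G} (h : FBlk B L V) {n : G} (hn : n ∈ normalizer (B : Set G)) :
    FBlk B (cj n L) (cj n V) := by
  obtain ⟨⟨Z, q, h1⟩, h2⟩ := h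
  have h3 := h1.conj n
  have h4 := BlkGen.block_conj h2 n
  rw [cj_eq_of_mem_normalizer hn] at h3 h4
  exact ⟨⟨_, _, h3⟩, h4⟩

/-- The family of all FF-blocks over `B`: it remains to know `ZJ ≤ ∏ V_L`. -/
theorem fam {B ZJ : Subgroup G}
    (h : ZJ ≤ ⨆ i : {x : Subgroup G × Subgroup G // FBlk B x.1 x.2}, i.1.2) : Fam B ZJ (FBlk B) where
  blk := fun _ _ h => h.blk
  conj := fun _ hn _ _ h => h.conj hn
  zj_le := h

variable [Finite G]

/-- `B` at the level `n` -/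
noncomputable def BL (S : Subgroup G) (n : ℕ) : Subgroup G := S ⊓ centralizer (zc (lev S n) : Set G)

theorem lb (S : Sylow 2 G) (n : ℕ) :
    LB S (lev (S : Subgroup G) n) (BL (S : Subgroup G) n) (zc (lev (S : Subgroup G) n)) := LB.lev S n

/-- `Ω₁Z(B) = ZJ` -/
theorem zc_B (S : Sylow 2 G) (n : ℕ) : zc (BL (S : Subgroup G) n) = zc (lev (S : Subgroup G) n) := by
  have hb := lb S n
  ext z
  constructor
  · intro hz
    obtain ⟨h1, h2, h3⟩ := mem_zc.1 hz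
    exact (lev_isLev (S : Subgroup G) n).mem_of_comm (hb.BS h1) h2 fun y hy => h3 y (hb.KB hy)
  · intro hz
    exact mem_zc.2 ⟨hb.ZB hz, hb.sq z hz, fun y hy => (mem_centralizer_iff.1 (hb.Bc hy) z hz).symm⟩

section

variable {T H : Subgroup G}

theorem nxt_lev (S : Sylow 2 G) {n : ℕ} (hT : IsPGroup 2 T) (hle : lev (S : Subgroup G) (n + 1) ≤ T) :
    nxt T (lev (S : Subgroup G) n) = lev (S : Subgroup G) (n + 1) := by
  have h1 := LevD.lev_eq S hT hle (n + 1) le_rfl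
  have h2 := LevD.lev_eq S hT hle n (Nat.le_succ n)
  have h3 : lev T (n + 1) = nxt T (lev T n) := rfl
  rw [h3, h2] at h1
  exact h1

theorem isLev_T (S : Sylow 2 G) {n : ℕ} (hT : IsPGroup 2 T) (hle : lev (S : Subgroup G) n ≤ T) :
    Lev T (lev (S : Subgroup G) n) := by
  have h1 := LevD.lev_eq S hT hle n le_rfl
  have h2 := lev_isLev T n
  rwa [h1] at h2

/-- `BZ` at stage `n` -/
theorem bz_lev (S : Sylow 2 G) {n : ℕ} (hT : IsPGroup 2 T) (hB : BL (S : Subgroup G) (n + 1) ≤ T) :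
    BZ T (zc (lev (S : Subgroup G) n)) (BO T (lev (S : Subgroup G) n)) (BL (S : Subgroup G) (n + 1))
      (zc (lev (S : Subgroup G) (n + 1))) := by
  have hb := lb S (n + 1)
  have hle := hb.KB.trans hB
  refine
    { mem_ZJ := fun z => ?_
      eqB := (hb.inf_eq hT hB).symm
      zcB := zc_B S (n + 1)
      wn := fun R hR hBR => hb.two_le hR hBR
      sylB := fun R hR hBR hRc => hb.syl.2.2 R hRc hR hBR }
  rw [← nxt_lev S hT hle]
  exact zc_nxt (isLev_T S hT ((lev_le_succ _ n).trans hle))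

/-- **The symmetric type** (statement): a block `L ≤ H` over `B` with `H = ⟨T, L⟩`. -/
def SymBlk : Prop :=
  ∀ (G : Type u) [Group G] [Finite G] (T H X B ZJ : Subgroup G) (AA : Set (Subgroup G)) (k m : ℕ),
    GE T H X AA → BZ T X AA B ZJ → 0 < k → 2 ≤ m → Nonempty (SymKM T H (zl T H) (cv T H) k m) →
      (∃ A ∈ AA, ¬ A ≤ o2 H) →
        ∃ (L N' N₁ D' : Subgroup G) (q : ℕ), B ≤ L ∧ L ≤ H ∧ PB B L N' N₁ D' q ∧ H ≤ T ⊔ L

theorem symBlk : SymBlk.{u} := by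
  intro G _ _ T H X B ZJ AA k m hge hbz hk hm hN hex
  obtain ⟨N⟩ := hN
  obtain ⟨L, N', N₁, D', hBL, hLH, hpb, hsup⟩ := GSym.exists_pb hge hbz N hk (by omega) hex
  exact ⟨L, N', N₁, D', 2, hBL, hLH, hpb, hsup⟩

/-- A block `L` over `B` with `H = ⟨T, L⟩`, both types. -/
theorem exists_fblk (S : Sylow 2 G) {n : ℕ} (hT : Syl T H)
    (hB : BL (S : Subgroup G) (n + 1) ≤ T) (hP : IsMinPar T H) (hc : H ⊓ centralizer (o2 H : Set G) ≤ o2 H)
    (hK : lev (S : Subgroup G) n ≤ o2 H) (hn : ¬ lev (S : Subgroup G) (n + 1) ≤ o2 H)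
    (hZ : ¬ H ≤ centralizer (zc T : Set G)) :
    ∃ L V : Subgroup G, L ≤ H ∧ FBlk (BL (S : Subgroup G) (n + 1)) L V ∧ H ≤ T ⊔ L := by
  have hb := lb S (n + 1)
  have hle := hb.KB.trans hB
  have hT2 := hT.2.1
  have hL := isLev_T S hT2 ((lev_le_succ _ n).trans hle)
  have hnx := nxt_lev S hT2 hle
  have hV : zl T H ≤ zc (lev (S : Subgroup G) n) :=
    (MinSimple.VModule.zl_le_zc hT.1 hT2 (syl_not_dvd hT) hc).trans (hL.zc_o2_le hK (o2_le_syl hT))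
  have hQC := BlkGen.inf_cent hT hP hZ
  obtain ⟨A, hA, hAQ⟩ : ∃ A ∈ BO T (lev (S : Subgroup G) n), ¬ A ≤ o2 H := by
    by_contra hcon
    push Not at hcon
    apply hn
    rw [← hnx]
    exact sup_le ((inf_le_inf_left _ (centralizer_le hV)).trans hQC) (sSup_le hcon)
  have hoff : OffM (zl T H) A := hA.2.offM hV fun h1 => hAQ ((le_inf hA.1 h1).trans hQC)
  obtain ⟨hno, hcon⟩ := FF.Glob.ffthmM G T H hT hP hc ⟨A, hA.1.trans hT.1, hoff⟩
  have hge := GE.of_lev hT hP hc hZ hL hK hno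
  have hbz := bz_lev S hT2 hB
  have hw := hb.weakNormal
  rcases hcon with ⟨F, _, _, _, k, hk, ⟨N⟩⟩ | ⟨k, m, hk, hm, hN⟩
  · obtain ⟨L, N', N₁, D', -, hLH, hpb, hsup⟩ := GNat.exists_pb hge hbz N hk ⟨A, hA, hAQ⟩
    exact ⟨L, _, hLH, ⟨⟨_, _, hpb.fb⟩, hpb.block hw⟩, hsup⟩
  · obtain ⟨L, N', N₁, D', q, -, hLH, hpb, hsup⟩ := symBlk G T H _ _ _ _ k m hge hbz hk hm hN ⟨A, hA, hAQ⟩
    exact ⟨L, _, hLH, ⟨⟨_, _, hpb.fb⟩, hpb.block hw⟩, hsup⟩

/-- **Minimal parabolics of stage `n` which move `Ω₁(Z(T))` are generated by `T` and an FF-block over `B`.** -/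
theorem blkGen (S : Sylow 2 G) {n : ℕ} (hT : Syl T H) (hB : BL (S : Subgroup G) (n + 1) ≤ T)
    (hP : IsMinPar T H) (hc : H ⊓ centralizer (o2 H : Set G) ≤ o2 H) (hK : lev (S : Subgroup G) n ≤ o2 H) :
    LevD.BlkGen (lev (S : Subgroup G) (n + 1)) (zc (lev (S : Subgroup G) (n + 1)))
      (FBlk (BL (S : Subgroup G) (n + 1))) T H := by
  intro hn hZ
  obtain ⟨L, V, -, hF, hsup⟩ := exists_fblk S hT hB hP hc hK hn hZ
  exact hsup.trans (sup_le le_sup_right (le_sup_of_le_left (LevD.blk_le_K0 hF)))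

/-- `LevD.gen` with the conclusion `Y ≤ M` for the minimal parabolics which move `Ω₁(Z(T))` as a hypothesis -/
theorem genM {S : Sylow 2 G} {K B ZJ : Subgroup G} {𝓑 : Subgroup G → Subgroup G → Prop} (hB : LB S K B ZJ)
    {M : Subgroup G} (hK : K0 ZJ 𝓑 ≤ M)
    (hN : normalizer (B : Set G) ≤ M) (hT : Syl T H) (hBT : B ≤ T)
    (hc : H ⊓ centralizer (o2 H : Set G) ≤ o2 H)
    (hfix : ∀ Y : Subgroup G, IsMinPar T Y → Y ≤ H → FixPt K T Y)
    (hblk : ∀ Y : Subgroup G, IsMinPar T Y → Y ≤ H → ¬ K ≤ o2 Y → ¬ Y ≤ centralizer (zc T : Set G) → Y ≤ M) :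
    H ≤ (H ⊓ M) ⊔ ⨆ Y : {Y : Subgroup G // IsMinPar T Y ∧ Y ≤ H ∧ ¬ K ≤ o2 Y ∧
      Y ≤ centralizer (zc T : Set G) ∧ ¬ o2 Y ≤ B}, (Y : Subgroup G) := by
  have hZM := norm_le_M hB hK hN
  have hTN : normalizer (T : Set G) ≤ M := (hB.nrm T hT.2.1 (hB.KB.trans hBT)).trans hZM
  have hTM : T ≤ M := le_normalizer.trans hTN
  have hD : centralizer (ZJ : Set G) ≤ M := cent_le_K0.trans hK
  refine MinSimple.MinParabolic.le_of_forall hT.1 ?_ fun Y hY hYH => ?_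
  · exact le_sup_of_le_left (inf_le_inf_left _ hTN)
  have hcase : Y ≤ M → Y ≤ (H ⊓ M) ⊔ ⨆ Y : {Y : Subgroup G // IsMinPar T Y ∧ Y ≤ H ∧ ¬ K ≤ o2 Y ∧
      Y ≤ centralizer (zc T : Set G) ∧ ¬ o2 Y ≤ B}, (Y : Subgroup G) :=
    fun h => le_sup_of_le_left (le_inf hYH h)
  have hTY : Syl T Y := ⟨hY.le, hT.2.1, fun Q hQ h2 hTQ => hT.2.2 Q (hQ.trans hYH) h2 hTQ⟩
  by_cases h1 : K ≤ o2 Y
  · exact hcase ((le_normalizer_o2 Y).trans ((hB.nrm _ (isPGroup_o2 Y) h1).trans hZM))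
  by_cases h2 : Y ≤ centralizer (zc T : Set G)
  · by_cases h3 : o2 Y ≤ B
    · apply hcase
      -- `Z_J ≤ Ω₁(Z(O₂(Y)))`
      have h4 : o2 H ≤ o2 Y := by
        refine le_o2 (isPGroup_o2 H) ((o2_le_syl hT).trans hY.le) (hYH.trans (le_normalizer_o2 H))
      have hcY : Y ⊓ centralizer (o2 Y : Set G) ≤ o2 Y := by
        rintro x ⟨hx, hxc⟩
        exact h4 (hc ⟨hYH hx, centralizer_le (by exact_mod_cast h4) hxc⟩)
      have h5 : ZJ ≤ zc (o2 Y) := by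
        intro z hz
        have hzT : z ∈ T := hBT (hB.ZB hz)
        have hcz : ∀ y ∈ o2 Y, y * z = z * y := fun y hy =>
          (mem_centralizer_iff.1 (hB.Bc (h3 hy)) z hz).symm
        exact mem_zc.2 ⟨hcY ⟨hY.le hzT, mem_centralizer_iff.2 hcz⟩, hB.sq z hz, hcz⟩
      have h6 := h5.trans (hfix Y hY hYH h1 h2)
      have h7 : MinSimple.VModule.oddGen Y ≤ M := (le_centralizer_iff.1 h6).trans hD
      have h8 : MinSimple.VModule.oddGen Y ⊔ T = Y := Dich.oddGen_sup_syl hTY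
      rw [← h8]
      exact sup_le h7 hTM
    · exact le_sup_of_le_right (le_iSup (fun Y : {Y : Subgroup G // IsMinPar T Y ∧ Y ≤ H ∧ ¬ K ≤ o2 Y ∧
        Y ≤ centralizer (zc T : Set G) ∧ ¬ o2 Y ≤ B} => (Y : Subgroup G))
        ⟨Y, hY, hYH, h1, h2, h3⟩)
  · exact hcase (hblk Y hY hYH h1 h2)

/-- **(O1+) at stage `n`** for the family of all FF-blocks over `B`: `H` is generated by `H ∩ M`, the minimal parabolics of
smaller stage over `T` which move `Ω₁(Z(T))`, and the minimal parabolics `Y` over `T` with `lev S (n + 1) ≰ O₂(Y)`,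
`[Ω₁(Z(T)), Y] = 1` and `O₂(Y) ≰ B`. -/
theorem gen {S : Sylow 2 G} {n : ℕ} {M : Subgroup G}
    (hK : K0 (zc (lev (S : Subgroup G) (n + 1))) (FBlk (BL (S : Subgroup G) (n + 1))) ≤ M)
    (hN : normalizer (BL (S : Subgroup G) (n + 1) : Set G) ≤ M)
    (hT : Syl T H) (hB : BL (S : Subgroup G) (n + 1) ≤ T) (hc : H ⊓ centralizer (o2 H : Set G) ≤ o2 H)
    (hlow : ∀ Y : Subgroup G, IsMinPar T Y → Y ≤ H → ¬ lev (S : Subgroup G) n ≤ o2 Y →
      ¬ Y ≤ centralizer (zc T : Set G) → Y ≤ M) :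
    H ≤ (H ⊓ M) ⊔ ⨆ Y : {Y : Subgroup G // IsMinPar T Y ∧ Y ≤ H ∧ ¬ lev (S : Subgroup G) (n + 1) ≤ o2 Y ∧
      Y ≤ centralizer (zc T : Set G) ∧ ¬ o2 Y ≤ BL (S : Subgroup G) (n + 1)}, (Y : Subgroup G) := by
  have hb := lb S (n + 1)
  have hle := hb.KB.trans hB
  have hTM : T ≤ M := (le_normalizer.trans (hb.nrm T hT.2.1 hle)).trans (LevD.norm_le_M hb hK hN)
  refine genM hb hK hN hT hB hc (fun Y hY hYH => LevD.fixPt S ⟨hY.le, hT.2.1, fun Q hQ h2 hTQ => hT.2.2 Q (hQ.trans hYH) h2 hTQ⟩ hle hY) fun Y hY hYH hnY hZ => ?_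
  by_cases hK' : lev (S : Subgroup G) n ≤ o2 Y
  · have hTY : Syl T Y := ⟨hY.le, hT.2.1, fun Q hQ h2 hTQ => hT.2.2 Q (hQ.trans hYH) h2 hTQ⟩
    have h4 : o2 H ≤ o2 Y :=
      le_o2 (isPGroup_o2 H) ((o2_le_syl hT).trans hY.le) (hYH.trans (le_normalizer_o2 H))
    have hcY : Y ⊓ centralizer (o2 Y : Set G) ≤ o2 Y := by
      rintro x ⟨hx, hxc⟩
      exact h4 (hc ⟨hYH hx, centralizer_le (by exact_mod_cast h4) hxc⟩)
    exact (blkGen S hTY hB hY hcY hK' hnY hZ).trans (sup_le hK hTM)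
  · exact hlow Y hY hYH hK' hZ

end

end Cfsg.Agent.Omega.OM.LevB

end

section


/-!
# THEOREM SW at the levels, STEP 0: pairs `(T, F)` inside every subgroup of characteristic 2 over `B` not contained
in `M`

`BM S n M` : minimal parabolics `Y` over a 2-group `T ≥ B` with `lev S (n+1) ≰ O₂(Y)`, `[Ω₁Z(T), Y] ≠ 1` lie in `M`.
-/

set_option autoImplicit false

namespace Cfsg.Agent.Omega.OM.SwapL

open Subgroup Cfsg Cfsg.Agent.ZN.ChoiceBase Cfsg.Agent.ZN.ChoiceSit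
open Cfsg.Agent.ZN (jj zj bau zc zl o2)
open Cfsg.Agent.MinSimple.MinParabolic (IsMinPar)
open Cfsg.Agent.MinSimple.VModule (oddGen oddGen_le)
open Cfsg.Agent.Omega.NO3S (HypN)
open Cfsg.Agent.Omega.NO3S.Level (lev Lev lev_isLev)
open Cfsg.Agent.Omega.OM.LevD (LB K0)

universe u

variable {G : Type u} [Group G] [Finite G]

/-- **(F1)** a conjugate of `B` inside `M` is a conjugate by an element of `M`. -/
theorem mem_of_cj_B_le (S : Sylow 2 G) {n : ℕ} {M : Subgroup G} (hSM : (S : Subgroup G) ≤ M)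
    (hN : normalizer (BL (S : Subgroup G) n : Set G) ≤ M) {g : G} (h : cj g (BL (S : Subgroup G) n) ≤ M) : g ∈ M := by
  have hS : Syl (S : Subgroup G) M := ⟨hSM, S.isPGroup', fun Q _ hQ hle => S.is_maximal' hQ hle⟩
  have h2 : IsPGroup 2 (cj g (BL (S : Subgroup G) n)) := isPGroup_cj g (lb S n).Bp
  obtain ⟨T, hT, hle⟩ := exists_syl h2 h
  obtain ⟨m, hm, rfl⟩ := syl_conj hS hT
  have h3 : cj (m⁻¹ * g) (BL (S : Subgroup G) n) ≤ (S : Subgroup G) := by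
    have := cj_mono m⁻¹ hle
    rwa [cj_inv_cj, cj_cj] at this
  have h4 := wc S n _ S.isPGroup' (lb S n).BS _ h3
  have h5 : m⁻¹ * g ∈ M := hN (mem_normalizer_iff_cj.2 h4)
  have h6 := mul_mem hm h5
  rwa [mul_inv_cancel_left] at h6

/-- The pairs `(T, F)` of STEP 0. -/
structure Pair (S : Sylow 2 G) (P : Subgroup G) (n : ℕ) (M T F : Subgroup G) : Prop where
  syl : Syl T F
  BT : BL (S : Subgroup G) n ≤ T
  nM : ¬ F ≤ M
  min : ∀ K : Subgroup G, T ≤ K → K < F → K ≤ M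
  VO : zl (S : Subgroup G) P ≤ o2 F
  fix : ZL (S : Subgroup G) n ⊓ centralizer (o2 F : Set G) ≤ centralizer (F : Set G)

/-- Minimal parabolics over `T ≥ B` which move `Ω₁Z(T)` lie in `M`: the blocks at stage `n` and LL. -/
def BM (S : Sylow 2 G) (n : ℕ) (M : Subgroup G) : Prop :=
  ∀ T Y : Subgroup G, Syl T Y → BL (S : Subgroup G) n ≤ T → IsMinPar T Y →
    Y ⊓ centralizer (o2 Y : Set G) ≤ o2 Y → ¬ lev (S : Subgroup G) (n + 1) ≤ o2 Y →
    ¬ Y ≤ centralizer (zc T : Set G) → Y ≤ M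

/-- `BM` for the minimal parabolics inside `H`. -/
def BMH (S : Sylow 2 G) (n : ℕ) (M H : Subgroup G) : Prop :=
  ∀ T Y : Subgroup G, Syl T Y → BL (S : Subgroup G) n ≤ T → IsMinPar T Y → Y ≤ H →
    Y ⊓ centralizer (o2 Y : Set G) ≤ o2 Y → ¬ lev (S : Subgroup G) (n + 1) ≤ o2 Y →
    ¬ Y ≤ centralizer (zc T : Set G) → Y ≤ M

section line

variable {ι : Type} [Finite ι] {S : Sylow 2 G} {P : Subgroup G} {n : ℕ} {L W Z C A : ι → Subgroup G} {q : ℕ}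

/-- a 2-group over `B` normalises `V`. -/
theorem two_norm (h : Ln S P n L W Z C A q) {T : Subgroup G} (hT : IsPGroup 2 T)
    (hB : BL (S : Subgroup G) n ≤ T) : T ≤ normalizer (zl (S : Subgroup G) P : Set G) :=
  ((lb S n).two_le hT hB).trans h.norm_le

omit [Finite ι] in
theorem V_le_B (h : Ln S P n L W Z C A q) : zl (S : Subgroup G) P ≤ BL (S : Subgroup G) n :=
  h.fr.VQ.trans h.fr.QB

/-- `V ≤ O₂(Y)` if `Y` centralises `Ω₁(Z(T))`, `B ≤ T ≤ Y`. -/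
theorem V_le_o2 (h : Ln S P n L W Z C A q) {T Y : Subgroup G} (hT : IsPGroup 2 T)
    (hB : BL (S : Subgroup G) n ≤ T) (hTY : T ≤ Y) (hY : Y ≤ centralizer (zc T : Set G)) :
    zl (S : Subgroup G) P ≤ o2 Y := by
  obtain ⟨S', hS'⟩ := hT.exists_le_sylow
  obtain ⟨g, hg⟩ := MulAction.exists_smul_eq G S S'
  have hg2 : (S' : Subgroup G) = cj g (S : Subgroup G) := by
    rw [← hg, Sylow.coe_subgroup_smul]
    rfl
  have hgN : g ∈ normalizer (BL (S : Subgroup G) n : Set G) := by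
    have h1 : cj g⁻¹ (BL (S : Subgroup G) n) ≤ (S : Subgroup G) := by
      have := cj_mono g⁻¹ ((hB.trans hS').trans hg2.le)
      rwa [cj_inv_cj] at this
    have h2 := wc S n _ S.isPGroup' (lb S n).BS _ h1
    have h3 := inv_mem (mem_normalizer_iff_cj.2 h2)
    rwa [inv_inv] at h3
  have h3 : zc (S' : Subgroup G) ≤ zc T := by
    intro z hz
    have h4 : z ∈ T := by
      rw [hg2, NO3S.Level.zc_cj] at hz
      have h5 : zc (S : Subgroup G) ≤ ZL (S : Subgroup G) n := (lev_isLev (S : Subgroup G) (n + 1)).zc_le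
      have h6 := cj_mono g h5 hz
      rw [cj_eq_of_mem_normalizer ((lb S n).norm_B_le hgN)] at h6
      exact hB ((lb S n).ZB h6)
    obtain ⟨h5, h6, h7⟩ := mem_zc.1 hz
    exact mem_zc.2 ⟨h4, h6, fun y hy => h7 y (hS' hy)⟩
  have h4 : Y ≤ centralizer (zc (S' : Subgroup G) : Set G) := hY.trans (centralizer_le h3)
  have h5 : zl (S : Subgroup G) P ≤ o2 (centralizer (zc (S' : Subgroup G) : Set G)) := by
    have h6 := cj_mono g (h.hyp.low P h.hyp.star)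
    rw [(h.norm hgN).1, ← pCore_cj, cj_centralizer, ← LemmaK.Main.zc_cj, ← hg2] at h6
    exact h6
  have h6 : zl (S : Subgroup G) P ≤ o2 (centralizer (zc (S' : Subgroup G) : Set G)) ⊓ Y :=
    le_inf h5 (((V_le_B h).trans hB).trans hTY)
  refine h6.trans (le_o2 ((isPGroup_o2 _).to_le inf_le_left) inf_le_right ?_)
  intro y hy
  rw [mem_normalizer_iff_cj, cj_inf, cj_eq_of_mem_normalizer (le_normalizer_o2 _ (h4 hy)),
    cj_eq_of_mem_normalizer (le_normalizer hy)]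

/-- **Existence of pairs**, blocks inside `H` only. -/
theorem exists_pairH (h : Ln S P n L W Z C A q) {M H : Subgroup G} (hBM : BMH S n M H)
    (hD : centralizer (ZL (S : Subgroup G) n : Set G) ≤ M) (hN : normalizer (BL (S : Subgroup G) n : Set G) ≤ M)
    (hB : BL (S : Subgroup G) n ≤ H) (hc : H ⊓ centralizer (o2 H : Set G) ≤ o2 H) (hM : ¬ H ≤ M) :
    ∃ T F : Subgroup G, Pair S P n M T F ∧ F ≤ H := by
  have : Fact (Nat.Prime 2) := ⟨Nat.prime_two⟩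
  obtain ⟨T₀, hT₀, hBT₀⟩ := exists_syl (lb S n).Bp hB
  have hK : K0 (ZL (S : Subgroup G) n) (fun _ _ => False) ≤ M := sup_le hD (iSup_le fun i => i.2.elim)
  have hsylY : ∀ Y : Subgroup G, IsMinPar T₀ Y → Y ≤ H → Syl T₀ Y := fun Y hY hYH =>
    ⟨hY.le, hT₀.2.1, fun Q hQ h2 hTQ => hT₀.2.2 Q (hQ.trans hYH) h2 hTQ⟩
  have hcY' : ∀ Y : Subgroup G, IsMinPar T₀ Y → Y ≤ H → Y ⊓ centralizer (o2 Y : Set G) ≤ o2 Y := by
    intro Y hY hYH
    have h4 : o2 H ≤ o2 Y :=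
      le_o2 (isPGroup_o2 H) ((o2_le_syl hT₀).trans hY.le) (hYH.trans (le_normalizer_o2 H))
    rintro x ⟨hx, hxc⟩
    exact h4 (hc ⟨hYH hx, centralizer_le (by exact_mod_cast h4) hxc⟩)
  have hKT : lev (S : Subgroup G) (n + 1) ≤ T₀ := (lb S n).KB.trans hBT₀
  have hfix : ∀ Y : Subgroup G, IsMinPar T₀ Y → Y ≤ H → LevD.FixPt (lev (S : Subgroup G) (n + 1)) T₀ Y :=
    fun Y hY hYH => LevD.fixPt S (hsylY Y hY hYH) hKT hY
  have hg := LevB.genM (lb S n) hK hN hT₀ hBT₀ hc hfix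
    fun Y hY hYH => hBM T₀ Y (hsylY Y hY hYH) hBT₀ hY hYH (hcY' Y hY hYH)
  -- the minimal parabolic `Y`
  obtain ⟨Y, ⟨hYm, hYH, hYK, hYc, -⟩, hYM⟩ : ∃ Y : Subgroup G, (IsMinPar T₀ Y ∧ Y ≤ H ∧
      ¬ lev (S : Subgroup G) (n + 1) ≤ o2 Y ∧
      Y ≤ centralizer (zc T₀ : Set G) ∧ ¬ o2 Y ≤ BL (S : Subgroup G) n) ∧ ¬ Y ≤ M := by
    by_contra hcon
    push Not at hcon
    exact hM (hg.trans (sup_le inf_le_right (iSup_le fun Y => hcon Y.1 Y.2)))
  have hTM : T₀ ≤ M := ((lb S n).two_le hT₀.2.1 hBT₀).trans hN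
  have hTY : Syl T₀ Y := hsylY Y hYm hYH
  have hcY := hcY' Y hYm hYH
  have hVY : zl (S : Subgroup G) P ≤ o2 Y := V_le_o2 h hT₀.2.1 hBT₀ hYm.le hYc
  -- `Y₁ = O²(Y) O₂(Y) B`
  set Y₁ : Subgroup G := oddGen Y ⊔ (o2 Y ⊔ BL (S : Subgroup G) n) with hY₁
  have hY₁Y : Y₁ ≤ Y := sup_le (oddGen_le Y) (sup_le (o2_le Y) (hBT₀.trans hYm.le))
  have hOB : IsPGroup 2 (o2 Y ⊔ BL (S : Subgroup G) n : Subgroup G) :=
    hT₀.2.1.to_le (sup_le (o2_le_syl hTY) hBT₀)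
  obtain ⟨T, hT, hOT⟩ := exists_syl hOB (le_sup_right : o2 Y ⊔ BL (S : Subgroup G) n ≤ Y₁)
  have hY₁M : ¬ Y₁ ≤ M := by
    intro hle
    apply hYM
    rw [← Dich.oddGen_sup_syl hTY]
    exact sup_le (le_sup_left.trans hle) hTM
  obtain ⟨F, hF⟩ := (Set.toFinite {K : Subgroup G | T ≤ K ∧ K ≤ Y₁ ∧ ¬ K ≤ M}).exists_minimal
    ⟨Y₁, hT.1, le_rfl, hY₁M⟩
  obtain ⟨hTF, hFY₁, hFM⟩ := hF.prop
  have hFY : F ≤ Y := hFY₁.trans hY₁Y
  have hsyl : Syl T F := ⟨hTF, hT.2.1, fun Q hQ h2 hle => hT.2.2 Q (hQ.trans hFY₁) h2 hle⟩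
  have hBT : BL (S : Subgroup G) n ≤ T := le_sup_right.trans hOT
  have hOF : o2 Y ≤ o2 F :=
    le_o2 (isPGroup_o2 Y) ((le_sup_left.trans hOT).trans hTF) (hFY.trans (le_normalizer_o2 Y))
  refine ⟨T, F, ⟨hsyl, hBT, hFM, fun K hTK hKF => ?_, hVY.trans hOF, ?_⟩, hFY.trans hYH⟩
  · by_contra hKM
    exact hKF.not_ge (hF.le_of_le ⟨hTK, hKF.le.trans hFY₁, hKM⟩ hKF.le)
  · rintro z ⟨hz, hzc⟩
    have hzB : z ∈ BL (S : Subgroup G) n := (lb S n).ZB hz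
    have hzO : ∀ y ∈ o2 Y, y * z = z * y := fun y hy => mem_centralizer_iff.1 hzc y (hOF hy)
    have hz1 : z ∈ zc (o2 Y) := by
      refine mem_zc.2 ⟨hcY ⟨hYm.le (hBT₀ hzB), mem_centralizer_iff.2 hzO⟩, (lb S n).sq z hz, hzO⟩
    have hz2 : z ∈ centralizer (oddGen Y : Set G) := hfix Y hYm hYH hYK hYc hz1
    have hle : Y₁ ≤ centralizer ({z} : Set G) := by
      refine sup_le (fun y hy => ?_) (sup_le (fun y hy => ?_) fun y hy => ?_) <;>
        rw [mem_centralizer_singleton_iff]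
      · exact mem_centralizer_iff.1 hz2 y hy
      · exact hzO y hy
      · exact (mem_centralizer_iff.1 ((lb S n).Bc hy) z hz).symm
    rw [mem_centralizer_iff]
    intro y hy
    exact mem_centralizer_singleton_iff.1 (hle (hFY₁ hy))

/-- **Existence of pairs.** -/
theorem exists_pair (h : Ln S P n L W Z C A q) {M H : Subgroup G} (hBM : BM S n M)
    (hD : centralizer (ZL (S : Subgroup G) n : Set G) ≤ M) (hN : normalizer (BL (S : Subgroup G) n : Set G) ≤ M)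
    (hB : BL (S : Subgroup G) n ≤ H) (hc : H ⊓ centralizer (o2 H : Set G) ≤ o2 H) (hM : ¬ H ≤ M) :
    ∃ T F : Subgroup G, Pair S P n M T F ∧ F ≤ H :=
  exists_pairH h (fun T Y hT hB' hY _ => hBM T Y hT hB' hY) hD hN hB hc hM

end line

/-! ### The stage of `F` -/

/-- The family of offenders of a pair: `𝒜(F)`, or the best offenders on `Ω₁Z(lev S s)`. -/
structure Stg (S : Sylow 2 G) (n : ℕ) (T F : Subgroup G) (s : ℕ) : Prop where
  le : s ≤ n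
  low : lev (S : Subgroup G) s ≤ o2 F
  nle : ¬ lev (S : Subgroup G) (s + 1) ≤ o2 F

section stage

variable {S : Sylow 2 G} {P : Subgroup G} {n : ℕ} {M T F : Subgroup G}

theorem Pair.nK (hp : Pair S P n M T F) (hZM : normalizer (ZL (S : Subgroup G) n : Set G) ≤ M) :
    ¬ lev (S : Subgroup G) (n + 1) ≤ o2 F := fun hle =>
  hp.nM ((le_normalizer_o2 F).trans (((lb S n).nrm _ (isPGroup_o2 F) hle).trans hZM))

theorem exists_stage (hp : Pair S P n M T F) (hZM : normalizer (ZL (S : Subgroup G) n : Set G) ≤ M) :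
    ¬ jj (S : Subgroup G) ≤ o2 F ∨ ∃ s, Stg S n T F s := by
  classical
  by_cases h0 : jj (S : Subgroup G) ≤ o2 F
  · right
    have hex : ∃ m, ¬ lev (S : Subgroup G) m ≤ o2 F := ⟨n + 1, hp.nK hZM⟩
    obtain ⟨m, hm, hmin⟩ : ∃ m, ¬ lev (S : Subgroup G) m ≤ o2 F ∧ ∀ k, k < m → lev (S : Subgroup G) k ≤ o2 F :=
      ⟨Nat.find hex, Nat.find_spec hex, fun k hk => by
        by_contra hcon
        exact Nat.find_min hex hk hcon⟩
    have hmn : m ≤ n + 1 := by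
      by_contra hcon
      exact hp.nK hZM (hmin (n + 1) (by omega))
    obtain ⟨s, rfl⟩ : ∃ s, m = s + 1 := by
      refine ⟨m - 1, ?_⟩
      have : m ≠ 0 := by
        rintro rfl
        exact hm h0
      omega
    exact ⟨s, by omega, hmin s (by omega), hm⟩
  · exact Or.inl h0

end stage

end Cfsg.Agent.Omega.OM.SwapL

end

section


/-!
# THEOREM SWQ (#21705), CASE I: (N) on `W j`, (TI), (H4); any `q`

`r` a set of indices, `U = ⟨W j : j ∈ r⟩`; `B, L j (j ∈ r) ≤ H`, `L j ≤ M`; (F1) a conjugate of `B` in `M` is a conjugate by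
an element of `M`; (N) `C_H(x) ≤ M` for `1 ≠ x ∈ Z j`, `j ∈ r`.

* `nW` : `C_H(x) ≤ M` for `1 ≠ x ∈ W j`, `j ∈ r`;
* `ti` : `f ∈ H`, `1 ≠ x ∈ W i ∩ U^f` (`i ∈ r`) implies `f ∈ M`;
* `h4` : `N_H(U) ≤ M`;
* `hNW`, `hTI`, `hH4` : the same over the ground frame `Ln S P n L W Z C A q`.
-/

set_option autoImplicit false

namespace Cfsg.Agent.Omega.OM.SWQ.TI

open Subgroup Cfsg Cfsg.Agent.ZN Cfsg.Agent.ZN.ChoiceBase
open Cfsg.Agent.Omega.OM.Lev.Uni (FrL)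
open Cfsg.Agent.Omega.OM.SwapL (Ln BL ZL)
open Cfsg.Agent.Omega.OM.SWQ.ModQ (trW conj_ZJ)

universe u

variable {G : Type u} [Group G] [Finite G]

section fr

variable {ι : Type*} [Finite ι] {B Q V X ZJ : Subgroup G} {L W Z C A : ι → Subgroup G} {q : ℕ}
  (h : FrL B Q V X ZJ L W Z C A q) {M H : Subgroup G} {r : Set ι}
include h

omit [Finite ι] in
/-- (N) on `W j`. -/
theorem nW (hLH : ∀ j ∈ r, L j ≤ H) (hLM : ∀ j ∈ r, L j ≤ M)
    (hNZ : ∀ j ∈ r, ∀ x ∈ Z j, x ≠ 1 → ∀ u ∈ H, u * x = x * u → u ∈ M) :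
    ∀ j ∈ r, ∀ x ∈ W j, x ≠ 1 → ∀ u ∈ H, u * x = x * u → u ∈ M := by
  intro j hj x hx hx1 u hu hux
  obtain ⟨l, hl, hlx⟩ := trW h hx
  have h1 : l * u * l⁻¹ ∈ M := by
    refine hNZ j hj _ hlx (fun e => hx1 ?_) _ (mul_mem (mul_mem (hLH j hj hl) hu) (inv_mem (hLH j hj hl))) ?_
    · exact conj_eq_one_iff.1 e
    · have e1 := congrArg (fun t => l * t * l⁻¹) hux
      have e2 : l * u * l⁻¹ * (l * x * l⁻¹) = l * (u * x) * l⁻¹ := by group
      have e3 : l * x * l⁻¹ * (l * u * l⁻¹) = l * (x * u) * l⁻¹ := by group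
      rw [e2, e3]
      exact e1
  have h2 := mul_mem (mul_mem (inv_mem (hLM j hj hl)) h1) (hLM j hj hl)
  have e : l⁻¹ * (l * u * l⁻¹) * l = u := by group
  rwa [e] at h2

/-- **(TI)** -/
theorem ti (hF1 : ∀ g : G, cj g B ≤ M → g ∈ M) (hBH : B ≤ H) (hLH : ∀ j ∈ r, L j ≤ H) (hLM : ∀ j ∈ r, L j ≤ M)
    (hNZ : ∀ j ∈ r, ∀ x ∈ Z j, x ≠ 1 → ∀ u ∈ H, u * x = x * u → u ∈ M) :
    ∀ i ∈ r, ∀ x ∈ W i, x ≠ 1 → ∀ f ∈ H, x ∈ cj f (⨆ j ∈ r, W j) → f ∈ M := by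
  intro i hi x hx hx1 f hf hxf
  rw [mem_cj] at hxf
  obtain ⟨m, hm, hmx'⟩ := conj_ZJ h r hxf
  have hmx : m * (f⁻¹ * x * f) * m⁻¹ ∈ ZJ := (iSup₂_le fun i _ => h.Z_le i : (⨆ i ∈ r, Z i) ≤ ZJ) hmx'
  have hmM : m ∈ M := (iSup₂_le fun i hi => hLM i hi : (⨆ i ∈ r, L i) ≤ M) hm
  have hmH : m ∈ H := (iSup₂_le fun i hi => hLH i hi : (⨆ i ∈ r, L i) ≤ H) hm
  have hg : f * m⁻¹ ∈ M := by
    refine hF1 _ ?_
    rintro _ ⟨b, hb, rfl⟩
    have hgH : f * m⁻¹ ∈ H := mul_mem hf (inv_mem hmH)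
    refine nW h hLH hLM hNZ i hi x hx hx1 _ (mul_mem (mul_mem hgH (hBH hb)) (inv_mem hgH)) ?_
    have h1 := ((h.mem_ZJ _).1 hmx).2 b hb
    change (f * m⁻¹) * b * (f * m⁻¹)⁻¹ * x = x * ((f * m⁻¹) * b * (f * m⁻¹)⁻¹)
    have h2 := congrArg (fun t => (f * m⁻¹) * t * (f * m⁻¹)⁻¹) h1
    have e1 : (f * m⁻¹) * (m * (f⁻¹ * x * f) * m⁻¹ * b) * (f * m⁻¹)⁻¹ =
      x * ((f * m⁻¹) * b * (f * m⁻¹)⁻¹) := by group
    have e2 : (f * m⁻¹) * (b * (m * (f⁻¹ * x * f) * m⁻¹)) * (f * m⁻¹)⁻¹ =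
      (f * m⁻¹) * b * (f * m⁻¹)⁻¹ * x := by group
    rw [← e1, ← e2]
    exact h2
  have h3 := mul_mem hg hmM
  have e : f * m⁻¹ * m = f := by group
  rwa [e] at h3

/-- **(H4)** -/
theorem h4 (hF1 : ∀ g : G, cj g B ≤ M → g ∈ M) (hBH : B ≤ H) (hLH : ∀ j ∈ r, L j ≤ H) (hLM : ∀ j ∈ r, L j ≤ M)
    (hNZ : ∀ j ∈ r, ∀ x ∈ Z j, x ≠ 1 → ∀ u ∈ H, u * x = x * u → u ∈ M) (hr : r.Nonempty) :
    H ⊓ normalizer ((⨆ j ∈ r, W j : Subgroup G) : Set G) ≤ M := by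
  rintro f ⟨hf, hfU⟩
  obtain ⟨i, hi⟩ := hr
  obtain ⟨b, hb, v, hv, hne⟩ := (h.blk i).ne
  have hv1 : v ≠ 1 := by
    rintro rfl
    exact hne (by simp)
  refine ti h hF1 hBH hLH hLM hNZ i hi v hv hv1 f hf ?_
  rw [mem_normalizer_iff_cj.1 hfU]
  exact (le_iSup₂_of_le i hi le_rfl : W i ≤ ⨆ j ∈ r, W j) hv

end fr

section line

variable {ι : Type} [Finite ι] {S : Sylow 2 G} {P : Subgroup G} {n : ℕ} {L W Z C A : ι → Subgroup G} {q : ℕ}
  (h : Ln S P n L W Z C A q) {M H : Subgroup G} {r : Set ι}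
include h

omit [Finite ι] in
/-- (N) on `W j`. -/
theorem hNW (hLH : ∀ j ∈ r, L j ≤ H) (hLM : ∀ j ∈ r, L j ≤ M)
    (hNZ : ∀ j ∈ r, ∀ x ∈ Z j, x ≠ 1 → ∀ u ∈ H, u * x = x * u → u ∈ M) :
    ∀ j ∈ r, ∀ x ∈ W j, x ≠ 1 → ∀ u ∈ H, u * x = x * u → u ∈ M :=
  nW h.fr hLH hLM hNZ

/-- **(TI)** -/
theorem hTI (hSM : (S : Subgroup G) ≤ M) (hN : normalizer (BL (S : Subgroup G) n : Set G) ≤ M)
    (hBH : BL (S : Subgroup G) n ≤ H) (hLH : ∀ j ∈ r, L j ≤ H) (hLM : ∀ j ∈ r, L j ≤ M)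
    (hNZ : ∀ j ∈ r, ∀ x ∈ Z j, x ≠ 1 → ∀ u ∈ H, u * x = x * u → u ∈ M) :
    ∀ i ∈ r, ∀ x ∈ W i, x ≠ 1 → ∀ f ∈ H, x ∈ cj f (⨆ j ∈ r, W j) → f ∈ M :=
  ti h.fr (fun _ hg => SwapL.mem_of_cj_B_le S hSM hN hg) hBH hLH hLM hNZ

/-- **(H4)** -/
theorem hH4 (hSM : (S : Subgroup G) ≤ M) (hN : normalizer (BL (S : Subgroup G) n : Set G) ≤ M)
    (hBH : BL (S : Subgroup G) n ≤ H) (hLH : ∀ j ∈ r, L j ≤ H) (hLM : ∀ j ∈ r, L j ≤ M)
    (hNZ : ∀ j ∈ r, ∀ x ∈ Z j, x ≠ 1 → ∀ u ∈ H, u * x = x * u → u ∈ M) (hr : r.Nonempty) :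
    H ⊓ normalizer ((⨆ j ∈ r, W j : Subgroup G) : Set G) ≤ M :=
  h4 h.fr (fun _ hg => SwapL.mem_of_cj_B_le S hSM hN hg) hBH hLH hLM hNZ hr

end line

end Cfsg.Agent.Omega.OM.SWQ.TI

end

section


/-!
# Every stage `-1, .., n - 1` as `GE`, `BZ`

`(T, H)` : `T` a Sylow 2-subgroup of the minimal parabolic `H`, `B = C_S(Ω₁Z(lev S j)) ≤ T`.

* `ge_neg`, `bz_neg` : stage `-1` (`J(S) ≰ O₂(H)`): `X = Ω₁Z(J(O₂(H)))`, the family is `𝒜(T)`, `ZJ = Ω₁Z(J(S))`;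
* `exists_ge` : `j` minimal with `lev S j ≰ O₂(H)`: `GE T H X AA`, `BZ T X AA (BL S j) (zc (lev S j))`, a member of `AA` not
  contained in `O₂(H)`, and the conclusion of the FF-module theorem.
-/

set_option autoImplicit false
set_option linter.unusedSectionVars false

namespace Cfsg.Agent.Omega.OM.Lev.Low

open Subgroup Cfsg Cfsg.Agent.ZN.ChoiceBase Cfsg.Agent.ZN.ChoiceSit
open Cfsg.Agent.ZN (jj zj bau zc zl o2)
open Cfsg.Agent.MinSimple.MinParabolic (IsMinPar)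
open Cfsg.Agent.Omega.FFThm (NatKM SymKM OffM NoOverM ElemM)
open Cfsg.Agent.Omega.FrameFF (cv)
open Cfsg.Agent.Omega.OM.LevB (BL lb zc_B nxt_lev isLev_T bz_lev)
open Cfsg.Agent.Omega.OM.GLev
open Cfsg.Agent.Omega.NO3S.Level (lev lev_mono lev_isLev Lev BO nxt lev_le_succ)
open Cfsg.Agent.Omega.NO3S.OneLine (BFam)
open Cfsg.Agent.Omega.SQ1.Bau (elem_comm elem_sq)
open Cfsg.Agent.PLocal.ElemAbSup Cfsg.Agent.PLocal.ThompsonJ

universe u

variable {G : Type u} [Group G] [Finite G]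

/-- `𝒜(T)` as a family of best offenders on `U ≤ T` -/
theorem bfam_AA {T U L : Subgroup G} (hU : IsElementaryAbelian 2 U) (hUT : U ≤ T) : BFam T U L (AA T) := by
  have h := NO3S.Level.bfam_AA (L := L) hU hUT
  exact ⟨h.le, h.elem, h.best, h.cut, h.conj⟩

theorem zc_jj (S : Subgroup G) : zc (jj S) = zj S := by
  ext x
  rw [mem_zc, mem_zj]

/-- an involution which commutes with `J(T)` lies in every member of `𝒜(T)` -/
theorem mem_of_AA {T A : Subgroup G} (hA : A ∈ AA T) {x : G} (hx : x ∈ T) (hx2 : x ^ 2 = 1)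
    (hc : ∀ y ∈ A, y * x = x * y) : x ∈ A := by
  have h1 : IsElementaryAbelian 2 (zpowers x) := by
    refine PLocal.OffenderStep.isElementaryAbelian_of_comm (fun a ha b hb => ?_) fun a ha => ?_
    · obtain ⟨m, rfl⟩ := mem_zpowers_iff.1 ha
      obtain ⟨n, rfl⟩ := mem_zpowers_iff.1 hb
      exact ((Commute.refl x).zpow_zpow m n).eq
    · obtain ⟨m, rfl⟩ := mem_zpowers_iff.1 ha
      rw [← zpow_natCast, zpow_comm, zpow_natCast, hx2, one_zpow]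
  have h2 : zpowers x ≤ centralizer (A : Set G) := by
    rw [zpowers_le]
    exact mem_centralizer_iff.2 hc
  have h3 : IsElementaryAbelian 2 (A ⊔ zpowers x : Subgroup G) := isElementaryAbelian_sup hA.1 h1 h2
  have h4 := hA.2.2 _ h3 (sup_le hA.2.1 (zpowers_le.2 hx))
  have h5 : A = A ⊔ zpowers x := Subgroup.eq_of_le_of_card_ge le_sup_left h4
  rw [h5]
  exact mem_sup_right (mem_zpowers x)

section neg

variable {T H : Subgroup G}

/-- a member of `𝒜(T)` inside `O₂(H)` -/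
theorem exists_low (hT : Syl T H) (hc : H ⊓ centralizer (o2 H : Set G) ≤ o2 H)
    (hQC : T ⊓ centralizer (zl T H : Set G) ≤ o2 H) (hno : NoOverM (zl T H) H)
    {A : Subgroup G} (hA : A ∈ AA T) : ∃ A₀ ∈ AA T, A₀ ≤ o2 H := by
  have hTH := hT.1
  have hV : zl T H ≤ zc (o2 H) := MinSimple.VModule.zl_le_zc hT.1 hT.2.1 (syl_not_dvd hT) hc
  have hVQ : zl T H ≤ o2 H := hV.trans (zc_le _)
  have hVel : IsElementaryAbelian 2 (zl T H) := isElementaryAbelian_mono (NO3S.OneLine.zc_elem _) hV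
  have hVc : ∀ x ∈ o2 H, ∀ v ∈ zl T H, x * v = v * x := fun x hx v hv => (mem_zc.1 (hV hv)).2.2 x hx
  have hAV : A ⊓ centralizer (zl T H : Set G) = A ⊓ o2 H := by
    apply le_antisymm
    · exact le_inf inf_le_left (le_trans (inf_le_inf_right _ hA.2.1) hQC)
    · exact inf_le_inf_left _ fun x hx => mem_centralizer_iff.2 fun v hv => (hVc x hx v hv).symm
  have hel : ElemM (zl T H) A := (bfam_AA (L := ⊤) hVel (hVQ.trans (o2_le_syl hT))).elem A hA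
  have h1 := hno A (hA.2.1.trans hTH) hel
  rw [hAV] at h1
  have hcom : (zl T H) ≤ centralizer ((A ⊓ o2 H : Subgroup G) : Set G) := fun v hv =>
    mem_centralizer_iff.2 fun a ha => hVc a ha.2 v hv
  have h2 := card_sup_mul_card_inf hcom
  have h3 : Nat.card ↥((A ⊓ o2 H) ⊓ zl T H) ≤ Nat.card ↥(zl T H ⊓ centralizer (A : Set G)) :=
    card_le_of_le fun x hx => ⟨hx.2, mem_centralizer_iff.2 fun a ha => elem_comm hA.1 a ha x hx.1.1⟩
  have h4 : Nat.card A ≤ Nat.card ↥((A ⊓ o2 H) ⊔ zl T H) := by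
    have hp : 0 < Nat.card ↥(zl T H ⊓ centralizer (A : Set G)) := Nat.card_pos
    refine Nat.le_of_mul_le_mul_right (c := Nat.card ↥(zl T H ⊓ centralizer (A : Set G))) ?_ hp
    calc Nat.card A * Nat.card ↥(zl T H ⊓ centralizer (A : Set G))
        ≤ Nat.card (zl T H) * Nat.card ↥(A ⊓ o2 H) := h1
      _ = Nat.card ↥((A ⊓ o2 H) ⊔ zl T H) * Nat.card ↥((A ⊓ o2 H) ⊓ zl T H) := by rw [h2]; ring
      _ ≤ _ := Nat.mul_le_mul_left _ h3
  have h5 : IsElementaryAbelian 2 ((A ⊓ o2 H) ⊔ zl T H : Subgroup G) :=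
    isElementaryAbelian_sup (isElementaryAbelian_mono hA.1 inf_le_left) hVel hcom
  refine ⟨_, ⟨h5, sup_le (inf_le_left.trans hA.2.1) (hVQ.trans (o2_le_syl hT)), fun D hD hDT =>
    (hA.2.2 D hD hDT).trans h4⟩, sup_le inf_le_right hVQ⟩

/-- `Ω₁Z(J(T)) ≤ Ω₁Z(J(O₂(H)))` -/
theorem zj_le_o2 (hT : Syl T H) {A₀ : Subgroup G} (hA₀ : A₀ ∈ AA T) (hA₀Q : A₀ ≤ o2 H) :
    zj T ≤ zj (o2 H) := by
  have hQT : o2 H ≤ T := o2_le_syl hT
  have hsub : ∀ A ∈ AA (o2 H), A ∈ AA T := fun A hA =>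
    ⟨hA.1, hA.2.1.trans hQT, fun D hD hDT => (hA₀.2.2 D hD hDT).trans (hA.2.2 A₀ hA₀.1 hA₀Q)⟩
  have hjj : jj (o2 H) ≤ jj T := by
    rw [jj_eq]
    exact sSup_le fun A hA => le_jj (hsub A hA)
  intro z hz
  obtain ⟨h1, h2, h3⟩ := mem_zj.1 hz
  have h4 : z ∈ A₀ := mem_of_AA hA₀ (jj_le T h1) h2 fun y hy => h3 y (le_jj hA₀ hy)
  have h5 : ∀ y ∈ jj (o2 H), y * z = z * y := fun y hy => h3 y (hjj hy)
  exact mem_zj.2 ⟨mem_jj_of_comm (hA₀Q h4) h2 h5, h2, h5⟩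

/-- `Ω₁Z(O₂(H)) ≤ Ω₁Z(J(O₂(H)))` -/
theorem zc_le_zj (Q : Subgroup G) : zc Q ≤ zj Q := by
  intro z hz
  obtain ⟨h1, h2, h3⟩ := mem_zc.1 hz
  have h4 : ∀ y ∈ jj Q, y * z = z * y := fun y hy => h3 y (jj_le Q hy)
  exact mem_zj.2 ⟨mem_jj_of_comm h1 h2 h4, h2, h4⟩

theorem zj_elem (Q : Subgroup G) : IsElementaryAbelian 2 (zj Q) :=
  PLocal.OffenderStep.isElementaryAbelian_of_comm
    (fun _ hx _ hy => (mem_zj.1 hy).2.2 _ (mem_zj.1 hx).1) fun _ hx => (mem_zj.1 hx).2.1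

theorem zjQ_le (Q : Subgroup G) : zj Q ≤ Q := fun _ hz => jj_le Q (mem_zj.1 hz).1

/-- **stage `-1` as `GE`** -/
theorem ge_neg (hT : Syl T H) (hP : IsMinPar T H) (hc : H ⊓ centralizer (o2 H : Set G) ≤ o2 H)
    (hZ : ¬ H ≤ centralizer (zc T : Set G)) (hno : NoOverM (zl T H) H) :
    GE T H (zj (o2 H)) (AA T) where
  hm := SQ1.FFOne.minH_of hT hP hc
  fam := bfam_AA (zj_elem _) ((zjQ_le _).trans (o2_le_syl hT))
  elem := zj_elem _
  norm := (le_normalizer_o2 H).trans (normalizer_le_of_cj (F := zj) zj_cj (o2 H))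
  VX := (MinSimple.VModule.zl_le_zc hT.1 hT.2.1 (syl_not_dvd hT) hc).trans (zc_le_zj _)
  QC := BlkGen.inf_cent hT hP hZ
  noOver := hno

/-- **stage `-1` as `BZ`** -/
theorem bz_neg (S : Sylow 2 G) (hT : IsPGroup 2 T) (hB : BL (S : Subgroup G) 0 ≤ T) {X : Subgroup G} (hXT : X ≤ T)
    (hX2 : ∀ x ∈ X, x ^ 2 = 1) (hZX : zj T ≤ X) :
    BZ T X (AA T) (BL (S : Subgroup G) 0) (zc (lev (S : Subgroup G) 0)) := by
  have hb := lb S 0
  have hle := hb.KB.trans hB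
  have hjj : jj T = jj (S : Subgroup G) := MinSimple.EmptyTI.jj_eq S hT hle
  have hzz : zc (lev (S : Subgroup G) 0) = zj T := by
    show zc (jj (S : Subgroup G)) = zj T
    rw [← hjj, zc_jj]
  refine
    { mem_ZJ := fun z => ?_
      eqB := (hb.inf_eq hT hB).symm
      zcB := zc_B S 0
      wn := fun R hR hBR => hb.two_le hR hBR
      sylB := fun R hR hBR hRc => hb.syl.2.2 R hRc hR hBR }
  rw [hzz]
  constructor
  · exact fun hz => ⟨hZX hz, fun A hA a ha => (mem_zj.1 hz).2.2 a (le_jj hA ha)⟩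
  · rintro ⟨hzX, hz⟩
    have h1 : ∀ y ∈ jj T, y * z = z * y := by
      have h2 : jj T ≤ centralizer {z} := by
        rw [jj_eq]
        refine sSup_le fun A hA a ha => ?_
        rw [mem_centralizer_singleton_iff]
        exact hz A hA a ha
      exact fun y hy => mem_centralizer_singleton_iff.1 (h2 hy)
    exact mem_zj.2 ⟨mem_jj_of_comm (hXT hzX) (hX2 z hzX) h1, hX2 z hzX, h1⟩

end neg

/-- The stage of `(T, H)` and the conclusion of the FF-module theorem, all stages. -/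
theorem exists_ge (S : Sylow 2 G) {T H : Subgroup G} {j : ℕ} (hT : Syl T H) (hB : BL (S : Subgroup G) j ≤ T)
    (hP : IsMinPar T H) (hc : H ⊓ centralizer (o2 H : Set G) ≤ o2 H)
    (hlow : ∀ i < j, lev (S : Subgroup G) i ≤ o2 H) (hn : ¬ lev (S : Subgroup G) j ≤ o2 H)
    (hZ : ¬ H ≤ centralizer (zc T : Set G)) :
    ∃ (X : Subgroup G) (AA' : Set (Subgroup G)), GE T H X AA' ∧
      BZ T X AA' (BL (S : Subgroup G) j) (zc (lev (S : Subgroup G) j)) ∧ (∃ A ∈ AA', ¬ A ≤ o2 H) ∧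
      ((∃ (F : Type) (_ : Field F) (_ : Finite F) (_ : CharP F 2) (k : ℕ), 0 < k ∧
          Nonempty (NatKM F T H (zl T H) (cv T H) k)) ∨
        ∃ k m : ℕ, 0 < k ∧ 2 ≤ m ∧ Nonempty (SymKM T H (zl T H) (cv T H) k m)) := by
  have hT2 := hT.2.1
  have hQC := BlkGen.inf_cent hT hP hZ
  have hVzc := MinSimple.VModule.zl_le_zc hT.1 hT2 (syl_not_dvd hT) hc
  have hb := lb S j
  have hle := hb.KB.trans hB
  cases j with
  | zero =>
    have hjj : jj T = jj (S : Subgroup G) := MinSimple.EmptyTI.jj_eq S hT2 hle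
    obtain ⟨A, hA, hAQ⟩ : ∃ A ∈ AA T, ¬ A ≤ o2 H := by
      by_contra hcon
      push Not at hcon
      apply hn
      show jj (S : Subgroup G) ≤ _
      rw [← hjj, jj_eq]
      exact sSup_le hcon
    have hVX : zl T H ≤ T := (hVzc.trans (zc_le _)).trans (o2_le_syl hT)
    have hVel : IsElementaryAbelian 2 (zl T H) := isElementaryAbelian_mono (NO3S.OneLine.zc_elem _) hVzc
    have hoff : OffM (zl T H) A :=
      { toElemM := (bfam_AA (L := ⊤) hVel hVX).elem A hA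
        ne := fun h1 => hAQ ((le_inf hA.2.1 h1).trans hQC)
        le := (bfam_AA (L := ⊤) hVel hVX).off (elem_comm hVel) le_rfl hA }
    obtain ⟨hno, hcon⟩ := FF.Glob.ffthmM G T H hT hP hc ⟨A, hA.2.1.trans hT.1, hoff⟩
    obtain ⟨A₀, hA₀, hA₀Q⟩ := exists_low hT hc hQC hno hA
    have hXT : zj (o2 H) ≤ T := (zjQ_le _).trans (o2_le_syl hT)
    exact ⟨_, _, ge_neg hT hP hc hZ hno,
      bz_neg S hT2 hB hXT (fun x hx => (mem_zj.1 hx).2.1) (zj_le_o2 hT hA₀ hA₀Q), ⟨A, hA, hAQ⟩, hcon⟩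
  | succ n =>
    have hK := hlow n (Nat.lt_succ_self n)
    have hL := isLev_T S hT2 ((lev_le_succ _ n).trans hle)
    have hnx := nxt_lev S hT2 hle
    have hV : zl T H ≤ zc (lev (S : Subgroup G) n) := hVzc.trans (hL.zc_o2_le hK (o2_le_syl hT))
    obtain ⟨A, hA, hAQ⟩ : ∃ A ∈ BO T (lev (S : Subgroup G) n), ¬ A ≤ o2 H := by
      by_contra hcon
      push Not at hcon
      apply hn
      rw [← hnx]
      exact sup_le ((inf_le_inf_left _ (centralizer_le hV)).trans hQC) (sSup_le hcon)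
    have hoff : OffM (zl T H) A := hA.2.offM hV fun h1 => hAQ ((le_inf hA.1 h1).trans hQC)
    obtain ⟨hno, hcon⟩ := FF.Glob.ffthmM G T H hT hP hc ⟨A, hA.1.trans hT.1, hoff⟩
    exact ⟨_, _, GE.of_lev hT hP hc hZ hL hK hno, bz_lev S hT2 hB, ⟨A, hA, hAQ⟩, hcon⟩

end Cfsg.Agent.Omega.OM.Lev.Low

end

section


/-!
# `T`-equivariant complements to `D` in the lines

`LD M B ZJ L j` : the hypotheses on `B`, `Z_J` and one block `L` for the `j`-th summand.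

* `LD.root_i` : `B` contains all root groups; `LD.cen_Li`;
* `Co M ZJ c` : `Li M i = c i × D`, the `c i` permuted by `T`;
* `LD.exists_co`.
-/

set_option autoImplicit false
set_option linter.unusedSectionVars false

namespace Cfsg.Agent.Omega.OM.Lev.Low

open Subgroup Cfsg Cfsg.Agent.ZN Cfsg.Agent.ZN.ChoiceBase Cfsg.Agent.ZN.ChoiceSit
open Cfsg.Agent.Omega.NatPair (ap ap_zero' ap_one' ap_one ap_mul ext2 ap_inv_ap ap_inj)
open Cfsg.Agent.Lib.SL2Mat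
open Cfsg.Agent.Omega.SQ1.FFOne (MinH)
open Cfsg.Agent.Omega.NO3S.OneLine (NatC single_acts)
open Cfsg.Agent.Omega.NO3S.OneLine.NatC (acts_mul acts_inv acts_one acts_unique)
open Cfsg.Agent.Omega.OM.Lev.Nat (Wn mem_Wn ap_z exists_up)
open Cfsg.Agent.Omega.OM.GNat (cent_N)
open Cfsg.Agent.Omega.FFThm (NatK ActsSL)
open Cfsg.Agent.Omega.SQ1.Bau (elem_comm elem_sq)

universe u

variable {G : Type u} [Group G] [Finite G] {F : Type} [Field F] {T H V D : Subgroup G} {k : ℕ}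

/-- The hypotheses on `B`, `Z_J` and one block `L` for the `j`-th summand. -/
structure LD (M : NatC F T H V D k) (B ZJ L : Subgroup G) (j : Fin k) : Prop where
  hm : MinH H T
  BT : B ≤ T
  TB : T ≤ normalizer (B : Set G)
  TZ : T ≤ normalizer (ZJ : Set G)
  el : IsElementaryAbelian 2 ZJ
  cB : ∀ b ∈ B, ∀ z ∈ ZJ, b * z = z * b
  mem : ∀ v ∈ V, v ∈ ZJ ↔ ∀ i, M.nat.e v i 1 = 0
  root : ∀ c : F, ∃ b ∈ B, Ons M j b (up c)
  BL : B ≤ L
  LH : L ≤ H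
  cD : ∀ l ∈ L, ∀ d ∈ D, l * d = d * l
  cov : ∀ A, ∃ l ∈ L, Ons M j l A
  LW : ∀ l ∈ L, ∀ m, m ≠ j → ∀ v ∈ Li M m, l * v = v * l
  split : ∀ z ∈ ZJ, ∃ c ∈ ZJ, (∀ l ∈ L, l * c = c * l) ∧ ∃ n ∈ Li M j, z = c * n

/-- `T`-equivariant complements to `D` in the lines. -/
structure Co (M : NatC F T H V D k) (c : Fin k → Subgroup G) : Prop where
  le : ∀ i, c i ≤ Li M i
  dis : ∀ i, ∀ v ∈ c i, v ∈ D → v = 1
  cov : ∀ i, ∀ v ∈ Li M i, ∃ a ∈ c i, ∃ d ∈ D, v = a * d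
  conj : ∀ t ∈ T, ∀ i m, MvI M t i m → cj t (c i) = c m

variable {M : NatC F T H V D k} {B ZJ L : Subgroup G} {j : Fin k}

namespace LD

variable (h : LD M B ZJ L j)
include h

theorem TH : T ≤ H := h.hm.syl.1

theorem LiZ (i : Fin k) : Li M i ≤ ZJ := fun v hv => (h.mem v hv.1).2 fun m => by
  by_cases hm : m = i
  · subst hm; exact hv.2.2
  · rw [hv.2.1 m hm]; rfl

theorem DZ : D ≤ ZJ := (D_le_Li j).trans (h.LiZ j)

/-- **`B` contains all root groups** -/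
theorem root_i [CharP F 2] (i : Fin k) (c : F) : ∃ b ∈ B, Ons M i b (up c) := by
  classical
  obtain ⟨u, hu, hu1⟩ := M.nat.unip (Pi.single i c)
  rw [single_acts] at hu1
  have hU : Ons M i u (up c) := ⟨h.TH hu, hu1⟩
  obtain ⟨t, ht, htr⟩ := M.nat.trans i j
  have hmv : MvI M t i j := htr
  obtain ⟨A', hA'⟩ := hU.conj (h.TH ht) hmv
  obtain ⟨e1, e2⟩ := hU.line_triv h.TH ht hmv hA'
  have h10 : ent A' 1 0 = 0 := e1.1 (up_10 c)
  have h00 : ent A' 0 0 = 1 := (e2 (up_10 c)).1 (up_00 c)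
  have hup : A' = up (ent A' 0 1) := by
    have h11 := det_eq A'
    rw [h10, h00, mul_zero, sub_zero, one_mul] at h11
    exact ext_ent (by rw [up_00, h00]) (by rw [up_01]) (by rw [up_10, h10]) (by rw [up_11, h11])
  obtain ⟨b, hb, hbA⟩ := h.root (ent A' 0 1)
  rw [← hup] at hbA
  have hti := inv_mem (h.TH ht)
  have hbB : t⁻¹ * b * t ∈ B := by
    have := (mem_normalizer_iff.1 (inv_mem (h.TB ht)) b).1 hb
    rwa [inv_inv] at this
  have key : ∀ v ∈ V, t⁻¹ * b * t * v * (t⁻¹ * b * t)⁻¹ = u * v * u⁻¹ := by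
    intro v hv
    have h3 := hbA.same h.hm hA' (M.Vn t (h.TH ht) v hv)
    calc t⁻¹ * b * t * v * (t⁻¹ * b * t)⁻¹ = t⁻¹ * (b * (t * v * t⁻¹) * b⁻¹) * t := by group
      _ = t⁻¹ * (t * u * t⁻¹ * (t * v * t⁻¹) * (t * u * t⁻¹)⁻¹) * t := by rw [h3]
      _ = _ := by group
  refine ⟨_, hbB, Ons.of (h.TH (h.BT hbB)) (fun v hv => ?_) (fun v hv m hm => ?_) fun d hd => h.cB _ hbB d (h.DZ hd)⟩
  · rw [key v hv, hU.e_i hv]
  · rw [key v hv, hU.e_m hv hm]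

/-- unipotent elements centralise the preimage of the line -/
theorem cen_Li [CharP F 2] {i : Fin k} {g : G} {A : Matrix.SpecialLinearGroup (Fin 2) F} (hg : Ons M i g A)
    (h10 : ent A 1 0 = 0) (h00 : ent A 0 0 = 1) {v : G} (hv : v ∈ Li M i) : g * v * g⁻¹ = v := by
  have hup : A = up (ent A 0 1) := by
    have h11 := det_eq A
    rw [h10, h00, mul_zero, sub_zero, one_mul] at h11
    exact ext_ent (by rw [up_00, h00]) (by rw [up_01]) (by rw [up_10, h10]) (by rw [up_11, h11])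
  obtain ⟨b, hb, hbA⟩ := h.root_i i (ent A 0 1)
  rw [← hup] at hbA
  rw [hg.same h.hm hbA hv.1, h.cB b hb v (h.LiZ i hv)]
  group

end LD

/-! ### The torus -/

/-- `l` acts as a torus element on the `i`-th line -/
def Tor (M : NatC F T H V D k) (i : Fin k) (l : G) : Prop := ∃ A, Ons M i l A ∧ ent A 1 0 = 0 ∧ ent A 0 0 ≠ 1

theorem inv_tri {A : Matrix.SpecialLinearGroup (Fin 2) F} (h : ent A 1 0 = 0) : ent A⁻¹ 1 0 = 0 := by
  rw [ent_inv A, mk_10, h, neg_zero]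

theorem inv_00 (A : Matrix.SpecialLinearGroup (Fin 2) F) : ent A⁻¹ 0 0 = ent A 1 1 := by
  rw [ent_inv A, mk_00]

theorem mul_tri {A B : Matrix.SpecialLinearGroup (Fin 2) F} (h : ent A 1 0 = 0) (h' : ent B 1 0 = 0) :
    ent (A * B) 1 0 = 0 ∧ ent (A * B) 0 0 = ent A 0 0 * ent B 0 0 := by
  rw [ent_mul, ent_mul, h, h']
  constructor <;> ring

theorem tri_det {A : Matrix.SpecialLinearGroup (Fin 2) F} (h : ent A 1 0 = 0) : ent A 0 0 * ent A 1 1 = 1 := by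
  have h1 := det_eq A
  rwa [h, mul_zero, sub_zero] at h1

/-- a triangular element acts on the line -/
theorem Ons.Li {i : Fin k} {l : G} {A : Matrix.SpecialLinearGroup (Fin 2) F} (hl : Ons M i l A) (h0 : ent A 1 0 = 0)
    {v : G} (hv : v ∈ Li M i) : l * v * l⁻¹ ∈ Low.Li M i ∧ M.nat.e (l * v * l⁻¹) i 0 = ent A 0 0 * M.nat.e v i 0 := by
  refine ⟨⟨M.Vn l hl.1 v hv.1, fun m hm => by rw [hl.e_m hv.1 hm, hv.2.1 m hm], ?_⟩, ?_⟩
  · rw [hl.e_i hv.1, ap_one', h0, hv.2.2]; simp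
  · rw [hl.e_i hv.1, ap_zero', hv.2.2]; simp

/-- `[Li, l]` -/
def Cl (M : NatC F T H V D k) (i : Fin k) (l : G) (hl : l ∈ H) : Subgroup G where
  carrier := {x | ∃ v ∈ Li M i, x = l * v * l⁻¹ * v⁻¹}
  mul_mem' := by
    rintro _ _ ⟨v, hv, rfl⟩ ⟨w, hw, rfl⟩
    refine ⟨v * w, mul_mem hv hw, ?_⟩
    have hlw : l * w * l⁻¹ ∈ V := M.Vn l hl w hw.1
    have e1 := M.Vcomm (mul_mem hlw (inv_mem hw.1)) (inv_mem hv.1)
    calc l * v * l⁻¹ * v⁻¹ * (l * w * l⁻¹ * w⁻¹) = l * v * l⁻¹ * (v⁻¹ * (l * w * l⁻¹ * w⁻¹)) := by group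
      _ = l * v * l⁻¹ * (l * w * l⁻¹ * w⁻¹ * v⁻¹) := by rw [e1]
      _ = _ := by group
  one_mem' := ⟨1, one_mem _, by group⟩
  inv_mem' := by
    rintro _ ⟨v, hv, rfl⟩
    refine ⟨v⁻¹, inv_mem hv, ?_⟩
    have hlv : l * v⁻¹ * l⁻¹ ∈ V := M.Vn l hl _ (inv_mem hv.1)
    have e1 := M.Vcomm hlv hv.1
    calc (l * v * l⁻¹ * v⁻¹)⁻¹ = v * (l * v⁻¹ * l⁻¹) := by group
      _ = l * v⁻¹ * l⁻¹ * v := e1.symm
      _ = _ := by group

theorem mem_Cl {i : Fin k} {l : G} {hl : l ∈ H} {x : G} : x ∈ Cl M i l hl ↔ ∃ v ∈ Li M i, x = l * v * l⁻¹ * v⁻¹ := Iff.rfl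

namespace Tor

variable {i : Fin k} {l l' : G}

theorem memH (h : Tor M i l) : l ∈ H := by
  obtain ⟨A, hA, -⟩ := h
  exact hA.1

theorem Li (h : Tor M i l) {v : G} (hv : v ∈ Li M i) : l * v * l⁻¹ ∈ Low.Li M i := by
  obtain ⟨A, hA, h0, -⟩ := h
  exact (hA.Li h0 hv).1

theorem Cl_le (h : Tor M i l) : Cl M i l h.memH ≤ Low.Li M i := by
  rintro _ ⟨v, hv, rfl⟩
  exact mul_mem (h.Li hv) (inv_mem hv)

/-- a vector of the line fixed by `l` modulo `D` lies in `D` -/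
theorem fix (h : Tor M i l) {v : G} (hv : v ∈ Low.Li M i) (hf : l * v * l⁻¹ * v⁻¹ ∈ D) : v ∈ D := by
  obtain ⟨A, hA, h0, h1⟩ := h
  obtain ⟨h2, h3⟩ := hA.Li h0 hv
  have h4 := D_e (M := M) hf
  rw [M.map_div h2.1 hv.1, sub_eq_zero] at h4
  rw [h4] at h3
  refine Li_D hv ?_
  by_contra hne
  apply h1
  have h5 : (ent A 0 0 - 1) * M.nat.e v i 0 = 0 := by rw [sub_mul, one_mul, ← h3, sub_self]
  rcases mul_eq_zero.1 h5 with h6 | h6
  · exact sub_eq_zero.1 h6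
  · exact absurd h6 hne

theorem dis (h : Tor M i l) {x : G} (hx : x ∈ Cl M i l h.memH) (hD : x ∈ D) : x = 1 := by
  obtain ⟨v, hv, rfl⟩ := hx
  have h1 := h.fix hv hD
  obtain ⟨A, hA, -⟩ := h
  rw [hA.2.2 v h1]; group

theorem cov (h : Tor M i l) {v : G} (hv : v ∈ Low.Li M i) : ∃ a ∈ Cl M i l h.memH, ∃ d ∈ D, v = a * d := by
  obtain ⟨A, hA, h0, h1⟩ := id h
  obtain ⟨w, hw, e⟩ := exists_line M i ((ent A 0 0 - 1)⁻¹ * M.nat.e v i 0)
  obtain ⟨h2, h3⟩ := hA.Li h0 hw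
  have ha : l * w * l⁻¹ * w⁻¹ ∈ Low.Li M i := mul_mem h2 (inv_mem hw)
  refine ⟨_, ⟨w, hw, rfl⟩, (l * w * l⁻¹ * w⁻¹)⁻¹ * v, Li_D (mul_mem (inv_mem ha) hv) ?_, by group⟩
  rw [M.nat.mul _ (inv_mem ha.1) _ hv.1, Pi.add_apply, Pi.add_apply, M.map_inv ha.1, Pi.neg_apply, Pi.neg_apply,
    M.map_div h2.1 hw.1, Pi.sub_apply, Pi.sub_apply, h3, e]
  have h4 : ent A 0 0 - 1 ≠ 0 := sub_ne_zero.2 h1
  field_simp
  ring

variable {B ZJ L : Subgroup G} {j : Fin k}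

/-- torus elements commute on the line -/
theorem comm [CharP F 2] (hL : LD M B ZJ L j) (h : Tor M i l) (h' : Tor M i l') {v : G} (hv : v ∈ Low.Li M i) :
    l * (l' * v * l'⁻¹) * l⁻¹ = l' * (l * v * l⁻¹) * l'⁻¹ := by
  obtain ⟨A, hA, h0, h1⟩ := h
  obtain ⟨A', hA', h0', h1'⟩ := h'
  have hg := (hA'.mul hA).inv.mul (hA.mul hA')
  obtain ⟨t1, t2⟩ := mul_tri h0' h0
  obtain ⟨t3, t4⟩ := mul_tri h0 h0'
  obtain ⟨t5, t6⟩ := mul_tri (inv_tri t1) t3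
  have h00 : ent ((A' * A)⁻¹ * (A * A')) 0 0 = 1 := by
    rw [t6, inv_00, t4, mul_comm (ent A 0 0), ← t2, mul_comm]
    exact tri_det t1
  have h2 := hL.cen_Li hg t5 h00 hv
  have h3 := congrArg (fun x => l' * l * x * (l' * l)⁻¹) h2
  have e1 : l' * l * ((l' * l)⁻¹ * (l * l') * v * ((l' * l)⁻¹ * (l * l'))⁻¹) * (l' * l)⁻¹ =
      l * (l' * v * l'⁻¹) * l⁻¹ := by group
  have e2 : l' * l * v * (l' * l)⁻¹ = l' * (l * v * l⁻¹) * l'⁻¹ := by group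
  rw [← e1, ← e2]
  exact h3

theorem Cl_le_Cl [CharP F 2] (hL : LD M B ZJ L j) (h : Tor M i l) (h' : Tor M i l') :
    Cl M i l h.memH ≤ Cl M i l' h'.memH := by
  -- `l'` acts on `[Li, l]`
  have hn : ∀ x ∈ Cl M i l h.memH, l' * x * l'⁻¹ ∈ Cl M i l h.memH := by
    rintro _ ⟨v, hv, rfl⟩
    refine ⟨l' * v * l'⁻¹, h'.Li hv, ?_⟩
    have e : l' * (l * v * l⁻¹ * v⁻¹) * l'⁻¹ = l' * (l * v * l⁻¹) * l'⁻¹ * (l' * v * l'⁻¹)⁻¹ := by group
    rw [e, ← h.comm hL h' hv]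
  let f : ↥(Cl M i l h.memH) → ↥(Cl M i l h.memH) := fun x =>
    ⟨l' * x * l'⁻¹ * (x : G)⁻¹, mul_mem (hn x x.2) (inv_mem x.2)⟩
  have hinj : Function.Injective f := by
    rintro ⟨x, hx⟩ ⟨y, hy⟩ hxy
    have h1 : l' * x * l'⁻¹ * x⁻¹ = l' * y * l'⁻¹ * y⁻¹ := congrArg Subtype.val hxy
    have hxL := h.Cl_le hx
    have hyL := h.Cl_le hy
    have h2 : y⁻¹ * x ∈ Cl M i l h.memH := mul_mem (inv_mem hy) hx
    have h3 : y⁻¹ * x ∈ D := by
      refine h'.fix (h.Cl_le h2) ?_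
      have c1 := M.Vcomm (M.Vn l' h'.memH x hxL.1) (inv_mem hxL.1)
      have c2 := M.Vcomm (M.Vn l' h'.memH y hyL.1) (inv_mem hyL.1)
      have h4 : l' * (y⁻¹ * x) * l'⁻¹ * (y⁻¹ * x)⁻¹ = 1 := by
        calc l' * (y⁻¹ * x) * l'⁻¹ * (y⁻¹ * x)⁻¹ = (l' * y * l'⁻¹)⁻¹ * (l' * x * l'⁻¹ * x⁻¹) * y := by group
          _ = (l' * y * l'⁻¹)⁻¹ * (l' * y * l'⁻¹ * y⁻¹) * y := by rw [h1]
          _ = 1 := by group
      rw [h4]; exact one_mem _
    have h5 := h.dis h2 h3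
    exact Subtype.ext (inv_mul_eq_one.1 h5).symm
  intro x hx
  obtain ⟨⟨y, hy⟩, e⟩ := (Finite.injective_iff_surjective.1 hinj) ⟨x, hx⟩
  exact ⟨y, h.Cl_le hy, (congrArg Subtype.val e).symm⟩

end Tor

namespace LD

variable {B ZJ L : Subgroup G} {j : Fin k} (h : LD M B ZJ L j)
include h

/-- `F ≠ F₂`: complements from the torus -/
theorem co_tor [CharP F 2] {a : F} (ha0 : a ≠ 0) (ha1 : a ≠ 1) :
    Co M fun i => ⨆ (l : G) (hl : Tor M i l), Cl M i l hl.memH := by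
  classical
  have hex : ∀ i, ∃ l, Tor M i l := by
    intro i
    obtain ⟨l, hl, hl1⟩ := M.nat.lift (Pi.mulSingle i (dg a ha0))
    exact ⟨l, dg a ha0, ⟨hl, hl1⟩, by simp, by simpa using ha1⟩
  have heq : ∀ i l (hl : Tor M i l), (⨆ (l : G) (hl : Tor M i l), Cl M i l hl.memH) = Cl M i l hl.memH := by
    intro i l hl
    apply le_antisymm
    · exact iSup_le fun l' => iSup_le fun hl' => hl'.Cl_le_Cl h hl
    · exact le_iSup_of_le l (le_iSup_of_le hl le_rfl)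
  refine ⟨fun i => ?_, fun i v hv hD => ?_, fun i v hv => ?_, fun t ht i m hm => ?_⟩
  · obtain ⟨l, hl⟩ := hex i
    rw [heq i l hl]
    exact hl.Cl_le
  · obtain ⟨l, hl⟩ := hex i
    rw [heq i l hl] at hv
    exact hl.dis hv hD
  · obtain ⟨l, hl⟩ := hex i
    rw [heq i l hl]
    exact hl.cov hv
  · have key : ∀ t ∈ T, ∀ i m, MvI M t i m → cj t (⨆ (l : G) (hl : Tor M i l), Cl M i l hl.memH) ≤
        ⨆ (l : G) (hl : Tor M m l), Cl M m l hl.memH := by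
      intro t ht i m hm
      obtain ⟨l, hl⟩ := hex i
      obtain ⟨A, hA, h0, h1⟩ := id hl
      obtain ⟨A', hA'⟩ := hA.conj (h.TH ht) hm
      obtain ⟨e1, e2⟩ := hA.line_triv h.TH ht hm hA'
      have hl' : Tor M m (t * l * t⁻¹) := ⟨A', hA', e1.1 h0, fun e => h1 ((e2 h0).2 e)⟩
      rw [heq i l hl, heq m _ hl']
      rintro _ ⟨_, ⟨v, hv, rfl⟩, rfl⟩
      refine ⟨t * v * t⁻¹, hm.Li h.TH ht hv, ?_⟩
      show t * (l * v * l⁻¹ * v⁻¹) * t⁻¹ = _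
      group
    apply le_antisymm (key t ht i m hm)
    have h1 := cj_mono t (key t⁻¹ (inv_mem ht) m i (hm.inv (h.TH ht)))
    rwa [cj_cj_inv] at h1

/-- `F = F₂`: complements from `[Wn, B]` -/
theorem co_two [Finite F] [CharP F 2] (hF : ∀ x : F, x = 0 ∨ x = 1) :
    Co M fun i => closure {x | ∃ b ∈ B, ∃ w ∈ Wn M i, x = b * w * b⁻¹ * w⁻¹} := by
  classical
  have hTH := h.TH
  -- the element `z i`
  have hz : ∀ i, ∃ z ∈ Li M i, M.nat.e z i 0 = 1 ∧ z * z = 1 ∧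
      closure {x | ∃ b ∈ B, ∃ w ∈ Wn M i, x = b * w * b⁻¹ * w⁻¹} = zpowers z := by
    intro i
    obtain ⟨b0, hb0, hb0A⟩ := h.root_i i 1
    obtain ⟨w0, hw0, e0⟩ := exists_vec M i ![0, 1]
    have hb0w := M.Vn b0 hb0A.1 w0 hw0.1
    have hzL : b0 * w0 * b0⁻¹ * w0⁻¹ ∈ Li M i := by
      refine ⟨mul_mem hb0w (inv_mem hw0.1), fun m hm => ?_, ?_⟩
      · rw [M.map_div hb0w hw0.1, Pi.sub_apply, hb0A.e_m hw0.1 hm, sub_self]
      · rw [M.map_div hb0w hw0.1, Pi.sub_apply, Pi.sub_apply, hb0A.e_i hw0.1, ap_one', e0]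
        simp
    have hz0 : M.nat.e (b0 * w0 * b0⁻¹ * w0⁻¹) i 0 = 1 := by
      rw [M.map_div hb0w hw0.1, Pi.sub_apply, Pi.sub_apply, hb0A.e_i hw0.1, ap_zero', e0]
      simp
    refine ⟨_, hzL, hz0, by rw [← pow_two]; exact M.Vsq _ hzL.1, ?_⟩
    apply le_antisymm
    · rw [closure_le]
      rintro _ ⟨b, hb, w, hw, rfl⟩
      have hbH := hTH (h.BT hb)
      obtain ⟨c, hc⟩ := exists_up M h.hm.syl (h.BT hb) fun v hv hv1 => h.cB b hb v ((h.mem v hv).2 hv1)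
      have hbD : ∀ d ∈ D, b * d = d * b := fun d hd => h.cB b hb d (h.DZ hd)
      rcases hF (c i) with hci | hci
      · have h1 := cent_N M h.hm hbH hc hbD (i := i) (by rw [hci, up_zero]) hw.1 hw.2
        have e : b * w * b⁻¹ * w⁻¹ = 1 := by rw [h1]; group
        rw [e]; exact one_mem _
      · -- `b` acts on `Wn i` as `b0`
        have h1 := acts_mul (M := M) hbH (acts_inv (M := M) hb0A.1 hb0A.2.1) hc
        have h2 := cent_N M h.hm (mul_mem (inv_mem hb0A.1) hbH) h1 (fun d hd => by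
          have c1 : Commute b0 d := hb0A.2.2 d hd
          have c2 : Commute b d := hbD d hd
          exact (c1.inv_left.mul_left c2).eq) (i := i) (by
            rw [Pi.mul_apply, Pi.inv_apply, Pi.mulSingle_eq_same, hci, inv_mul_cancel]) hw.1 hw.2
        have h3 : b * w * b⁻¹ = b0 * w * b0⁻¹ := by
          calc b * w * b⁻¹ = b0 * ((b0⁻¹ * b) * w) * b⁻¹ := by group
            _ = b0 * (w * (b0⁻¹ * b)) * b⁻¹ := by rw [h2]
            _ = _ := by group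
        rw [h3]
        rcases hF (M.nat.e w i 1) with hw1 | hw1
        · have h4 := h.cB b0 hb0 w (h.LiZ i ⟨hw.1, hw.2, hw1⟩)
          have e : b0 * w * b0⁻¹ * w⁻¹ = 1 := by rw [h4]; group
          rw [e]; exact one_mem _
        · have hr : w0⁻¹ * w ∈ Li M i := by
            refine ⟨mul_mem (inv_mem hw0.1) hw.1, fun m hm => ?_, ?_⟩
            · rw [M.nat.mul _ (inv_mem hw0.1) _ hw.1, Pi.add_apply, M.map_inv hw0.1, Pi.neg_apply, hw0.2 m hm,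
                hw.2 m hm, neg_zero, add_zero]
            · rw [M.nat.mul _ (inv_mem hw0.1) _ hw.1, Pi.add_apply, Pi.add_apply, M.map_inv hw0.1, Pi.neg_apply,
                Pi.neg_apply, e0, hw1]
              simp
          have h4 := h.cB b0 hb0 _ (h.LiZ i hr)
          have e : b0 * w * b0⁻¹ * w⁻¹ = b0 * w0 * b0⁻¹ * w0⁻¹ := by
            calc b0 * w * b0⁻¹ * w⁻¹ = b0 * w0 * (b0⁻¹ * b0) * (w0⁻¹ * w) * b0⁻¹ * w⁻¹ := by group
              _ = b0 * w0 * b0⁻¹ * (b0 * (w0⁻¹ * w)) * b0⁻¹ * w⁻¹ := by group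
              _ = b0 * w0 * b0⁻¹ * ((w0⁻¹ * w) * b0) * b0⁻¹ * w⁻¹ := by rw [h4]
              _ = _ := by group
          rw [e]
          exact mem_zpowers _
    · rw [zpowers_le]
      exact subset_closure ⟨b0, hb0, w0, hw0, rfl⟩
  refine ⟨fun i => ?_, fun i v hv hD => ?_, fun i v hv => ?_, fun t ht i m hm => ?_⟩
  · obtain ⟨z, hz1, -, -, e⟩ := hz i
    simp only [e]
    rw [zpowers_le]
    exact hz1
  · obtain ⟨z, hz1, hz0, hzz, e⟩ := hz i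
    simp only [e] at hv
    have h1 : v = 1 ∨ v = z := by
      obtain ⟨n, rfl⟩ := mem_zpowers_iff.1 hv
      rcases Int.even_or_odd n with ⟨r, rfl⟩ | ⟨r, rfl⟩
      · left
        rw [← two_mul, zpow_mul, zpow_ofNat, pow_two, hzz, one_zpow]
      · right
        rw [zpow_add, zpow_mul, zpow_ofNat, pow_two, hzz, one_zpow, one_mul, zpow_one]
    rcases h1 with h1 | h1
    · exact h1
    · subst h1
      have h2 := D_e (M := M) hD
      rw [h2] at hz0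
      simp at hz0
  · obtain ⟨z, hz1, hz0, hzz, e⟩ := hz i
    simp only [e]
    rcases hF (M.nat.e v i 0) with h0 | h0
    · exact ⟨1, one_mem _, v, Li_D hv h0, by rw [one_mul]⟩
    · refine ⟨z, mem_zpowers z, z⁻¹ * v, Li_D (mul_mem (inv_mem hz1) hv) ?_, by group⟩
      rw [M.nat.mul _ (inv_mem hz1.1) _ hv.1, Pi.add_apply, Pi.add_apply, M.map_inv hz1.1, Pi.neg_apply,
        Pi.neg_apply, hz0, h0]
      simp
  · have key : ∀ t ∈ T, ∀ i m, MvI M t i m → cj t (closure {x | ∃ b ∈ B, ∃ w ∈ Wn M i, x = b * w * b⁻¹ * w⁻¹}) ≤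
        closure {x | ∃ b ∈ B, ∃ w ∈ Wn M m, x = b * w * b⁻¹ * w⁻¹} := by
      intro t ht i m hm
      rw [Subgroup.map_le_iff_le_comap, closure_le]
      rintro _ ⟨b, hb, w, hw, rfl⟩
      refine subset_closure ⟨t * b * t⁻¹, (mem_normalizer_iff.1 (h.TB ht) b).1 hb, t * w * t⁻¹, hm.Wn (hTH ht) hw, ?_⟩
      show t * (b * w * b⁻¹ * w⁻¹) * t⁻¹ = _
      group
    apply le_antisymm (key t ht i m hm)
    have h1 := cj_mono t (key t⁻¹ (inv_mem ht) m i (hm.inv (hTH ht)))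
    rwa [cj_cj_inv] at h1

/-- **complements exist** -/
theorem exists_co [Finite F] [CharP F 2] : ∃ c, Co M c := by
  by_cases hF : ∀ x : F, x = 0 ∨ x = 1
  · exact ⟨_, h.co_two hF⟩
  · push Not at hF
    obtain ⟨a, ha0, ha1⟩ := hF
    exact ⟨_, h.co_tor ha0 ha1⟩

end LD

end Cfsg.Agent.Omega.OM.Lev.Low

end

section


/-!
# hU (bb OMEGA #22723 (A), #22160), every `q`, every `k ≥ 2`: the core over `Bg`

* `norm_inf` : `T ∩ N` is normal in the minimal parabolic `R` over `T` if `N ⊴ R`, `R ≠ N T`; `gen_cj` : `R = ⟨T^R⟩`;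
* `T_norm` : a 2-group over `B` which centralises all `Z l`, `l ≠ j`, normalises all `Z l`, `W l`;
* `cent_y` : a 2-element of `N_G(B)` which centralises `Z i` centralises `W i / Z i`;
* `fusV` : **(0.2)** an element of `V` conjugate into `W i` lies in some `W m`;
* `core` : `B ≤ T ≤ R = ⟨T^R⟩`, `R` centralises the `Z l`, `l ≠ j`, and normalises `T ∩ C(W j)`, `(W i)^R ≤ V` for `i ≠ j`:
  then `R` normalises `W i` and centralises `W i / Z i` for `i ≠ j`.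
-/

set_option autoImplicit false
set_option linter.unusedSectionVars false

namespace Cfsg.Agent.Omega.OM.HU

open Subgroup Cfsg Cfsg.Agent.ZN.ChoiceBase
open Cfsg.Agent.ZN (jj zj bau zc zl o2)
open Cfsg.Agent.ZN.ChoiceSit (Syl exists_syl syl_conj syl_not_dvd isPGroup_o2 le_o2 le_normalizer_o2 o2_le_syl o2_le)
open Cfsg.Agent.MinSimple.MinParabolic (IsMinPar)
open Cfsg.Agent.Omega.SQ1.Bau (mem_sup_comm)
open Cfsg.Agent.Omega.OM Cfsg.Agent.Omega.OM.Uni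
open Cfsg.Agent.Omega.NO3S.EThree.Frame

universe u

variable {G : Type u} [Group G]

/-! ### Minimal parabolics -/

section par

variable [Finite G] {T R : Subgroup G}

/-- `T ∩ N ⊴ R` if `N ⊴ R` and `R ≰ N T` -/
theorem norm_inf (hR : IsMinPar T R) (hT : Syl T R) {N : Subgroup G} (hN : R ≤ normalizer (N : Set G))
    (hne : ¬ R ≤ (R ⊓ N) ⊔ T) : R ≤ normalizer ((T ⊓ N : Subgroup G) : Set G) := by
  have : Fact (Nat.Prime 2) := ⟨Nat.prime_two⟩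
  have hN' : R ≤ normalizer ((R ⊓ N : Subgroup G) : Set G) := fun r hr => by
    rw [mem_normalizer_iff_cj, cj_inf, cj_eq_of_mem_normalizer (Subgroup.le_normalizer hr),
      cj_eq_of_mem_normalizer (hN hr)]
  rcases hR.sup_eq_or_inf_le hT.2.1 (syl_not_dvd hT) (N := R ⊓ N) inf_le_left hN' with h1 | h1
  · exact absurd h1.ge hne
  · have h2 : T ⊓ N = o2 R ⊓ N := by
      apply le_antisymm
      · exact le_inf ((le_inf inf_le_left (le_inf (inf_le_left.trans hT.1) inf_le_right)).trans h1) inf_le_right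
      · exact inf_le_inf_right _ (o2_le_syl hT)
    rw [h2]
    intro r hr
    rw [mem_normalizer_iff_cj, cj_inf, cj_eq_of_mem_normalizer (le_normalizer_o2 R hr),
      cj_eq_of_mem_normalizer (hN hr)]

/-- `R = ⟨T^R⟩` -/
theorem gen_cj (hR : IsMinPar T R) (hT : Syl T R) : R ≤ ⨆ r : R, cj (r : G) T := by
  have : Fact (Nat.Prime 2) := ⟨Nat.prime_two⟩
  set N : Subgroup G := ⨆ r : R, cj (r : G) T with hN
  have hTN : T ≤ N := by
    have h1 : cj ((1 : R) : G) T ≤ N := le_iSup (fun r : R => cj (r : G) T) 1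
    rwa [Subgroup.coe_one, cj_one] at h1
  have hNR : N ≤ R := iSup_le fun r => by
    rintro _ ⟨t, ht, rfl⟩
    exact mul_mem (mul_mem r.2 (hT.1 ht)) (inv_mem r.2)
  have hn : R ≤ normalizer (N : Set G) := by
    intro x hx
    refine mem_normalizer_of_cj_le ?_
    show Subgroup.map _ N ≤ N
    rw [hN, Subgroup.map_iSup]
    refine iSup_le fun r => ?_
    show cj x (cj (r : G) T) ≤ _
    rw [cj_cj]
    exact le_iSup (fun r : R => cj (r : G) T) (⟨x, hx⟩ * r)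
  rcases hR.sup_eq_or_inf_le hT.2.1 (syl_not_dvd hT) hNR hn with h1 | h1
  · rw [sup_eq_left.2 hTN] at h1
    exact h1.ge
  · rw [inf_eq_left.2 hTN] at h1
    exfalso
    apply hR.not_le
    have h2 : T = o2 R := le_antisymm h1 (o2_le_syl hT)
    rw [h2]
    exact le_normalizer_o2 R

end par

/-! ### A 2-element fixes a coset -/

/-- a 2-element which normalises `W`, of exponent 2, fixes a coset of `Z` in `W \ Z`. -/
theorem exists_fix_coset {Z W : Subgroup G} (hc : ∀ x ∈ W, ∀ y ∈ W, x * y = y * x) (h2 : ∀ x ∈ W, x * x = 1)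
    (hne : ∃ w ∈ W, w ∉ Z) : ∀ (m : ℕ) (t : G), (∀ w ∈ W, t * w * t⁻¹ ∈ W) → t ^ 2 ^ m = 1 →
      ∃ w ∈ W, w ∉ Z ∧ t * w * t⁻¹ * w⁻¹ ∈ Z := by
  intro m
  induction m with
  | zero =>
    intro t _ ht
    rw [pow_zero, pow_one] at ht
    obtain ⟨w, hw, hwZ⟩ := hne
    refine ⟨w, hw, hwZ, ?_⟩
    rw [ht]
    simp [one_mem]
  | succ m ih =>
    intro t htW ht
    obtain ⟨w, hw, hwZ, h3⟩ := ih (t * t) (fun w hw => by
      have e : t * t * w * (t * t)⁻¹ = t * (t * w * t⁻¹) * t⁻¹ := by group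
      rw [e]
      exact htW _ (htW w hw)) (by rw [← pow_two, ← pow_mul, ← pow_succ', ht])
    by_cases h4 : t * w * t⁻¹ * w⁻¹ ∈ Z
    · exact ⟨w, hw, hwZ, h4⟩
    · refine ⟨t * w * t⁻¹ * w⁻¹, mul_mem (htW w hw) (inv_mem hw), h4, ?_⟩
      have ha := htW w hw
      have haa := h2 _ ha
      have hww := h2 _ hw
      have hb : t * (t * w * t⁻¹) * t⁻¹ ∈ W := htW _ ha
      have ea : (t * w * t⁻¹)⁻¹ = t * w * t⁻¹ := inv_eq_of_mul_eq_one_left haa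
      have ew : w⁻¹ = w := inv_eq_of_mul_eq_one_left hww
      have e : t * (t * w * t⁻¹ * w⁻¹) * t⁻¹ * (t * w * t⁻¹ * w⁻¹)⁻¹ = t * t * w * (t * t)⁻¹ * w⁻¹ := by
        calc t * (t * w * t⁻¹ * w⁻¹) * t⁻¹ * (t * w * t⁻¹ * w⁻¹)⁻¹
            = t * (t * w * t⁻¹) * t⁻¹ * (t * w * t⁻¹)⁻¹ * (w * (t * w * t⁻¹)⁻¹) := by group
          _ = t * (t * w * t⁻¹) * t⁻¹ * (t * w * t⁻¹) * (w * (t * w * t⁻¹)) := by rw [ea]
          _ = t * (t * w * t⁻¹) * t⁻¹ * (t * w * t⁻¹) * ((t * w * t⁻¹) * w) := by rw [hc w hw _ ha]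
          _ = t * (t * w * t⁻¹) * t⁻¹ * ((t * w * t⁻¹) * (t * w * t⁻¹)) * w := by group
          _ = t * (t * w * t⁻¹) * t⁻¹ * w := by rw [haa, mul_one]
          _ = t * (t * w * t⁻¹) * t⁻¹ * w⁻¹ := by rw [ew]
          _ = t * t * w * (t * t)⁻¹ * w⁻¹ := by group
      rw [e]
      exact h3

/-! ### Over `Bg` -/

section bg

variable [Finite G] {S : Sylow 2 G} {P : Subgroup G} {ι : Type} {B ZJ : Subgroup G}
  {L W Z C : ι → Subgroup G} {q : ℕ} (h : Bg S P B ZJ L W Z C q)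
include h

/-- a vector of `W i` outside `Z i` -/
theorem exists_W (i : ι) : ∃ w ∈ W i, w ∉ Z i := by
  by_contra hcon
  push Not at hcon
  have h2 := Subgroup.card_le_of_le (show W i ≤ Z i from hcon)
  rw [(h.fr.blk i).card] at h2
  have h3 := (h.fr.blk i).one
  have h4 : 0 < Nat.card (Z i) := Nat.card_pos
  nlinarith

/-- a 2-group over `B` which centralises the `Z l`, `l ≠ j`, normalises all `Z l` and all `W l` -/
theorem T_norm [Finite ι] {j : ι} {T : Subgroup G} (hT2 : IsPGroup 2 T) (hBT : B ≤ T)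
    (hTZ : ∀ l, l ≠ j → T ≤ centralizer (Z l : Set G)) {t : G} (ht : t ∈ T) (l : ι) :
    cj t (Z l) = Z l ∧ cj t (W l) = W l := by
  have hn := h.le_norm_B hT2 hBT ht
  have h1 : ∀ l, l ≠ j → cj t (Z l) = Z l := fun l hl =>
    mem_normalizer_iff_cj.1 (centralizer_le_normalizer _ (hTZ l hl ht))
  have h2 : cj t (Z l) = Z l := by
    by_cases hl : l = j
    · subst hl
      obtain ⟨m, hm, -⟩ := (h.norm hn).2 l
      by_cases hml : m = l
      · rwa [hml] at hm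
      · exfalso
        have h3 := h1 m hml
        rw [← hm] at h3
        have h4 := congrArg (cj t⁻¹) h3
        rw [cj_inv_cj, cj_inv_cj] at h4
        exact hml (h.Z_inj (hm.symm.trans h4))
    · exact h1 l hl
  exact ⟨h2, h.cj_W hn h2⟩

/-- a 2-element of `N_G(B)` which centralises `Z i` centralises `W i / Z i`. -/
theorem cent_y [Finite ι] {i : ι} {T : Subgroup G} (hT2 : IsPGroup 2 T) (hBT : B ≤ T)
    (hTZ : T ≤ centralizer (Z i : Set G)) {t : G} (ht : t ∈ T) {w : G} (hw : w ∈ W i) :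
    t * w * t⁻¹ * w⁻¹ ∈ Z i := by
  have hb := h.fr.blk i
  have hn := h.le_norm_B hT2 hBT ht
  have hnB : ∀ b ∈ B, t * b * t⁻¹ ∈ B := fun b hb => (mem_normalizer_iff.1 hn b).1 hb
  have hnB' : ∀ b ∈ B, t⁻¹ * b * t ∈ B := fun b hb => (mem_normalizer_iff''.1 hn b).1 hb
  have htz : ∀ z ∈ Z i, t * z = z * t := fun z hz => (mem_centralizer_iff.1 (hTZ ht) z hz).symm
  have htz' : ∀ z ∈ Z i, t * z * t⁻¹ = z := fun z hz => by rw [htz z hz]; group
  have htZ : cj t (Z i) = Z i := mem_normalizer_iff_cj.1 (centralizer_le_normalizer _ (hTZ ht))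
  have htW : cj t (W i) = W i := h.cj_W hn htZ
  have htW' : ∀ w ∈ W i, t * w * t⁻¹ ∈ W i := fun w hw => htW ▸ ⟨w, hw, rfl⟩
  have hWc : ∀ x ∈ W i, ∀ y ∈ W i, x * y = y * x := fun x hx y hy => hb.comm hx hy
  obtain ⟨m, hm⟩ : ∃ m : ℕ, t ^ 2 ^ m = 1 := by
    obtain ⟨m, hm⟩ := hT2 ⟨t, ht⟩
    exact ⟨m, by have := congrArg Subtype.val hm; simpa using this⟩
  obtain ⟨w₀, hw₀, hw₀Z, h0⟩ := exists_fix_coset (Z := Z i) (W := W i) hWc
    (fun x hx => by rw [← pow_two]; exact SQ1.Bau.elem_sq hb.el x hx) (exists_W h i) m t htW' hm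
  -- `t` acts trivially on `B / C_B(W i)`
  have key : ∀ b ∈ B, ∀ u ∈ W i, (t * b * t⁻¹) * u * (t * b * t⁻¹)⁻¹ = b * u * b⁻¹ := by
    intro b hbB u hu
    set b' := t * b * t⁻¹ with hb'
    have hb'B : b' ∈ B := hnB b hbB
    set z := t * w₀ * t⁻¹ * w₀⁻¹ with hz
    have e1 : t * w₀ * t⁻¹ = z * w₀ := by rw [hz]; group
    have h3 : b * w₀ * b⁻¹ * w₀⁻¹ ∈ Z i := hb.com b hbB w₀ hw₀
    have h4 : b' * (t * w₀ * t⁻¹) * b'⁻¹ * (t * w₀ * t⁻¹)⁻¹ = b * w₀ * b⁻¹ * w₀⁻¹ := by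
      calc b' * (t * w₀ * t⁻¹) * b'⁻¹ * (t * w₀ * t⁻¹)⁻¹ = t * (b * w₀ * b⁻¹ * w₀⁻¹) * t⁻¹ := by rw [hb']; group
        _ = _ := htz' _ h3
    have h5 : b' * w₀ * b'⁻¹ * w₀⁻¹ = b * w₀ * b⁻¹ * w₀⁻¹ := by
      rw [← h4, e1]
      have h6 : b' * z = z * b' := hb.cZ b' hb'B z h0
      have h7 := hb.com b' hb'B w₀ hw₀
      have h8 : z * (b' * w₀ * b'⁻¹ * w₀⁻¹) = (b' * w₀ * b'⁻¹ * w₀⁻¹) * z :=
        hb.comm (hb.ZV h0) (hb.ZV h7)
      calc b' * w₀ * b'⁻¹ * w₀⁻¹ = (b' * w₀ * b'⁻¹ * w₀⁻¹) * z * z⁻¹ := by group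
        _ = z * (b' * w₀ * b'⁻¹ * w₀⁻¹) * z⁻¹ := by rw [h8]
        _ = (z * b') * w₀ * b'⁻¹ * w₀⁻¹ * z⁻¹ := by group
        _ = (b' * z) * w₀ * b'⁻¹ * w₀⁻¹ * z⁻¹ := by rw [h6]
        _ = b' * (z * w₀) * b'⁻¹ * (z * w₀)⁻¹ := by group
    have h6 : b' * w₀ * b'⁻¹ = b * w₀ * b⁻¹ := mul_right_cancel h5
    have h7 : (b⁻¹ * b') * w₀ = w₀ * (b⁻¹ * b') := by
      calc (b⁻¹ * b') * w₀ = b⁻¹ * (b' * w₀ * b'⁻¹) * b' := by group
        _ = b⁻¹ * (b * w₀ * b⁻¹) * b' := by rw [h6]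
        _ = w₀ * (b⁻¹ * b') := by group
    have h8 := hb.free (b⁻¹ * b') (mul_mem (inv_mem hbB) hb'B) w₀ hw₀ hw₀Z h7 u hu
    calc b' * u * b'⁻¹ = b * ((b⁻¹ * b') * u) * b'⁻¹ := by group
      _ = b * (u * (b⁻¹ * b')) * b'⁻¹ := by rw [h8]
      _ = b * u * b⁻¹ := by group
  set v := t * w * t⁻¹ with hv
  have hvW : v ∈ W i := htW' w hw
  have h1 : ∀ b ∈ B, b * v * b⁻¹ * v⁻¹ = b * w * b⁻¹ * w⁻¹ := by
    intro b hbB
    set b₁ := t⁻¹ * b * t with hb₁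
    have hb₁B : b₁ ∈ B := hnB' b hbB
    have e1 : t * b₁ * t⁻¹ = b := by rw [hb₁]; group
    have h3 := hb.com b₁ hb₁B w hw
    have h4 := key b₁ hb₁B w hw
    rw [e1] at h4
    calc b * v * b⁻¹ * v⁻¹ = t * (b₁ * w * b₁⁻¹ * w⁻¹) * t⁻¹ := by rw [hv, hb₁]; group
      _ = b₁ * w * b₁⁻¹ * w⁻¹ := htz' _ h3
      _ = b * w * b⁻¹ * w⁻¹ := by rw [h4]
  have h2 := h.eq_mod (h.fr.WV i hvW) (h.fr.WV i hw) h1
  have h3 : w⁻¹ * v ∈ Z i := hb.toMd.mem_Z_iff.2 ⟨mul_mem (inv_mem hw) hvW, ((h.fr.mem_ZJ _).1 h2).2⟩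
  rwa [hWc _ (inv_mem hw) _ hvW] at h3

/-- an element of `V` all whose components lie in the `Z m` lies in `ZJ` -/
theorem mem_ZJ_of {v : G} (hv : v ∈ zl (S : Subgroup G) P)
    (hz : ∀ m, ∃ z ∈ Z m, ∃ c ∈ C m, v = z * c) : v ∈ ZJ := by
  refine (h.fr.mem_ZJ v).2 ⟨hv, fun b hb => ?_⟩
  have hbV : b * v * b⁻¹ ∈ zl (S : Subgroup G) P := (mem_normalizer_iff.1 (h.bau_norm hb) v).1 hv
  have h1 : b * v * b⁻¹ * v⁻¹ = 1 := by
    refine h.fr.C0 _ (mul_mem hbV (inv_mem hv)) fun m => ?_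
    obtain ⟨z, hz, c, hc, e⟩ := hz m
    have hbc := h.fr.BC m b hb c hc
    have hbz := (h.fr.blk m).cZ b hb z hz
    have e2 : z * (b * c * b⁻¹ * c⁻¹) = (b * c * b⁻¹ * c⁻¹) * z :=
      h.fr.Vc (h.fr.ZV m hz) (h.fr.CV m (mul_mem hbc (inv_mem hc)))
    have e3 : b * v * b⁻¹ * v⁻¹ = b * c * b⁻¹ * c⁻¹ := by
      rw [e]
      calc b * (z * c) * b⁻¹ * (z * c)⁻¹ = (b * z) * c * b⁻¹ * c⁻¹ * z⁻¹ := by group
        _ = (z * b) * c * b⁻¹ * c⁻¹ * z⁻¹ := by rw [hbz]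
        _ = z * (b * c * b⁻¹ * c⁻¹) * z⁻¹ := by group
        _ = b * c * b⁻¹ * c⁻¹ := by rw [e2]; group
    rw [e3]
    exact mul_mem hbc (inv_mem hc)
  exact mul_inv_eq_iff_eq_mul.1 (mul_inv_eq_one.1 h1)

/-- every element of `V` is conjugate into `ZJ` by an element of `P` fixing all `W m` -/
theorem exists_ZJ [Finite ι] {v : G} (hv : v ∈ zl (S : Subgroup G) P) :
    ∃ p ∈ P, (∀ m, cj p (W m) = W m) ∧ p * v * p⁻¹ ∈ ZJ := by
  classical
  have : Fintype ι := Fintype.ofFinite ι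
  have hPV : ∀ p ∈ P, ∀ v ∈ zl (S : Subgroup G) P, p * v * p⁻¹ ∈ zl (S : Subgroup G) P := fun p hp v hv =>
    (mem_normalizer_iff.1 (MinSimple.VModule.le_normalizer_zl _ P hp) v).1 hv
  have key : ∀ s : Finset ι, ∃ p ∈ P, (∀ m, cj p (W m) = W m) ∧
      ∀ m ∈ s, ∃ z ∈ Z m, ∃ c ∈ C m, p * v * p⁻¹ = z * c := by
    intro s
    induction s using Finset.induction_on with
    | empty => exact ⟨1, one_mem _, fun m => cj_one _, by simp⟩
    | insert i s hi ih =>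
      obtain ⟨p, hp, hpW, h1⟩ := ih
      obtain ⟨a, ha, c, hc, e⟩ := h.fr.WC i _ (hPV p hp v hv)
      by_cases ha1 : a = 1
      · refine ⟨p, hp, hpW, fun m hm => ?_⟩
        rcases Finset.mem_insert.1 hm with rfl | hm
        · exact ⟨1, one_mem _, c, hc, by rw [e, ha1]⟩
        · exact h1 m hm
      · obtain ⟨l, hl, hlC, z, hz, e1⟩ := h.tr i a ha ha1
        have e2 : l⁻¹ * a * l = z := by rw [← e1]; group
        have hlc : l⁻¹ * c * l = c := by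
          have := mem_centralizer_iff.1 hlC c hc
          calc l⁻¹ * c * l = l⁻¹ * (c * l) := by group
            _ = l⁻¹ * (l * c) := by rw [this]
            _ = c := by group
        have e3 : l⁻¹ * p * v * (l⁻¹ * p)⁻¹ = z * c := by
          calc l⁻¹ * p * v * (l⁻¹ * p)⁻¹ = l⁻¹ * (p * v * p⁻¹) * l := by group
            _ = (l⁻¹ * a * l) * (l⁻¹ * c * l) := by rw [e]; group
            _ = z * c := by rw [e2, hlc]
        refine ⟨l⁻¹ * p, mul_mem (inv_mem hl) hp, fun m => ?_, fun m hm => ?_⟩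
        · rw [← cj_cj, hpW m]
          exact h.fix (inv_mem hl) (inv_mem hlC) m
        · rcases Finset.mem_insert.1 hm with rfl | hm
          · exact ⟨z, hz, c, hc, e3⟩
          · have hmi : m ≠ i := fun e => hi (e ▸ hm)
            obtain ⟨z', hz', c', hc', e'⟩ := h1 m hm
            have hza : z * a⁻¹ ∈ C m := h.fr.WjC m i hmi (mul_mem ((h.fr.blk i).ZV hz) (inv_mem ha))
            refine ⟨z', hz', (z * a⁻¹) * c', mul_mem hza hc', ?_⟩
            have h5 : z' * (z * a⁻¹) = (z * a⁻¹) * z' := h.fr.Vc (h.fr.ZV m hz') (h.fr.CV m hza)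
            rw [e3]
            calc z * c = (z * a⁻¹) * (a * c) := by group
              _ = (z * a⁻¹) * (z' * c') := by rw [← e, e']
              _ = ((z * a⁻¹) * z') * c' := by group
              _ = z' * ((z * a⁻¹) * c') := by rw [← h5]; group
  obtain ⟨p, hp, hpW, h1⟩ := key Finset.univ
  exact ⟨p, hp, hpW, mem_ZJ_of h (hPV p hp v hv) fun m => h1 m (Finset.mem_univ m)⟩

/-- **(0.2)** An element of `V` conjugate into `W i` lies in some `W m`. -/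
theorem fusV [Finite ι] {i : ι} {v g : G} (hv : v ∈ zl (S : Subgroup G) P) (hg : g⁻¹ * v * g ∈ W i) :
    ∃ m, v ∈ W m := by
  by_cases hv1 : v = 1
  · exact ⟨i, by rw [hv1]; exact one_mem _⟩
  obtain ⟨p, hp, hpW, hpJ⟩ := exists_ZJ h hv
  obtain ⟨l, -, -, z, hz, e⟩ := h.tr i _ hg (fun e => hv1 (by
    have : v = g * (g⁻¹ * v * g) * g⁻¹ := by group
    rw [this, e]; group))
  have h1 : (p * (g * l))⁻¹ * (p * v * p⁻¹) * (p * (g * l)) = z := by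
    calc (p * (g * l))⁻¹ * (p * v * p⁻¹) * (p * (g * l)) = l⁻¹ * (g⁻¹ * v * g) * l := by group
      _ = l⁻¹ * (l * z * l⁻¹) * l := by rw [e]
      _ = z := by group
  obtain ⟨m, hm⟩ := h.fus (i := i) hpJ (g := p * (g * l)) (by rw [h1]; exact hz)
  refine ⟨m, ?_⟩
  have h2 : p * v * p⁻¹ ∈ cj p (W m) := by rw [hpW m]; exact (h.fr.blk m).ZV hm
  rw [mem_cj] at h2
  have e2 : p⁻¹ * (p * v * p⁻¹) * p = v := by group
  rwa [e2] at h2

/-- **hU, the core.** -/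
theorem core [Finite ι] {j : ι} {T R : Subgroup G} (hT2 : IsPGroup 2 T) (hBT : B ≤ T) (hTR : T ≤ R)
    (hgen : R ≤ ⨆ r : R, cj (r : G) T) (hRZ : ∀ l, l ≠ j → R ≤ centralizer (Z l : Set G))
    (hT0 : R ≤ normalizer ((T ⊓ centralizer (W j : Set G) : Subgroup G) : Set G)) {i : ι} (hij : i ≠ j)
    (hfix : ∀ r ∈ R, ∀ w ∈ W i, r * w * r⁻¹ ∈ zl (S : Subgroup G) P) :
    ∀ r ∈ R, ∀ w ∈ W i, r * w * r⁻¹ * w⁻¹ ∈ Z i := by
  have hRz : ∀ r ∈ R, ∀ z ∈ Z i, r * z * r⁻¹ = z := fun r hr z hz => by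
    have := mem_centralizer_iff.1 (hRZ i hij hr) z hz
    rw [← this]; group
  have hTy : ∀ t ∈ T, ∀ w ∈ W i, t * w * t⁻¹ * w⁻¹ ∈ Z i := fun t ht w hw =>
    cent_y h hT2 hBT (hTR.trans (hRZ i hij)) ht hw
  -- `W i` is normalised by `R`
  have hW : ∀ r ∈ R, ∀ w ∈ W i, r * w * r⁻¹ ∈ W i := by
    intro r hr w hw
    by_cases hwZ : w ∈ Z i
    · rw [hRz r hr w hwZ]; exact hw
    obtain ⟨m, hm⟩ := fusV h (hfix r hr w hw) (i := i) (g := r) (by
      have : r⁻¹ * (r * w * r⁻¹) * r = w := by group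
      rw [this]; exact hw)
    by_cases hmi : m = i
    · rwa [hmi] at hm
    exfalso
    -- `T₀` centralises `w^r`, so `w`
    have h1 : ∀ t ∈ T ⊓ centralizer (W j : Set G), t * (r * w * r⁻¹) = (r * w * r⁻¹) * t := by
      intro t ht
      have ht' : r⁻¹ * t * r ∈ T ⊓ centralizer (W j : Set G) := (mem_normalizer_iff''.1 (hT0 hr) t).1 ht
      have h2 := hTy _ ht'.1 w hw
      have h3 : t * (r * w * r⁻¹) * t⁻¹ * (r * w * r⁻¹)⁻¹ ∈ Z i := by
        have e : t * (r * w * r⁻¹) * t⁻¹ * (r * w * r⁻¹)⁻¹ =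
            r * (r⁻¹ * t * r * w * (r⁻¹ * t * r)⁻¹ * w⁻¹) * r⁻¹ := by group
        rw [e, hRz r hr _ h2]
        exact h2
      have htm := (T_norm h hT2 hBT (fun l hl => hTR.trans (hRZ l hl)) ht.1 m).2
      have h4 : t * (r * w * r⁻¹) * t⁻¹ * (r * w * r⁻¹)⁻¹ ∈ W m := by
        refine mul_mem ?_ (inv_mem hm)
        rw [← htm]
        exact ⟨_, hm, rfl⟩
      have h5 : t * (r * w * r⁻¹) * t⁻¹ * (r * w * r⁻¹)⁻¹ ∈ W i ⊓ W m := ⟨(h.fr.blk i).ZV h3, h4⟩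
      rw [h.W_disj (Ne.symm hmi), mem_bot] at h5
      exact mul_inv_eq_iff_eq_mul.1 (mul_inv_eq_one.1 h5)
    obtain ⟨z, hz, hz1⟩ : ∃ z ∈ Z i, z ≠ 1 := by
      by_contra hcon
      push Not at hcon
      exact h.Z_ne i ((eq_bot_iff).2 fun z hz => mem_bot.2 (hcon z hz))
    obtain ⟨b, hb, hbC, e⟩ := h.root i w hw hwZ z hz
    have hbT : b ∈ T ⊓ centralizer (W j : Set G) :=
      ⟨hBT hb, centralizer_le (by exact_mod_cast h.fr.WjC i j hij) hbC⟩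
    have hbT' : r * b * r⁻¹ ∈ T ⊓ centralizer (W j : Set G) := (mem_normalizer_iff.1 (hT0 hr) b).1 hbT
    have h6 := h1 _ hbT'
    have h7 : b * w = w * b := by
      have := congrArg (fun x => r⁻¹ * x * r) h6
      simpa [mul_assoc] using this
    apply hz1
    rw [← e, h7]; group
  -- `R` is trivial on `W i / Z i`
  let K : Subgroup G :=
    { carrier := {r | r ∈ R ∧ ∀ w ∈ W i, r * w * r⁻¹ * w⁻¹ ∈ Z i}
      one_mem' := ⟨one_mem _, fun w _ => by simp [one_mem]⟩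
      mul_mem' := by
        rintro a b ⟨ha, ha'⟩ ⟨hb, hb'⟩
        refine ⟨R.mul_mem ha hb, fun w hw => ?_⟩
        have e : a * b * w * (a * b)⁻¹ * w⁻¹ = a * (b * w * b⁻¹) * a⁻¹ * (b * w * b⁻¹)⁻¹ * (b * w * b⁻¹ * w⁻¹) := by
          group
        rw [e]
        exact mul_mem (ha' _ (hW b hb w hw)) (hb' w hw)
      inv_mem' := by
        rintro a ⟨ha, ha'⟩
        refine ⟨R.inv_mem ha, fun w hw => ?_⟩
        have h1 := hW a⁻¹ (inv_mem ha) w hw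
        rw [inv_inv] at h1
        have h2 := inv_mem (ha' _ h1)
        have e : (a * (a⁻¹ * w * a) * a⁻¹ * (a⁻¹ * w * a)⁻¹)⁻¹ = a⁻¹ * w * a⁻¹⁻¹ * w⁻¹ := by group
        rwa [e] at h2 }
  have hle : R ≤ K := by
    refine hgen.trans (iSup_le fun r => ?_)
    rintro _ ⟨t, ht, rfl⟩
    refine ⟨mul_mem (mul_mem r.2 (hTR ht)) (inv_mem r.2), fun w hw => ?_⟩
    have h1 := hW (r : G)⁻¹ (inv_mem r.2) w hw
    rw [inv_inv] at h1
    have h2 := hTy t ht _ h1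
    change (r : G) * t * (r : G)⁻¹ * w * ((r : G) * t * (r : G)⁻¹)⁻¹ * w⁻¹ ∈ Z i
    have e : (r : G) * t * (r : G)⁻¹ * w * ((r : G) * t * (r : G)⁻¹)⁻¹ * w⁻¹ =
        (r : G) * (t * ((r : G)⁻¹ * w * r) * t⁻¹ * ((r : G)⁻¹ * w * r)⁻¹) * (r : G)⁻¹ := by group
    rw [e, hRz r r.2 _ h2]
    exact h2
  exact fun r hr w hw => (hle hr).2 w hw

end bg

end Cfsg.Agent.Omega.OM.HU

end
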