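import Cfsg.Agent.Mrg.Omega.OM.Lev.Low.FrFour
import Cfsg.Agent.Mrg.Omega.OM.Lev.Dich
import Cfsg.Agent.Mrg.Omega.OM.UOne
import Cfsg.Agent.Mrg.Omega.OM.UniPlus
import Cfsg.Agent.Mrg.Omega.OM.Lev.SFr
import Cfsg.Agent.Mrg.Omega.NO3S.OneLine.Abs


/-!
# FF-blocks over `B = C_S(Ω₁(Z(lev S (n + 1))))` have modules in `Ω₁(Z(lev S n))`

`(L, V)` is a block over `B` and `A ≤ B` acts fully on `V`; `U` is an abelian group which is normalised by `B`, centralised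
by `A` and by `V`, and `U ≤ V C(A^l)` for all `l ∈ L`.

* `low` : `[U, B] ∩ V` centralises `L`;
* `FrL.no_low` : there is no such block over the frame of `P` (`U = V_P`), since `Z_J = [V_P, B]`;
* `V_le` : the module of every FF-block over `B` at stage `n` lies in `Ω₁(Z(lev S n))` (blocks of smaller stage do not
  exist).
-/

set_option autoImplicit false
set_option linter.unusedSectionVars false

namespace Cfsg.Agent.Omega.OM.Lev.LowBlk

open Subgroup Cfsg Cfsg.Agent.ZN Cfsg.Agent.ZN.ChoiceBase Cfsg.Agent.PLocal.ThompsonJ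
open Cfsg.Agent.Omega.OM.Uni Cfsg.Agent.Omega.OM.Lev.Uni
open Cfsg.Agent.Omega.SQ1.Bau (mem_sup_comm card_sup_comm elem_comm elem_sq)
open Cfsg.Agent.Omega.OM.BlockUniq
open scoped Pointwise commutatorElement

universe u

variable {G : Type u} [Group G]

section abs

variable {B L V Z A U : Subgroup G} {q : ℕ}

/-- The elements `z` of `V` with `[z, A^l] ≤ C(L)` for all `l ∈ L`. -/
def T0 (L V A : Subgroup G) (hV : ∀ v ∈ V, ∀ w ∈ V, v * w = w * v) (hn : ∀ l ∈ L, ∀ v ∈ V, l * v * l⁻¹ ∈ V)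
    (hAL : A ≤ L) : Subgroup G where
  carrier := {z | z ∈ V ∧ ∀ l ∈ L, ∀ a ∈ A, (l * a * l⁻¹) * z * (l * a * l⁻¹)⁻¹ * z⁻¹ ∈ centralizer (L : Set G)}
  one_mem' := ⟨one_mem _, fun l _ a _ => by
    have : (l * a * l⁻¹) * 1 * (l * a * l⁻¹)⁻¹ * 1⁻¹ = 1 := by group
    rw [this]; exact one_mem _⟩
  mul_mem' := by
    rintro z z' ⟨hz, h1⟩ ⟨hz', h2⟩
    refine ⟨mul_mem hz hz', fun l hl a ha => ?_⟩
    set g := l * a * l⁻¹ with hg
    have hgL : g ∈ L := mul_mem (mul_mem hl (hAL ha)) (inv_mem hl)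
    have c2 := h2 l hl a ha
    have c1 := h1 l hl a ha
    rw [← hg] at c1 c2
    have hc : g * z' * g⁻¹ * z'⁻¹ ∈ V := mul_mem (hn g hgL z' hz') (inv_mem hz')
    have e : g * (z * z') * g⁻¹ * (z * z')⁻¹ = (g * z * g⁻¹ * z⁻¹) * (g * z' * g⁻¹ * z'⁻¹) := by
      have h3 := hV _ hc _ hz
      calc g * (z * z') * g⁻¹ * (z * z')⁻¹ = g * z * g⁻¹ * ((g * z' * g⁻¹ * z'⁻¹) * z) * z⁻¹ * z⁻¹ := by group
        _ = g * z * g⁻¹ * (z * (g * z' * g⁻¹ * z'⁻¹)) * z⁻¹ * z⁻¹ := by rw [h3]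
        _ = g * z * g⁻¹ * z⁻¹ * (z * z) * ((g * z' * g⁻¹ * z'⁻¹) * (z⁻¹ * z⁻¹)) := by group
        _ = g * z * g⁻¹ * z⁻¹ * (z * z) * ((z⁻¹ * z⁻¹) * (g * z' * g⁻¹ * z'⁻¹)) := by
            rw [hV _ hc _ (mul_mem (inv_mem hz) (inv_mem hz))]
        _ = _ := by group
    rw [e]
    exact mul_mem c1 c2
  inv_mem' := by
    rintro z ⟨hz, h1⟩
    refine ⟨inv_mem hz, fun l hl a ha => ?_⟩
    set g := l * a * l⁻¹ with hg
    have hgL : g ∈ L := mul_mem (mul_mem hl (hAL ha)) (inv_mem hl)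
    have c1 := h1 l hl a ha
    rw [← hg] at c1
    have hc : g * z * g⁻¹ * z⁻¹ ∈ V := mul_mem (hn g hgL z hz) (inv_mem hz)
    have e : g * z⁻¹ * g⁻¹ * z⁻¹⁻¹ = (g * z * g⁻¹ * z⁻¹)⁻¹ := by
      have h3 := hV _ (hn g hgL _ (inv_mem hz)) _ hz
      rw [inv_inv, h3]
      group
    rw [e]
    exact inv_mem c1

theorem T0_norm {hV : ∀ v ∈ V, ∀ w ∈ V, v * w = w * v} {hn : ∀ l ∈ L, ∀ v ∈ V, l * v * l⁻¹ ∈ V}
    {hAL : A ≤ L} : L ≤ normalizer ((T0 L V A hV hn hAL : Subgroup G) : Set G) := by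
  have key : ∀ x ∈ L, ∀ z ∈ T0 L V A hV hn hAL, x * z * x⁻¹ ∈ T0 L V A hV hn hAL := by
    rintro x hx z ⟨hz, h1⟩
    refine ⟨hn x hx z hz, fun l hl a ha => ?_⟩
    have h2 := h1 (x⁻¹ * l) (mul_mem (inv_mem hx) hl) a ha
    have h3 : x * (x⁻¹ * l * a * (x⁻¹ * l)⁻¹ * z * (x⁻¹ * l * a * (x⁻¹ * l)⁻¹)⁻¹ * z⁻¹) * x⁻¹ =
        x⁻¹ * l * a * (x⁻¹ * l)⁻¹ * z * (x⁻¹ * l * a * (x⁻¹ * l)⁻¹)⁻¹ * z⁻¹ := by
      rw [mem_centralizer_iff.1 h2 x hx]; group
    have e : (l * a * l⁻¹) * (x * z * x⁻¹) * (l * a * l⁻¹)⁻¹ * (x * z * x⁻¹)⁻¹ =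
        x * (x⁻¹ * l * a * (x⁻¹ * l)⁻¹ * z * (x⁻¹ * l * a * (x⁻¹ * l)⁻¹)⁻¹ * z⁻¹) * x⁻¹ := by group
    rw [e, h3]
    exact h2
  exact Cfsg.Agent.Omega.OM.UniPlus.norm_of_forall key

/-- **(LOW)** -/
theorem low (h : FB B L V Z q) (hirr : ∀ U : Subgroup G, U ≤ V → L ≤ normalizer (U : Set G) →
      U ≤ centralizer (L : Set G) ∨ V ≤ U)
    (hA : A ≤ B) (hne : ¬ ∀ a ∈ A, ∀ v ∈ V, a * v = v * a)
    (hfull : ∀ b ∈ B, ∃ a ∈ A, a⁻¹ * b ∈ centralizer (V : Set G))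
    (hUV : ∀ x ∈ U, ∀ v ∈ V, x * v = v * x) (hBU : ∀ b ∈ B, ∀ x ∈ U, b * x * b⁻¹ ∈ U)
    (hAU : ∀ a ∈ A, ∀ x ∈ U, a * x = x * a)
    (hsp : ∀ l ∈ L, ∀ x ∈ U, ∃ w ∈ V, ∀ a ∈ A, (l * a * l⁻¹) * (w * x) = (w * x) * (l * a * l⁻¹)) :
    ⁅U, B⁆ ⊓ V ≤ centralizer (L : Set G) := by
  have hVc : ∀ v ∈ V, ∀ w ∈ V, v * w = w * v := fun v hv w hw => h.comm hv hw
  have hAL : A ≤ L := hA.trans h.BL
  -- `[U, B] = [U, C_B(V)]`
  set D : Subgroup G := ⁅U, B ⊓ centralizer (V : Set G)⁆ with hD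
  have hDU : D ≤ U := by
    rw [hD, Subgroup.commutator_le]
    intro x hx b hb
    have h1 := hBU b (mem_inf.1 hb).1 x⁻¹ (inv_mem hx)
    have e : ⁅x, b⁆ = x * (b * x⁻¹ * b⁻¹) := by rw [commutatorElement_def]; group
    rw [e]
    exact mul_mem hx h1
  have hUB : ⁅U, B⁆ ≤ D := by
    rw [Subgroup.commutator_le]
    intro x hx b hb
    obtain ⟨a, ha, hab⟩ := hfull b hb
    have hb' : a⁻¹ * b ∈ B := mul_mem (inv_mem (hA ha)) hb
    have h1 := hBU _ hb' x⁻¹ (inv_mem hx)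
    have h2 := hAU a ha _ h1
    have e : ⁅x, b⁆ = ⁅x, a⁻¹ * b⁆ := by
      rw [commutatorElement_def, commutatorElement_def]
      calc x * b * x⁻¹ * b⁻¹ = x * (a * (a⁻¹ * b * x⁻¹ * (a⁻¹ * b)⁻¹)) * a⁻¹ := by group
        _ = x * ((a⁻¹ * b * x⁻¹ * (a⁻¹ * b)⁻¹) * a) * a⁻¹ := by rw [h2]
        _ = _ := by group
    rw [e]
    exact commutator_mem_commutator hx (mem_inf.2 ⟨hb', hab⟩)
  -- `A^l` normalises `D`
  have hDn : ∀ l ∈ L, ∀ a ∈ A, ∀ y ∈ D, (l * a * l⁻¹) * y * (l * a * l⁻¹)⁻¹ ∈ D := by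
    intro l hl a ha
    set g := l * a * l⁻¹ with hg
    have hgL : g ∈ L := mul_mem (mul_mem hl (hAL ha)) (inv_mem hl)
    have h1 : D ≤ D.comap (MulAut.conj g).toMonoidHom := by
      conv_lhs => rw [hD]
      rw [Subgroup.commutator_le]
      intro x hx e he
      obtain ⟨heB, heV⟩ := mem_inf.1 he
      have heV' : ∀ v ∈ V, e * v = v * e := fun v hv => (mem_centralizer_iff.1 heV v hv).symm
      obtain ⟨w, hw, hwc⟩ := hsp l hl x hx
      have hwc := hwc a ha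
      rw [← hg] at hwc
      -- `g x g⁻¹ = w' x`
      set w' := g * w⁻¹ * g⁻¹ * w with hw'
      have hw'V : w' ∈ V := mul_mem (h.nV g hgL _ (inv_mem hw)) hw
      have hgx : g * x * g⁻¹ = w' * x := by
        calc g * x * g⁻¹ = g * w⁻¹ * (w * x) * g⁻¹ := by group
          _ = g * w⁻¹ * g⁻¹ * (g * (w * x)) * g⁻¹ := by group
          _ = g * w⁻¹ * g⁻¹ * ((w * x) * g) * g⁻¹ := by rw [hwc]
          _ = w' * x := by rw [hw']; group
      have he'B : g * e * g⁻¹ ∈ B := h.cor g hgL e heB heV'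
      have he'V : g * e * g⁻¹ ∈ centralizer (V : Set G) := by
        rw [mem_centralizer_iff]
        intro v hv
        have h2 := heV' _ (h.nV' hgL hv)
        calc v * (g * e * g⁻¹) = g * ((g⁻¹ * v * g) * e) * g⁻¹ := by group
          _ = g * (e * (g⁻¹ * v * g)) * g⁻¹ := by rw [h2]
          _ = _ := by group
      have h3 : ⁅x, g * e * g⁻¹⁆ ∈ D := commutator_mem_commutator hx (mem_inf.2 ⟨he'B, he'V⟩)
      have h4 : g * ⁅x, e⁆ * g⁻¹ = ⁅x, g * e * g⁻¹⁆ := by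
        have h5 := mem_centralizer_iff.1 he'V _ (inv_mem hw'V)
        have h6 := hUV _ (hDU h3) w' hw'V
        rw [commutatorElement_def] at h6 ⊢
        rw [commutatorElement_def]
        calc g * (x * e * x⁻¹ * e⁻¹) * g⁻¹ = (g * x * g⁻¹) * (g * e * g⁻¹) * (g * x * g⁻¹)⁻¹ * (g * e * g⁻¹)⁻¹ := by
              group
          _ = (w' * x) * (g * e * g⁻¹) * (w' * x)⁻¹ * (g * e * g⁻¹)⁻¹ := by rw [hgx]
          _ = w' * (x * (g * e * g⁻¹) * x⁻¹) * (w'⁻¹ * (g * e * g⁻¹)⁻¹) := by group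
          _ = w' * (x * (g * e * g⁻¹) * x⁻¹) * ((g * e * g⁻¹)⁻¹ * w'⁻¹) := by
              have h7 : w'⁻¹ * (g * e * g⁻¹)⁻¹ = (g * e * g⁻¹)⁻¹ * w'⁻¹ := by
                have h8 : Commute w'⁻¹ (g * e * g⁻¹) := h5
                exact h8.inv_right.eq
              rw [h7]
          _ = w' * (x * (g * e * g⁻¹) * x⁻¹ * (g * e * g⁻¹)⁻¹) * w'⁻¹ := by group
          _ = (x * (g * e * g⁻¹) * x⁻¹ * (g * e * g⁻¹)⁻¹) * w' * w'⁻¹ := by rw [h6]
          _ = _ := by group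
      show (MulAut.conj g).toMonoidHom ⁅x, e⁆ ∈ D
      change g * ⁅x, e⁆ * g⁻¹ ∈ D
      rw [h4]
      exact h3
    intro y hy
    exact h1 hy
  -- `D ∩ V ≤ Z`
  have hDZ : ∀ y ∈ D, y ∈ V → y ∈ Z := by
    intro y hy hyV
    push Not at hne
    obtain ⟨a, ha, v, hv, hav⟩ := hne
    exact h.mem_Z (hA ha) (fun h1 => hav (h1 v hv)) hyV (hAU a ha y (hDU hy))
  -- `D ∩ V ≤ T0`
  have hDT : D ⊓ V ≤ T0 L V A hVc h.nV hAL := by
    rintro y ⟨hy, hyV⟩
    refine ⟨hyV, fun l hl a ha => ?_⟩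
    have hgL : l * a * l⁻¹ ∈ L := mul_mem (mul_mem hl (hAL ha)) (inv_mem hl)
    have hyZ := hDZ y hy hyV
    by_cases hlZ : cj l Z = Z
    · have h1 : y ∈ cj l Z := by rw [hlZ]; exact hyZ
      rw [mem_cj] at h1
      have h2 := h.cZ a (hA ha) _ h1
      have e : (l * a * l⁻¹) * y * (l * a * l⁻¹)⁻¹ * y⁻¹ = 1 := by
        calc (l * a * l⁻¹) * y * (l * a * l⁻¹)⁻¹ * y⁻¹ = l * (a * (l⁻¹ * y * l)) * a⁻¹ * l⁻¹ * y⁻¹ := by group
          _ = l * ((l⁻¹ * y * l) * a) * a⁻¹ * l⁻¹ * y⁻¹ := by rw [h2]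
          _ = 1 := by group
      rw [e]; exact one_mem _
    · rcases h.tri l hl with h1 | h1
      · exact absurd h1 hlZ
      apply h1
      refine mem_inf.2 ⟨?_, ?_⟩
      · rw [mem_cj]
        have h2 := h.com a (hA ha) _ (h.nV' hl hyV)
        have e : l⁻¹ * ((l * a * l⁻¹) * y * (l * a * l⁻¹)⁻¹ * y⁻¹) * l =
            a * (l⁻¹ * y * l) * a⁻¹ * (l⁻¹ * y * l)⁻¹ := by group
        rwa [e]
      · exact mul_mem (hDZ _ (hDn l hl a ha y hy) (h.nV _ hgL y hyV)) (inv_mem hyZ)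
  intro y hy
  obtain ⟨hy1, hy2⟩ := mem_inf.1 hy
  have hyT : y ∈ T0 L V A hVc h.nV hAL := hDT (mem_inf.2 ⟨hUB hy1, hy2⟩)
  rcases hirr (T0 L V A hVc h.nV hAL) (fun z hz => hz.1) T0_norm with h1 | h1
  · exact h1 hyT
  · exfalso
    -- `[V, B] ≤ C(L)`
    have h2 : ⁅V, B⁆ ≤ centralizer (L : Set G) := by
      rw [Subgroup.commutator_le]
      intro v hv b hb
      obtain ⟨a, ha, hab⟩ := hfull b hb
      have h3 := (h1 hv).2 1 (one_mem _) a ha
      have h4 := mem_centralizer_iff.1 hab v⁻¹ (inv_mem hv)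
      have e : ⁅v, b⁆ = ((1 * a * 1⁻¹) * v * (1 * a * 1⁻¹)⁻¹ * v⁻¹)⁻¹ := by
        rw [commutatorElement_def]
        calc v * b * v⁻¹ * b⁻¹ = v * a * ((a⁻¹ * b) * v⁻¹) * b⁻¹ := by group
          _ = v * a * (v⁻¹ * (a⁻¹ * b)) * b⁻¹ := by rw [h4]
          _ = _ := by group
      rw [e]
      exact inv_mem h3
    obtain ⟨l, hl, hs⟩ := h.sup
    have h3 : V ≤ centralizer (L : Set G) := by
      refine hs.trans (sup_le h2 ?_)
      refine (cj_mono l h2).trans (le_of_eq ?_)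
      rw [cj_centralizer, cj_eq_of_mem_normalizer (le_normalizer hl)]
    obtain ⟨b, hb, v, hv, hbv⟩ := h.ne
    exact hbv (mem_centralizer_iff.1 (h3 hv) b (h.BL hb))

/-- `Z` is not central in `L`. -/
theorem not_le (h : FB B L V Z q) : ¬ Z ≤ centralizer (L : Set G) := by
  intro h1
  have h2 : ⁅V, B⁆ ≤ centralizer (L : Set G) := (h.comm_le le_rfl).trans h1
  obtain ⟨l, hl, hs⟩ := h.sup
  have h3 : V ≤ centralizer (L : Set G) := by
    refine hs.trans (sup_le h2 ?_)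
    refine (cj_mono l h2).trans (le_of_eq ?_)
    rw [cj_centralizer, cj_eq_of_mem_normalizer (le_normalizer hl)]
  obtain ⟨b, hb, v, hv, hbv⟩ := h.ne
  exact hbv (mem_centralizer_iff.1 (h3 hv) b (h.BL hb))

/-- A full subgroup acts as `B`. -/
theorem exists_same (h : Md B V Z q) [Finite G] (hA : A ≤ B)
    (hq : q * Nat.card ↥(A ⊓ centralizer (V : Set G)) ≤ Nat.card A) {b : G} (hb : b ∈ B) :
    ∃ a ∈ A, a⁻¹ * b ∈ centralizer (V : Set G) := by
  obtain ⟨b0, hb0, v, hv, hne⟩ := h.ne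
  have hvZ : v ∉ Z := fun hz => hne (h.cZ b0 hb0 v hz)
  obtain ⟨R, hR1, hR2, hR3, hR4⟩ := h.relIndex_comm hA hv hvZ
  obtain ⟨S, hS1, hS2, hS3, hS4⟩ := h.relIndex_comm le_rfl hv hvZ
  have h1 : R ≤ S := by
    intro r hr
    obtain ⟨x, hx, rfl⟩ := hR2 r hr
    exact hS3 x (hA hx)
  have h3 : Nat.card S ≤ q := by
    have h4 := h.cardB
    rw [← hS4] at h4
    exact Nat.le_of_mul_le_mul_right h4 Nat.card_pos
  have h5 : q ≤ Nat.card R := by
    rw [← hR4] at hq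
    exact Nat.le_of_mul_le_mul_right hq Nat.card_pos
  have h6 : R = S := Subgroup.eq_of_le_of_card_ge h1 (h3.trans h5)
  have h7 := hS3 b hb
  rw [← h6] at h7
  obtain ⟨a, ha, e⟩ := hR2 _ h7
  refine ⟨a, ha, mem_centralizer_iff.2 fun u hu => ?_⟩
  refine (h.free (a⁻¹ * b) (mul_mem (inv_mem (hA ha)) hb) v hv hvZ ?_ u hu).symm
  have e1 : b * v * b⁻¹ = a * v * a⁻¹ := mul_right_cancel e
  calc a⁻¹ * b * v = a⁻¹ * (b * v * b⁻¹) * b := by group
    _ = a⁻¹ * (a * v * a⁻¹) * b := by rw [e1]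
    _ = _ := by group

end abs

/-! ### The frame -/

section frame

variable {ι : Type*} {B Q U X ZJ : Subgroup G} {L W Z C A : ι → Subgroup G} {q : ℕ}
variable {L' V' Z' A' : Subgroup G} {q' : ℕ}

theorem BU (h : FrL B Q U X ZJ L W Z C A q) [Finite ι] {b : G} (hb : b ∈ B) {x : G} (hx : x ∈ U) :
    b * x * b⁻¹ ∈ U := by
  rcases isEmpty_or_nonempty ι with hi | ⟨⟨i⟩⟩
  · have h1 : U = ⊥ := by rw [h.V_eq, iSup_of_empty]
    rw [h1, mem_bot] at hx ⊢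
    rw [hx]; group
  · exact h.LV i b ((h.blk i).BL hb) x hx

/-- There is no block of smaller stage over the frame of `P`. -/
theorem no_low (h : FrL B Q U X ZJ L W Z C A q) [Finite G] [Finite ι] (h' : FB B L' V' Z' q')
    (hirr : ∀ U : Subgroup G, U ≤ V' → L' ≤ normalizer (U : Set G) → U ≤ centralizer (L' : Set G) ∨ V' ≤ U)
    (hA : A' ≤ B) (hne : ¬ ∀ a ∈ A', ∀ v ∈ V', a * v = v * a)
    (hq : q' * Nat.card ↥(A' ⊓ centralizer (V' : Set G)) ≤ Nat.card A')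
    (hUV : ∀ x ∈ U, ∀ v ∈ V', x * v = v * x)
    (hAU : ∀ a ∈ A', ∀ x ∈ U, a * x = x * a)
    (hsp : ∀ l ∈ L', ∀ x ∈ U, ∃ w ∈ V', ∃ c, (∀ a ∈ A', a * c = c * a) ∧ l⁻¹ * x * l = w * c) : False := by
  have h1 := low h' hirr hA hne (fun b hb => exists_same h'.toMd hA hq hb) hUV (fun b hb x hx => BU h hb hx) hAU
    (fun l hl x hx => by
      obtain ⟨w, hw, c, hc, e⟩ := hsp l hl x hx
      refine ⟨(l * w * l⁻¹)⁻¹, inv_mem (h'.nV l hl w hw), fun a ha => ?_⟩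
      have e1 : (l * w * l⁻¹)⁻¹ * x = l * c * l⁻¹ := by
        calc (l * w * l⁻¹)⁻¹ * x = l * w⁻¹ * (l⁻¹ * x * l) * l⁻¹ := by group
          _ = l * w⁻¹ * (w * c) * l⁻¹ := by rw [e]
          _ = _ := by group
      rw [e1]
      calc l * a * l⁻¹ * (l * c * l⁻¹) = l * (a * c) * l⁻¹ := by group
        _ = l * (c * a) * l⁻¹ := by rw [hc a ha]
        _ = _ := by group)
  have h2 : Z' ≤ zc B := Cfsg.Agent.Omega.OM.UniPlus.Z_le_zc h'.toMd
  rw [h.zcB] at h2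
  have h3 : ZJ ≤ ⁅U, B⁆ := Low.zj_le h fun i =>
    (h.comm_W i).symm.le.trans (commutator_mono (h.WV i) le_rfl)
  exact not_le h' fun z hz => h1 (mem_inf.2 ⟨h3 (h2 hz), h'.ZV hz⟩)

end frame

/-- `C_B(V)` is normal in `L`. -/
theorem norm_core {B L V Z : Subgroup G} {q : ℕ} (h : FB B L V Z q) :
    L ≤ normalizer ((B ⊓ centralizer (V : Set G) : Subgroup G) : Set G) := by
  refine Cfsg.Agent.Omega.OM.UniPlus.norm_of_forall fun l hl x hx => ?_
  obtain ⟨hxB, hxV⟩ := mem_inf.1 hx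
  refine mem_inf.2 ⟨h.cor l hl x hxB fun v hv => (mem_centralizer_iff.1 hxV v hv).symm, ?_⟩
  rw [mem_centralizer_iff]
  intro v hv
  have h2 := mem_centralizer_iff.1 hxV _ (h.nV' hl hv)
  calc v * (l * x * l⁻¹) = l * ((l⁻¹ * v * l) * x) * l⁻¹ := by group
    _ = l * (x * (l⁻¹ * v * l)) * l⁻¹ := by rw [h2]
    _ = _ := by group

section stage

open Cfsg.Agent.Omega.NO3S.Level

variable {ι : Type*} {Q U : Subgroup G} {L W Z C A : ι → Subgroup G} {q : ℕ}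
variable {L' V' Z' : Subgroup G} {q' : ℕ}

/-- **The module of every FF-block over `B` lies in `Ω₁(Z(lev S n))`.** -/
theorem V_le [Finite G] [Finite ι] (S : Sylow 2 G) {n : ℕ} {B : Subgroup G}
    (eqB : B = (S : Subgroup G) ⊓ centralizer ((zc (lev (S : Subgroup G) (n + 1)) : Subgroup G) : Set G))
    (h : FrL B Q U (zc (lev (S : Subgroup G) n)) (zc (lev (S : Subgroup G) (n + 1))) L W Z C A q)
    (h' : FB B L' V' Z' q')
    (hirr : ∀ U : Subgroup G, U ≤ V' → L' ≤ normalizer (U : Set G) → U ≤ centralizer (L' : Set G) ∨ V' ≤ U) :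
    V' ≤ zc (lev (S : Subgroup G) n) := by
  classical
  have hBS : B ≤ (S : Subgroup G) := eqB ▸ inf_le_left
  have hlevB : lev (S : Subgroup G) (n + 1) ≤ B := by
    rw [eqB]
    exact le_inf (lev_le _ _) (NO3S.Level.le_centralizer_zc _)
  by_contra hcon
  have hn : ¬ lev (S : Subgroup G) n ≤ centralizer (V' : Set G) := fun h1 => hcon fun v hv =>
    (lev_isLev (S : Subgroup G) n).mem_of_comm (hBS (h'.VB hv)) (elem_sq h'.el v hv) fun y hy =>
      (mem_centralizer_iff.1 (h1 hy) v hv).symm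
  have hex : ∃ j, ¬ lev (S : Subgroup G) j ≤ centralizer (V' : Set G) := ⟨n, hn⟩
  obtain ⟨j, hj, hjn, hmin⟩ : ∃ j, ¬ lev (S : Subgroup G) j ≤ centralizer (V' : Set G) ∧ j ≤ n ∧
      ∀ i < j, lev (S : Subgroup G) i ≤ centralizer (V' : Set G) :=
    ⟨Nat.find hex, Nat.find_spec hex, Nat.find_min' hex hn, fun i hi => not_not.1 (Nat.find_min hex hi)⟩
  have hUc : ∀ x ∈ U, ∀ y ∈ lev (S : Subgroup G) n, y * x = x * y := fun x hx y hy =>
    (ChoiceBase.mem_zc.1 (h.VX hx)).2.2 y hy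
  have hUS : U ≤ (S : Subgroup G) := (h.VQ.trans h.QB).trans hBS
  have hCS : B ⊓ centralizer (V' : Set G) ≤ (S : Subgroup G) := inf_le_left.trans hBS
  have hLn := norm_core h'
  cases j with
  | zero =>
    obtain ⟨A', hA', hAV⟩ : ∃ A' ∈ AA (S : Subgroup G), ¬ A' ≤ centralizer (V' : Set G) := by
      by_contra hc
      push Not at hc
      apply hj
      show jj (S : Subgroup G) ≤ _
      rw [jj_eq]
      exact sSup_le hc
    have hA'n : A' ≤ lev (S : Subgroup G) n := (le_jj hA').trans (lev_mono (S : Subgroup G) (Nat.zero_le n))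
    have hA'B : A' ≤ B := hA'n.trans ((lev_le_succ _ n).trans hlevB)
    have hne : ¬ ∀ a ∈ A', ∀ v ∈ V', a * v = v * a := fun h1 => hAV fun a ha =>
      mem_centralizer_iff.2 fun v hv => (h1 a ha v hv).symm
    rcases h'.toMd.full (mx_sylow S) hA'B hA'.1 (mm_eq hA').symm with h0 | ⟨-, c2, c3, -⟩
    · exact hne h0
    set A0 := A' ⊓ centralizer (V' : Set G) with hA0
    -- `A* = V' A₀ ∈ 𝓐(S)`
    have hcomm : ∀ v ∈ V', ∀ a ∈ A0, v * a = a * v := fun v hv a ha =>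
      mem_centralizer_iff.1 (mem_inf.1 ha).2 v hv
    have hel : IsElementaryAbelian 2 (V' ⊔ A0 : Subgroup G) := Cfsg.Agent.PLocal.ElemAbSup.isElementaryAbelian_sup h'.el
      (isElementaryAbelian_mono hA'.1 inf_le_left) (elem_le_centralizer hcomm)
    have hcard : mm (S : Subgroup G) ≤ Nat.card ↥(V' ⊔ A0) := by
      have h1 := card_sup_comm (A := V') (B := A0) hcomm
      have h2 : V' ⊓ A0 ≤ Z' := by
        rw [← c2]
        refine le_inf inf_le_left fun x hx => ?_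
        rw [mem_centralizer_iff]
        exact fun a ha => elem_comm hA'.1 a ha x (mem_inf.1 (mem_inf.1 hx).2).1
      have h3 := Subgroup.card_le_of_le h2
      rw [mm_eq hA']
      have hp : 0 < Nat.card Z' := Nat.card_pos
      refine Nat.le_of_mul_le_mul_right ?_ hp
      calc Nat.card A' * Nat.card Z' = Nat.card V' * Nat.card A0 := by rw [← c3, h'.card]; ring
        _ = Nat.card ↥(V' ⊔ A0) * Nat.card ↥(V' ⊓ A0) := h1.symm
        _ ≤ _ := Nat.mul_le_mul_left _ h3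
    have hcjA : ∀ l ∈ L', cj l (V' ⊔ A0) ∈ AA (S : Subgroup G) := by
      intro l hl
      rw [mem_AA_iff]
      refine ⟨isElementaryAbelian_cj l hel, ?_, by rw [card_cj]; exact hcard⟩
      have h1 : V' ⊔ A0 ≤ B ⊓ centralizer (V' : Set G) := by
        refine sup_le (le_inf h'.VB fun v hv => mem_centralizer_iff.2 fun w hw => h'.comm hw hv) ?_
        exact inf_le_inf_right _ hA'B
      have h2 := cj_mono l h1
      rw [cj_eq_of_mem_normalizer (hLn hl)] at h2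
      exact h2.trans hCS
    have hVn : V' ≤ lev (S : Subgroup G) n := by
      have h1 := hcjA 1 (one_mem _)
      rw [cj_one] at h1
      exact le_sup_left.trans ((le_jj h1).trans (lev_mono (S : Subgroup G) (Nat.zero_le n)))
    refine no_low h h' hirr hA'B hne c3.le (fun x hx v hv => (hUc x hx v (hVn hv)).symm)
      (fun a ha x hx => hUc x hx a (hA'n ha)) fun l hl x hx => ?_
    have h1 : x ∈ cj l (V' ⊔ A0) := SQ1.Bau.mem_AA_of_comm (hcjA l hl) (hUS hx) (elem_sq h.el x hx) fun a ha =>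
      hUc x hx a ((le_jj (hcjA l hl)).trans (lev_mono (S : Subgroup G) (Nat.zero_le n)) ha)
    rw [mem_cj] at h1
    obtain ⟨w, hw, c, hc, e⟩ := mem_sup_comm hcomm h1
    exact ⟨w, hw, c, fun a ha => elem_comm hA'.1 a ha c (mem_inf.1 hc).1, e⟩
  | succ j =>
    have hjV : lev (S : Subgroup G) j ≤ centralizer (V' : Set G) := hmin j (Nat.lt_succ_self j)
    have hLj := lev_isLev (S : Subgroup G) j
    have hVX : V' ≤ zc (lev (S : Subgroup G) j) := fun v hv =>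
      hLj.mem_of_comm (hBS (h'.VB hv)) (elem_sq h'.el v hv) fun y hy => (mem_centralizer_iff.1 (hjV hy) v hv).symm
    obtain ⟨A', hA', hAV⟩ : ∃ A' ∈ BO (S : Subgroup G) (lev (S : Subgroup G) j),
        ¬ A' ≤ centralizer (V' : Set G) := by
      by_contra hc
      push Not at hc
      apply hj
      exact sup_le (inf_le_right.trans (centralizer_le hVX)) (sSup_le hc)
    have hjn' : lev (S : Subgroup G) (j + 1) ≤ lev (S : Subgroup G) n := lev_mono (S : Subgroup G) hjn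
    have hA'n : A' ≤ lev (S : Subgroup G) n := (BO.le_nxt hA').trans hjn'
    have hA'B : A' ≤ B := hA'n.trans ((lev_le_succ _ n).trans hlevB)
    have hne : ¬ ∀ a ∈ A', ∀ v ∈ V', a * v = v * a := fun h1 => hAV fun a ha =>
      mem_centralizer_iff.2 fun v hv => (h1 a ha v hv).symm
    have hXc : ∀ x ∈ zc (lev (S : Subgroup G) j), ∀ y ∈ zc (lev (S : Subgroup G) j), x * y = y * x :=
      fun x hx y hy => Lev.zc_comm hx hy
    have hb : Lev.Uni.Best (zc (lev (S : Subgroup G) j)) A' := fun F h1 h2 => hA'.2.max F h2 h1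
    rcases fullX h'.toMd hXc hVX hA'B hb with h0 | ⟨-, c2, c3, c4⟩
    · exact hne h0
    set A0 := A' ⊓ centralizer (V' : Set G) with hA0
    have hA0B : A0 ∈ BO (S : Subgroup G) (lev (S : Subgroup G) j) :=
      ⟨inf_le_left.trans hA'.1, NO1.BestOff.ElemM.mono hA'.2.toElemM inf_le_left, fun F h1 h2 =>
        SFr.best_cut h'.toMd hXc hVX hA'B hb F h2 h1⟩
    have hlevQ : lev (S : Subgroup G) j ≤ B ⊓ centralizer (V' : Set G) :=
      le_inf ((lev_mono (S : Subgroup G) (by omega : j ≤ n + 1)).trans hlevB) hjV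
    have hLnj : ∀ l ∈ L', l ∈ normalizer (lev (S : Subgroup G) j : Set G) := fun l hl =>
      hLj.norm _ hlevQ hCS (hLn hl)
    have hUX : U ≤ zc (lev (S : Subgroup G) j) := h.VX.trans
      (hLj.zc_le_zc (lev_mono (S : Subgroup G) (by omega : j ≤ n)) (lev_le _ _))
    refine no_low h h' hirr hA'B hne c3.le (fun x hx v hv => hXc x (hUX hx) v (hVX hv))
      (fun a ha x hx => hUc x hx a (hA'n ha)) fun l hl x hx => ?_
    have h1 : cj l A0 ∈ BO (S : Subgroup G) (lev (S : Subgroup G) j) := by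
      refine BO.conj hA0B (hLnj l hl) ?_
      have h2 : A0 ≤ B ⊓ centralizer (V' : Set G) := inf_le_inf_right _ hA'B
      have h3 := cj_mono l h2
      rw [cj_eq_of_mem_normalizer (hLn hl)] at h3
      exact h3.trans hCS
    have h2 : l⁻¹ * x * l ∈ zc (lev (S : Subgroup G) j) := by
      have h3 := cj_eq_of_mem_normalizer (normalizer_le_zc _ (hLnj l hl))
      rw [← mem_cj, h3]
      exact hUX hx
    have h3 : l⁻¹ * x * l ∈ zc (lev (S : Subgroup G) j) ⊓ centralizer (A0 : Set G) := by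
      refine mem_inf.2 ⟨h2, mem_centralizer_iff.2 fun a ha => ?_⟩
      have h4 : l * a * l⁻¹ ∈ lev (S : Subgroup G) n := (BO.le_nxt h1).trans hjn' ⟨a, ha, rfl⟩
      have h5 := hUc x hx _ h4
      calc a * (l⁻¹ * x * l) = l⁻¹ * ((l * a * l⁻¹) * x) * l := by group
        _ = l⁻¹ * (x * (l * a * l⁻¹)) * l := by rw [h5]
        _ = _ := by group
    rw [c4] at h3
    obtain ⟨w, hw, c, hc, e⟩ := mem_sup_comm (fun v hv c hc => hXc v (hVX hv) c (mem_inf.1 hc).1) h3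
    exact ⟨w, hw, c, fun a ha => mem_centralizer_iff.1 (mem_inf.1 hc).2 a ha, e⟩

end stage

end Cfsg.Agent.Omega.OM.Lev.LowBlk
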