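import Cfsg.Agent.Mrg.Omega.OM.Lev.Uni
import Cfsg.Agent.Mrg.Omega.OM.NX
import Cfsg.Agent.Mrg.Omega.SQ1.BauMin
import Cfsg.Agent.Mrg.Omega.NO3S.OneLine.LevOf
import Cfsg.Agent.Mrg.Omega.OM.WeakCl
import Cfsg.Agent.Mrg.Omega.NO3S.Level.Lim
import Cfsg.Agent.SporRec.MaxFix
import Cfsg.Agent.Mrg.Omega.OM.UniPlus
import Cfsg.Agent.Mrg.Omega.NO3S.OneLine.Nat

section


/-!
# The natural blocks over `B = C_T(Z_J)`, without `J(T)`

`M : NatC F T H V D k` : `V` a sum of `k` natural `SL₂(F)`-modules, `D = 1`;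
* `Wn M i`, `Cn M i`, `Xn M i` : the summands, the complements, the group inducing `SL₂(F)` on the `i`-th summand;
* `sec M i : NatSec F (St M i) V (Cn M i)`; `exists_up` : an element of `T` centralising the product of the lines acts as
  upper unitriangular matrices;
* `Hy` : the hypotheses on `B`, `ZJ`; `Hy.nx : NX F B (Xn M i) (Wn M i)`;
* `Hy.frL` : the frame `FrL`.
-/

set_option autoImplicit false
set_option linter.unusedSectionVars false

namespace Cfsg.Agent.Omega.OM.Lev.Nat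

open Subgroup Cfsg Cfsg.Agent.PLocal.ThompsonJ Cfsg.Agent.ZN Cfsg.Agent.ZN.ChoiceBase
open Cfsg.Agent.ZN.ChoiceSit
open Cfsg.Agent.Omega.NatPair Cfsg.Agent.Lib.SL2Mat
open Cfsg.Agent.Omega.SQ1.FFOne (NatSec)
open Cfsg.Agent.Omega.NO3S.OneLine (NatC)
open Cfsg.Agent.PLocal.ElemAbSup
open Cfsg.Agent.Omega.OM.Uni (NX)
open Cfsg.Agent.Omega.OM.Lev.Uni (FrL Best)
open Cfsg.Agent.Omega.FFThm (ElemM)
open scoped Pointwise commutatorElement

universe u

variable {G : Type u} [Group G] [Finite G]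

section defs

variable {F : Type} [Field F] {T H V D : Subgroup G} {k : ℕ} (M : NatC F T H V D k)

theorem ap_z (A : Matrix.SpecialLinearGroup (Fin 2) F) : ap A 0 = 0 :=
  ext2 (by rw [ap_zero']; simp) (by rw [ap_one']; simp)

/-- the `i`-th summand -/
def Wn (i : Fin k) : Subgroup G where
  carrier := {v | v ∈ V ∧ ∀ j, j ≠ i → M.nat.e v j = 0}
  mul_mem' := by
    rintro a b ⟨ha, ha'⟩ ⟨hb, hb'⟩
    exact ⟨mul_mem ha hb, fun j hj => by rw [M.nat.mul a ha b hb, Pi.add_apply, ha' j hj, hb' j hj, add_zero]⟩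
  one_mem' := ⟨one_mem _, fun j _ => by rw [M.map_one]; rfl⟩
  inv_mem' := by
    rintro a ⟨ha, ha'⟩
    exact ⟨inv_mem ha, fun j hj => by rw [M.map_inv ha, Pi.neg_apply, ha' j hj, neg_zero]⟩

/-- the complement of the `i`-th summand -/
def Cn (i : Fin k) : Subgroup G where
  carrier := {v | v ∈ V ∧ M.nat.e v i = 0}
  mul_mem' := by
    rintro a b ⟨ha, ha'⟩ ⟨hb, hb'⟩
    exact ⟨mul_mem ha hb, by rw [M.nat.mul a ha b hb, Pi.add_apply, ha', hb', add_zero]⟩
  one_mem' := ⟨one_mem _, by rw [M.map_one]; rfl⟩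
  inv_mem' := by
    rintro a ⟨ha, ha'⟩
    exact ⟨inv_mem ha, by rw [M.map_inv ha, Pi.neg_apply, ha', neg_zero]⟩

theorem mem_Wn {i : Fin k} {v : G} : v ∈ Wn M i ↔ v ∈ V ∧ ∀ j, j ≠ i → M.nat.e v j = 0 := Iff.rfl

theorem mem_Cn {i : Fin k} {v : G} : v ∈ Cn M i ↔ v ∈ V ∧ M.nat.e v i = 0 := Iff.rfl

/-- the elements of `H` acting as `SL₂` on the `i`-th summand and as upper unitriangular matrices on the others -/
def Xn (i : Fin k) : Subgroup G where
  carrier := {h | h ∈ H ∧ ∃ A, M.Acts h A ∧ ∀ j, j ≠ i → ∃ c, A j = up c}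
  mul_mem' := by
    rintro a b ⟨ha, A, hA, hA'⟩ ⟨hb, B, hB, hB'⟩
    refine ⟨mul_mem ha hb, A * B, NatC.acts_mul hb hA hB, fun j hj => ?_⟩
    obtain ⟨c, hc⟩ := hA' j hj
    obtain ⟨d, hd⟩ := hB' j hj
    exact ⟨c + d, by rw [Pi.mul_apply, hc, hd, up_mul]⟩
  one_mem' := ⟨one_mem _, 1, NatC.acts_one, fun j _ => ⟨0, by rw [up_zero]; rfl⟩⟩
  inv_mem' := by
    rintro a ⟨ha, A, hA, hA'⟩
    refine ⟨inv_mem ha, A⁻¹, NatC.acts_inv ha hA, fun j hj => ?_⟩
    obtain ⟨c, hc⟩ := hA' j hj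
    exact ⟨-c, by rw [Pi.inv_apply, hc, up_inv]⟩

theorem mem_Xn {i : Fin k} {h : G} : h ∈ Xn M i ↔ h ∈ H ∧ ∃ A, M.Acts h A ∧ ∀ j, j ≠ i → ∃ c, A j = up c := Iff.rfl

/-- the stabiliser of the complement of the `i`-th summand -/
def St (i : Fin k) : Subgroup G := H ⊓ normalizer (Cn M i : Set G)

theorem mem_St_of {i : Fin k} {h : G} (hh : h ∈ H)
    (hc : ∀ v ∈ V, M.nat.e v i = 0 → M.nat.e (h * v * h⁻¹) i = 0) : h ∈ St M i := by
  refine ⟨hh, mem_normalizer_iff_cj.2 (Subgroup.eq_of_le_of_card_ge ?_ (by rw [card_cj]))⟩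
  rintro _ ⟨v, hv, rfl⟩
  exact ⟨M.Vn h hh v hv.1, hc v hv.1 hv.2⟩

/-- The natural section `V / Cn i`. -/
def sec (i : Fin k) : NatSec F (St M i) V (Cn M i) where
  π := fun g => M.nat.e g i
  map_mul := fun v hv w hw => by rw [M.nat.mul v hv w hw]; rfl
  V0V := fun v hv => hv.1
  ker := fun v hv => ⟨fun h => ⟨hv, h⟩, fun h => h.2⟩
  surj := fun x => by
    obtain ⟨v, hv, e⟩ := M.nat.surj (fun _ => x)
    exact ⟨v, hv, by rw [e]⟩
  Vn := fun h hh v hv => M.Vn h hh.1 v hv
  V0n := fun h hh v hv => (mem_normalizer_iff.1 hh.2 v).1 hv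
  lift := fun A => by
    classical
    obtain ⟨g, hg, hA, -⟩ := M.nat.lift (Function.update 1 i A)
    have h1 : ∀ v ∈ V, M.nat.e (g * v * g⁻¹) i = ap A (M.nat.e v i) := fun v hv => by
      rw [hA v hv i, Function.update_self]
    exact ⟨g, mem_St_of M hg fun v hv h0 => by rw [h1 v hv, h0, ap_z], h1⟩
  norm := by
    classical
    intro g hg h hh A hA
    obtain ⟨x, hx, hxA, -⟩ := M.nat.lift (Function.update 1 i A)
    have h1 : ∀ v ∈ V, M.nat.e (x * v * x⁻¹) i = ap A (M.nat.e v i) := fun v hv => by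
      rw [hxA v hv i, Function.update_self]
    obtain ⟨B, hB⟩ := M.nat.norm g hg.1 x hx _ hxA
    refine ⟨B i, fun v hv => ?_⟩
    rw [← hB v hv i]
    have hv' : g⁻¹ * v * g ∈ V := by
      have := M.Vn g⁻¹ (inv_mem hg.1) v hv
      rwa [inv_inv] at this
    set w := g⁻¹ * v * g with hw
    have e1 : g * h * g⁻¹ * v * (g * h * g⁻¹)⁻¹ = g * (h * w * h⁻¹) * g⁻¹ := by rw [hw]; group
    have e2 : g * x * g⁻¹ * v * (g * x * g⁻¹)⁻¹ = g * (x * w * x⁻¹) * g⁻¹ := by rw [hw]; group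
    have hhV := M.Vn h hh.1 w hv'
    have hxV := M.Vn x hx w hv'
    have h3 : (h * w * h⁻¹) * (x * w * x⁻¹)⁻¹ ∈ Cn M i := by
      refine ⟨mul_mem hhV (inv_mem hxV), ?_⟩
      rw [M.map_div hhV hxV, Pi.sub_apply, hA w hv', h1 w hv', sub_self]
    have h4 := ((mem_normalizer_iff.1 hg.2 _).1 h3).2
    have e3 : g * (h * w * h⁻¹ * (x * w * x⁻¹)⁻¹) * g⁻¹ =
      (g * (h * w * h⁻¹) * g⁻¹) * (g * (x * w * x⁻¹) * g⁻¹)⁻¹ := by group
    rw [e3, M.map_div (M.Vn g hg.1 _ hhV) (M.Vn g hg.1 _ hxV), Pi.sub_apply, sub_eq_zero] at h4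
    rw [e1, e2]
    exact h4

/-- An element centralising the product of the lines fixes every summand. -/
theorem mem_St_of_line {b : G} (hb : b ∈ H)
    (hc : ∀ v ∈ V, (∀ i, M.nat.e v i 1 = 0) → b * v = v * b) (i : Fin k) : b ∈ St M i := by
  classical
  obtain ⟨σ, hσ⟩ := M.nat.perm b hb
  have h1 : σ i = i := by
    by_contra hne
    obtain ⟨v, hv, e⟩ := M.nat.surj (Function.update 0 i ![1, 0])
    have h2 : b * v = v * b := hc v hv fun j => by
      rw [e]
      by_cases hj : j = i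
      · subst hj; rw [Function.update_self]; rfl
      · rw [Function.update_of_ne hj]; rfl
    have h3 : b * v * b⁻¹ = v := by rw [h2]; group
    have h4 := (hσ v hv i).1 (by rw [h3, e, Function.update_of_ne hne]; rfl)
    rw [e, Function.update_self] at h4
    have := congrFun h4 0
    simp at this
  exact mem_St_of M hb fun v hv h0 => by
    have := (hσ v hv i).2 h0
    rwa [h1] at this

/-- **An element of `T` centralising the product of the lines acts as upper unitriangular matrices.** -/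
theorem exists_up [Finite F] [CharP F 2] (hT : Syl T H) {b : G} (hb : b ∈ T)
    (hc : ∀ v ∈ V, (∀ i, M.nat.e v i 1 = 0) → b * v = v * b) : ∃ c : Fin k → F, M.Acts b fun i => up (c i) := by
  classical
  obtain ⟨n, hn⟩ := hT.2.1 ⟨b, hb⟩
  have hn' : b ^ 2 ^ n = 1 := by
    have h0 := congrArg (fun t : T => (t : G)) hn
    simpa using h0
  have key : ∀ i, ∃ c : F, ∀ v ∈ V, M.nat.e (b * v * b⁻¹) i = ap (up c) (M.nat.e v i) := by
    intro i
    obtain ⟨c, hc'⟩ := (sec M i).up_of_line (mem_St_of_line M (hT.1 hb) hc i) hn' (by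
      intro v hv h1
      -- replace `v` by the element of the line
      change M.nat.e v i 1 = 0 at h1
      change M.nat.e (b * v * b⁻¹) i = M.nat.e v i
      obtain ⟨w, hw, e⟩ := M.nat.surj (Function.update 0 i (M.nat.e v i))
      have h2 : b * w = w * b := hc w hw fun j => by
        rw [e]
        by_cases hj : j = i
        · subst hj; rw [Function.update_self]; exact h1
        · rw [Function.update_of_ne hj]; rfl
      have h3 : b * w * b⁻¹ = w := by rw [h2]; group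
      have h4 : v * w⁻¹ ∈ Cn M i := by
        refine ⟨mul_mem hv (inv_mem hw), ?_⟩
        rw [M.map_div hv hw, Pi.sub_apply, e, Function.update_self, sub_self]
      have h5 := ((mem_normalizer_iff.1 (mem_St_of_line M (hT.1 hb) hc i).2 _).1 h4).2
      have e3 : b * (v * w⁻¹) * b⁻¹ = (b * v * b⁻¹) * (b * w * b⁻¹)⁻¹ := by group
      rw [e3, h3, M.map_div (M.Vn b (hT.1 hb) v hv) hw, Pi.sub_apply, sub_eq_zero] at h5
      rw [h5, e, Function.update_self])
    exact ⟨c, hc'⟩
  choose c hc' using key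
  exact ⟨c, fun v hv i => hc' i v hv⟩

end defs

/-! ### The hypotheses on `B`, `ZJ` -/

section hy

variable {F : Type} [Field F] {T H V D : Subgroup G} {k : ℕ}

/-- `ZJ` is the product of the lines, `B = C_T(ZJ)` is weakly closed and Sylow in `C_G(ZJ)`. -/
structure Hy (M : NatC F T H V D k) (B ZJ : Subgroup G) : Prop where
  syl : Syl T H
  D0 : D = ⊥
  eqB : B = T ⊓ centralizer (ZJ : Set G)
  mem_ZJ : ∀ v, v ∈ ZJ ↔ v ∈ V ∧ ∀ i, M.nat.e v i 1 = 0
  mem_o2 : ∀ x, x ∈ o2 H ↔ x ∈ T ∧ ∀ v ∈ V, x * v = v * x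
  zc_eq : zc (o2 H) = V
  wn : ∀ R : Subgroup G, IsPGroup 2 R → B ≤ R → R ≤ normalizer (B : Set G)
  sylB : ∀ R : Subgroup G, IsPGroup 2 R → B ≤ R → R ≤ centralizer (ZJ : Set G) → R = B

namespace Hy

variable {M : NatC F T H V D k} {B ZJ : Subgroup G} (h : Hy M B ZJ)
include h

theorem BT : B ≤ T := h.eqB.le.trans inf_le_left

theorem BH : B ≤ H := h.BT.trans h.syl.1

theorem cB {b z : G} (hb : b ∈ B) (hz : z ∈ ZJ) : b * z = z * b :=
  (mem_centralizer_iff.1 (h.eqB.le hb).2 z hz).symm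

theorem mem_B {t : G} (ht : t ∈ T) (hc : ∀ z ∈ ZJ, t * z = z * t) : t ∈ B := by
  rw [h.eqB]
  exact ⟨ht, mem_centralizer_iff.2 fun z hz => (hc z hz).symm⟩

theorem ZJV : ZJ ≤ V := fun v hv => ((h.mem_ZJ v).1 hv).1

theorem inj {v w : G} (hv : v ∈ V) (hw : w ∈ V) (he : M.nat.e v = M.nat.e w) : v = w := M.e_inj h.D0 hv hw he

theorem QB : o2 H ≤ B := fun x hx => h.mem_B ((h.mem_o2 x).1 hx).1 fun z hz => ((h.mem_o2 x).1 hx).2 z (h.ZJV hz)

/-- an element acting by upper unitriangular matrices centralises `ZJ` -/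
theorem cZJ_of {t : G} (ht : t ∈ H) {A : Fin k → Matrix.SpecialLinearGroup (Fin 2) F} (hA : M.Acts t A)
    (hup : ∀ i, ∃ c, A i = up c) {z : G} (hz : z ∈ ZJ) : t * z = z * t := by
  obtain ⟨hz1, hz2⟩ := (h.mem_ZJ z).1 hz
  refine mul_inv_eq_iff_eq_mul.1 (h.inj (M.Vn t ht z hz1) hz1 ?_)
  funext j
  rw [hA z hz1 j]
  obtain ⟨c, hc⟩ := hup j
  rw [hc]
  apply ext2
  · rw [ap_zero', hz2 j]; simp
  · rw [ap_one', hz2 j]; simp

theorem up_of [Finite F] [CharP F 2] {b : G} (hb : b ∈ B) :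
    ∃ c : Fin k → F, M.Acts b fun i => up (c i) :=
  exists_up M h.syl (h.BT hb) fun v hv hv1 => h.cB hb ((h.mem_ZJ v).2 ⟨hv, hv1⟩)

theorem exists_b (c : Fin k → F) : ∃ b ∈ B, M.Acts b fun i => up (c i) := by
  obtain ⟨t, ht, hA, -⟩ := M.nat.unip c
  exact ⟨t, h.mem_B ht fun z hz => h.cZJ_of (h.syl.1 ht) hA (fun i => ⟨c i, rfl⟩) hz, hA⟩

theorem zcB : zc B = ZJ := by
  ext z
  rw [ChoiceBase.mem_zc]
  constructor
  · rintro ⟨h1, h2, h3⟩
    have h4 : z ∈ o2 H := (h.mem_o2 z).2 ⟨h.BT h1, fun v hv => (h3 v (h.QB (M.VQ hv))).symm⟩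
    have h5 : z ∈ V := by
      rw [← h.zc_eq]
      exact ChoiceBase.mem_zc.2 ⟨h4, h2, fun y hy => h3 y (h.QB hy)⟩
    refine (h.mem_ZJ z).2 ⟨h5, fun i => ?_⟩
    obtain ⟨b, hb, hbA⟩ := h.exists_b fun _ => 1
    have h6 := hbA z h5 i
    have h7 : b * z * b⁻¹ = z := by rw [h3 b hb]; group
    rw [h7] at h6
    have h8 := congrFun h6 0
    rw [ap_zero', up_00, up_01, one_mul, one_mul] at h8
    exact left_eq_add.1 h8
  · intro hz
    obtain ⟨hz1, -⟩ := (h.mem_ZJ z).1 hz
    exact ⟨h.QB (M.VQ hz1), M.Vsq z hz1, fun b hb => h.cB hb hz⟩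

theorem norm_ZJ : normalizer (B : Set G) ≤ normalizer (ZJ : Set G) := by
  rw [← h.zcB]
  exact normalizer_le_of_cj (F := zc) LemmaK.Main.zc_cj B

/-- The natural pre-block. -/
noncomputable def nx [Finite F] [CharP F 2] (i : Fin k) : NX F B (Xn M i) (Wn M i) := by
  classical
  exact
  { π := fun g => M.nat.e g i
    mul := fun v hv w hw => by rw [M.nat.mul v hv.1 w hw.1]; rfl
    inj := fun v hv h0 => by
      refine h.inj hv.1 (one_mem _) ?_
      rw [M.map_one]
      funext j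
      by_cases hj : j = i
      · rw [hj]; exact h0
      · exact hv.2 j hj
    surj := fun x => by
      obtain ⟨v, hv, e⟩ := M.nat.surj (Function.update 0 i x)
      exact ⟨v, ⟨hv, fun j hj => by rw [e, Function.update_of_ne hj]; rfl⟩, by rw [e, Function.update_self]⟩
    el := isElementaryAbelian_iff.2 ⟨fun v hv w hw => M.Vcomm hv.1 hw.1, fun v hv => M.Vsq v hv.1⟩
    WB := fun v hv => h.QB (M.VQ hv.1)
    B2 := h.syl.2.1.to_le h.BT
    BX := fun b hb => by
      obtain ⟨c, hc⟩ := h.up_of hb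
      exact ⟨h.BH hb, _, hc, fun j _ => ⟨c j, rfl⟩⟩
    nW := fun l hl v hv => by
      obtain ⟨hlH, A, hA, -⟩ := hl
      refine ⟨M.Vn l hlH v hv.1, fun j hj => ?_⟩
      rw [hA v hv.1 j, hv.2 j hj, ap_z]
    acts := fun l hl => by
      obtain ⟨hlH, A, hA, -⟩ := hl
      exact ⟨A i, fun v hv => hA v hv.1 i⟩
    cov := fun A => by
      obtain ⟨l, hl, hA⟩ := M.nat.lift (Function.update 1 i A)
      refine ⟨l, ⟨hl, _, hA.1, fun j hj => ⟨0, by rw [Function.update_of_ne hj, up_zero]; rfl⟩⟩, fun v hv => ?_⟩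
      have := hA.1 v hv.1 i
      rwa [Function.update_self] at this
    up := fun b hb => by
      obtain ⟨c, hc⟩ := h.up_of hb
      exact ⟨c i, fun v hv => hc v hv.1 i⟩
    upc := fun c => by
      obtain ⟨b, hb, hc⟩ := h.exists_b fun _ => c
      exact ⟨b, hb, fun v hv => hc v hv.1 i⟩
    syl := fun R hR hRX h2 => by
      refine h.sylB R h2 hR fun r hr => ?_
      obtain ⟨hrH, A, hA, hA'⟩ := hRX hr
      -- `r` normalises `ZJ`
      have hrn : ∀ z ∈ ZJ, r * z * r⁻¹ ∈ ZJ := fun z hz =>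
        (mem_normalizer_iff.1 (h.norm_ZJ (h.wn R h2 hR hr)) z).1 hz
      -- so `A i` is upper triangular
      have h10 : ent (A i) 1 0 = 0 := by
        obtain ⟨z, hz, e⟩ := M.nat.surj (Function.update 0 i ![1, 0])
        have hzJ : z ∈ ZJ := by
          refine (h.mem_ZJ z).2 ⟨hz, fun j => ?_⟩
          rw [e]
          by_cases hj : j = i
          · subst hj; rw [Function.update_self]; rfl
          · rw [Function.update_of_ne hj]; rfl
        have h5 := ((h.mem_ZJ _).1 (hrn z hzJ)).2 i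
        rw [hA z hz i, e, Function.update_self, ap_one'] at h5
        simpa using h5
      -- a power of two of `A i` is the identity
      have h00 : ent (A i) 0 0 = 1 := by
        obtain ⟨n, hn⟩ := h2 ⟨r, hr⟩
        have hn' : r ^ 2 ^ n = 1 := by simpa using congrArg Subtype.val hn
        have hpow : ∀ m : ℕ, M.Acts (r ^ m) (A ^ m) := by
          intro m
          induction m with
          | zero => rw [pow_zero, pow_zero]; exact NatC.acts_one
          | succ m ih => rw [pow_succ, pow_succ]; exact NatC.acts_mul hrH ih hA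
        have h5 := hpow (2 ^ n)
        rw [hn'] at h5
        have h6 : (A i) ^ 2 ^ n = 1 := by
          have := congrFun (NatC.acts_unique h5 NatC.acts_one) i
          rwa [Pi.pow_apply, Pi.one_apply] at this
        have h7 : ∀ m : ℕ, ent ((A i) ^ m) 1 0 = 0 ∧ ent ((A i) ^ m) 0 0 = ent (A i) 0 0 ^ m := by
          intro m
          induction m with
          | zero => rw [pow_zero, pow_zero]; exact ⟨rfl, rfl⟩
          | succ m ih =>
            rw [pow_succ, ent_mul, ent_mul, h10, ih.1, ih.2, pow_succ]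
            simp
        have h8 := (h7 (2 ^ n)).2
        rw [h6, ent_one_00] at h8
        have h9 : (ent (A i) 0 0 - 1) ^ 2 ^ n = 0 := by
          have := sub_pow_char_pow (p := 2) (n := n) (ent (A i) 0 0) (1 : F)
          rw [this, ← h8, one_pow, sub_self]
        have h11 := pow_eq_zero_iff (pow_ne_zero n two_ne_zero) |>.1 h9
        exact sub_eq_zero.1 h11
      have hAi : A i = Lib.SL2Mat.up (ent (A i) 0 1) := by
        have h11 := det_eq (A i)
        rw [h10, h00, mul_zero, sub_zero, one_mul] at h11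
        exact ext_ent (by rw [up_00, h00]) (by rw [up_01]) (by rw [up_10, h10]) (by rw [up_11, h11])
      refine mem_centralizer_iff.2 fun z hz => (h.cZJ_of hrH hA (fun j => ?_) hz).symm
      by_cases hj : j = i
      · subst hj; exact ⟨_, hAi⟩
      · exact hA' j hj
    act := fun l hl z hz => by
      rw [h.zcB] at hz
      obtain ⟨hz1, hz2⟩ := (h.mem_ZJ z).1 hz
      obtain ⟨hlH, A, hA, hA'⟩ := hl
      refine ⟨mul_mem (M.Vn l hlH z hz1) (inv_mem hz1), fun j hj => ?_⟩
      obtain ⟨c, hc⟩ := hA' j hj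
      rw [M.map_div (M.Vn l hlH z hz1) hz1, Pi.sub_apply, hA z hz1 j, hc, sub_eq_zero]
      apply ext2
      · rw [ap_zero', hz2 j]; simp
      · rw [ap_one', hz2 j]; simp }

/-- **The frame at a level.** -/
theorem frL [Finite F] [CharP F 2] {X : Subgroup G} (elX : IsElementaryAbelian 2 X) (VX : V ≤ X)
    (HX : H ≤ normalizer (X : Set G))
    (hAA : ∀ i, ∃ A : Subgroup G, A ≤ T ∧ ElemM X A ∧ Best X A ∧
      (∀ a ∈ A, ∃ c : F, M.Acts a (Function.update 1 i (up c))) ∧
      ∀ c : F, ∃ a ∈ A, M.Acts a (Function.update 1 i (up c))) :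
    ∃ L Z A : Fin k → Subgroup G, (∀ i, L i ≤ Xn M i) ∧ (∀ i, A i ≤ T) ∧
      (∀ i A, ∃ l ∈ L i, ∃ A', M.Acts l A' ∧ A' i = A) ∧
      (∀ i v, v ∈ Z i ↔ v ∈ Wn M i ∧ M.nat.e v i 1 = 0) ∧
      FrL B (o2 H) V X ZJ L (Wn M) Z (Cn M) A (Nat.card F) := by
  classical
  choose A hA hAX hAb hA1 hA2 using hAA
  choose L hL1 hL2 hL3 hL4 hL5 using fun i => (h.nx i).exists_block
  have hLH : ∀ i, L i ≤ H := fun i l hl => (hL2 i hl).1
  refine ⟨L, fun i => (h.nx i).Zs, A, hL2, hA, ?_, fun i v => Iff.rfl, ?_⟩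
  · intro i B'
    obtain ⟨l, hl, h0⟩ := hL4 i B'
    obtain ⟨hlH, A', hA', -⟩ := hL2 i hl
    refine ⟨l, hl, A', hA', ?_⟩
    apply ap_inj
    intro x
    obtain ⟨v, hv, e⟩ := (h.nx i).surj x
    have h1 := h0 v hv
    have h2 := hA' v hv.1 i
    have e' : M.nat.e v i = x := e
    rw [e'] at h2
    rw [← h2, ← e]
    exact h1
  · exact
      { blk := hL3
        cardZ := fun i => (h.nx i).card_Zs
        QB := h.QB
        VQ := M.VQ
        elX := elX
        VX := VX
        mem_Q := fun x hx => by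
          rw [h.mem_o2]
          exact ⟨fun h0 => h0.2, fun h0 => ⟨h.BT hx, h0⟩⟩
        zcQ := fun x hx h2 hxc => by
          rw [← h.zc_eq]
          exact ChoiceBase.mem_zc.2 ⟨hx, h2, fun y hy => (hxc y hy).symm⟩
        mem_ZJ := by
          intro v
          constructor
          · intro hv
            exact ⟨h.ZJV hv, fun b hb => h.cB hb hv⟩
          · rintro ⟨hv, hvc⟩
            rw [← h.zcB]
            exact ChoiceBase.mem_zc.2 ⟨h.QB (M.VQ hv), M.Vsq v hv, hvc⟩
        LV := fun i l hl v hv => M.Vn l (hLH i hl) v hv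
        LQ := fun i l hl x hx => (mem_normalizer_iff.1 (ChoiceSit.le_normalizer_o2 H (hLH i hl)) x).1 hx
        LX := fun i l hl x hx => (mem_normalizer_iff.1 (HX (hLH i hl)) x).1 hx
        WV := fun i v hv => hv.1
        CV := fun i v hv => hv.1
        WC := by
          intro i v hv
          obtain ⟨w, hw, e⟩ := M.nat.surj (Function.update 0 i (M.nat.e v i))
          refine ⟨w, ⟨hw, fun j hj => by rw [e, Function.update_of_ne hj]; rfl⟩, w⁻¹ * v,
            ⟨mul_mem (inv_mem hw) hv, ?_⟩, by group⟩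
          rw [M.nat.mul _ (inv_mem hw) v hv, M.map_inv hw, Pi.add_apply, Pi.neg_apply, e, Function.update_self,
            neg_add_cancel]
        dir := by
          intro i
          rw [eq_bot_iff]
          rintro v ⟨hv1, hv2⟩
          rw [mem_bot]
          refine h.inj hv1.1 (one_mem _) ?_
          rw [M.map_one]
          funext j
          by_cases hj : j = i
          · rw [hj]; exact hv2.2
          · exact hv1.2 j hj
        C0 := by
          intro v hv h0
          refine h.inj hv (one_mem _) ?_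
          rw [M.map_one]
          funext j
          exact (h0 j).2
        WjC := fun i j hij v hv => ⟨hv.1, hv.2 i hij⟩
        BC := by
          intro i b hb c hc
          obtain ⟨x, hx⟩ := h.up_of hb
          refine ⟨M.Vn b (h.BH hb) c hc.1, ?_⟩
          rw [hx c hc.1 i, hc.2, ap_z]
        LC := by
          intro i l hl z hz hzC
          obtain ⟨hlH, A', hA', hA''⟩ := hL2 i hl
          obtain ⟨hz1, hz2⟩ := (h.mem_ZJ z).1 hz
          refine mul_inv_eq_iff_eq_mul.1 (h.inj (M.Vn l hlH z hz1) hz1 ?_)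
          funext j
          rw [hA' z hz1 j]
          by_cases hj : j = i
          · rw [hj, hzC.2, ap_z]
          · obtain ⟨c, hc⟩ := hA'' j hj
            rw [hc]
            apply ext2
            · rw [ap_zero', hz2 j]; simp
            · rw [ap_one', hz2 j]; simp
        AB := fun i a ha => h.mem_B (hA i ha) fun z hz => by
          obtain ⟨c, hc⟩ := hA1 i a ha
          refine h.cZJ_of (h.syl.1 (hA i ha)) hc (fun j => ?_) hz
          by_cases hj : j = i
          · subst hj; exact ⟨c, by rw [Function.update_self]⟩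
          · exact ⟨0, by rw [Function.update_of_ne hj, up_zero]; rfl⟩
        AX := hAX
        best := hAb
        Ane := by
          intro i h0
          obtain ⟨a, ha, hac⟩ := hA2 i 1
          obtain ⟨v, hv, e⟩ := M.nat.surj (Function.update 0 i ![0, 1])
          have h1 := h0 a ha v ⟨hv, fun j hj => by rw [e, Function.update_of_ne hj]; rfl⟩
          have h2 := hac v hv i
          rw [h1, mul_inv_cancel_right, Function.update_self, e, Function.update_self] at h2
          have h3 := congrFun h2 0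
          rw [ap_zero'] at h3
          simp at h3
        AC := by
          intro i a ha c hc
          obtain ⟨x, hx⟩ := hA1 i a ha
          have haH : a ∈ H := h.syl.1 (hA i ha)
          refine mul_inv_eq_iff_eq_mul.1 (h.inj (M.Vn a haH c hc.1) hc.1 ?_)
          funext j
          rw [hx c hc.1 j]
          by_cases hj : j = i
          · rw [hj, hc.2, ap_z]
          · rw [Function.update_of_ne hj, Pi.one_apply, ap_one] }

end Hy

end hy

end Cfsg.Agent.Omega.OM.Lev.Nat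

end

section


/-!
# `B = C_S(Z_J)` is weakly closed, for `Z_J = Ω₁(Z(K))`, `K` weakly closed in `S`

* `wc_cent` : `K ≤ B = C_S(ZJ)`, `K` weakly closed in `S`, `N_G(K) ≤ N_G(ZJ)` implies `WC B`;
* `wc_of_norm` : `N_G(T) ≤ N_G(K)` for all `K ≤ T ≤ S` implies that `K` is weakly closed in `S`; `wc_Lev`;
* `wc_lev` : `B = C_S(Ω₁(Z(lev S n)))` is weakly closed; `norm_lev` : `N_G(B) ≤ N_G(lev S n)`.
-/

set_option autoImplicit false
set_option linter.unusedSectionVars false

namespace Cfsg.Agent.Omega.OM.Lev.Wc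

open Subgroup Cfsg Cfsg.Agent.ZN.ChoiceBase
open Cfsg.Agent.ZN (zc)
open Cfsg.Agent.Omega.NO3S.Level (lev lev_isLev lev_wc nxt)

universe u

variable {G : Type u} [Group G] [Finite G]

theorem wc_cent (S : Sylow 2 G) {K B ZJ : Subgroup G} (hK : NO3b.Wc.WC (S : Subgroup G) K) (hKB : K ≤ B)
    (eqB : B = (S : Subgroup G) ⊓ centralizer (ZJ : Set G))
    (hN : normalizer (K : Set G) ≤ normalizer (ZJ : Set G)) : WeakCl.WC B := by
  intro T hT hBT g hg
  obtain ⟨S', hS'⟩ := hT.exists_le_sylow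
  obtain ⟨x, hx⟩ := MulAction.exists_smul_eq G S S'
  have hx2 : (S' : Subgroup G) = cj x (S : Subgroup G) := by
    rw [← hx, Sylow.coe_subgroup_smul]
    rfl
  have hTx : T ≤ cj x (S : Subgroup G) := hS'.trans hx2.le
  -- `x ∈ N(K)`
  have h1 : cj x⁻¹ K ≤ (S : Subgroup G) := by
    have := cj_mono x⁻¹ ((hKB.trans hBT).trans hTx)
    rwa [cj_inv_cj] at this
  have h2 := hK.eq x⁻¹ h1
  have hxK : cj x K = K := by
    have := congrArg (cj x) h2
    rw [cj_cj_inv] at this
    exact this.symm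
  -- `g ∈ N(K)`
  have h3 : cj (x⁻¹ * g) K ≤ (S : Subgroup G) := by
    have := cj_mono x⁻¹ (((cj_mono g hKB).trans hg).trans hTx)
    rw [cj_inv_cj, cj_cj] at this
    exact this
  have h4 := hK.eq _ h3
  have hgK : cj g K = K := by
    have := congrArg (cj x) h4
    rw [cj_cj, mul_inv_cancel_left, hxK] at this
    exact this
  have hxZ : cj x ZJ = ZJ := cj_eq_of_mem_normalizer (hN (mem_normalizer_iff_cj.2 hxK))
  have hgZ : cj g ZJ = ZJ := cj_eq_of_mem_normalizer (hN (mem_normalizer_iff_cj.2 hgK))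
  have hBx : cj x B = cj x (S : Subgroup G) ⊓ centralizer (ZJ : Set G) := by
    conv_lhs => rw [eqB]
    rw [cj_inf, cj_centralizer, hxZ]
  have hBC : B ≤ centralizer (ZJ : Set G) := eqB.le.trans inf_le_right
  have h5 : cj g B ≤ cj x B := by
    rw [hBx]
    refine le_inf (hg.trans hTx) ?_
    have := cj_mono g hBC
    rwa [cj_centralizer, hgZ] at this
  have h6 : B ≤ cj x B := by
    rw [hBx]
    exact le_inf (hBT.trans hTx) hBC
  have h7 : cj g B = cj x B := Subgroup.eq_of_le_of_card_ge h5 (by rw [card_cj, card_cj])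
  have h8 : B = cj x B := Subgroup.eq_of_le_of_card_ge h6 (by rw [card_cj])
  rw [h7, ← h8]

variable (S : Sylow 2 G)

theorem S_norm {n : ℕ} : (S : Subgroup G) ≤ normalizer ((zc (lev (S : Subgroup G) n) : Subgroup G) : Set G) :=
  (le_normalizer.trans ((lev_isLev (S : Subgroup G) n).norm _ (lev_isLev (S : Subgroup G) n).le le_rfl)).trans
    (NO3S.Level.normalizer_le_zc _)

theorem lev_le_B {n : ℕ} : lev (S : Subgroup G) n ≤
    (S : Subgroup G) ⊓ centralizer ((zc (lev (S : Subgroup G) n) : Subgroup G) : Set G) :=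
  le_inf (lev_isLev (S : Subgroup G) n).le (NO3S.Level.le_centralizer_zc _)

/-- **`B = C_S(Ω₁(Z(lev S n)))` is weakly closed.** -/
theorem wc_lev (n : ℕ) {B : Subgroup G}
    (eqB : B = (S : Subgroup G) ⊓ centralizer ((zc (lev (S : Subgroup G) n) : Subgroup G) : Set G)) :
    WeakCl.WC B :=
  wc_cent S (lev_wc n) (eqB ▸ lev_le_B S) eqB (NO3S.Level.normalizer_le_zc _)

/-- `N_G(B) ≤ N_G(lev S m)` for `m ≤ n`. -/
theorem norm_lev {m n : ℕ} (hmn : m ≤ n) {B : Subgroup G}
    (eqB : B = (S : Subgroup G) ⊓ centralizer ((zc (lev (S : Subgroup G) n) : Subgroup G) : Set G)) :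
    normalizer (B : Set G) ≤ normalizer (lev (S : Subgroup G) m : Set G) :=
  (lev_isLev (S : Subgroup G) m).norm _
    ((NO3S.Level.lev_mono _ hmn).trans (eqB ▸ lev_le_B S)) (eqB ▸ inf_le_left)

/-! ### `K` with `Lev S K` -/

variable {S}

theorem mem_norm_of {K : Subgroup G} (hKS : K ≤ (S : Subgroup G))
    (hn : ∀ T : Subgroup G, K ≤ T → T ≤ (S : Subgroup G) → normalizer (T : Set G) ≤ normalizer (K : Set G)) :
    ∀ (n : ℕ) (g : G), K ≤ cj g (S : Subgroup G) →
      Nat.card (S : Subgroup G) - Nat.card ↥((S : Subgroup G) ⊓ cj g (S : Subgroup G)) ≤ n →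
        g ∈ normalizer (K : Set G) := by
  have : Fact (Nat.Prime 2) := ⟨Nat.prime_two⟩
  intro n
  induction n with
  | zero =>
    intro g _ hcard
    have h1 : (S : Subgroup G) ⊓ cj g (S : Subgroup G) = (S : Subgroup G) :=
      Subgroup.eq_of_le_of_card_ge inf_le_left (by omega)
    have h2 : (S : Subgroup G) = cj g (S : Subgroup G) :=
      Subgroup.eq_of_le_of_card_ge (inf_eq_left.1 h1) (by rw [card_cj])
    exact hn _ hKS le_rfl (mem_normalizer_iff_cj.2 h2.symm)
  | succ n ih =>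
    intro g hKg hcard
    by_cases hn' : Nat.card (S : Subgroup G) - Nat.card ↥((S : Subgroup G) ⊓ cj g (S : Subgroup G)) ≤ n
    · exact ih g hKg hn'
    set T : Subgroup G := (S : Subgroup G) ⊓ cj g (S : Subgroup G) with hT
    have hlt : Nat.card T < Nat.card (S : Subgroup G) := by omega
    have hKT : K ≤ T := le_inf hKS hKg
    have hTS : T < (S : Subgroup G) := lt_of_le_of_ne inf_le_left fun h => by rw [h] at hlt; omega
    have hTS' : T < cj g (S : Subgroup G) :=
      lt_of_le_of_ne inf_le_right fun h => by rw [h, card_cj] at hlt; omega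
    have hNK : normalizer (T : Set G) ≤ normalizer (K : Set G) := hn T hKT hTS.le
    set R1 : Subgroup G := (S : Subgroup G) ⊓ normalizer (T : Set G) with hR1
    set R2 : Subgroup G := cj g (S : Subgroup G) ⊓ normalizer (T : Set G) with hR2
    have h1 : T < R1 := SporRec.MaxFix.lt_inf_normalizer S.isPGroup' hTS
    have h2 : T < R2 := SporRec.MaxFix.lt_inf_normalizer (isPGroup_cj g S.isPGroup') hTS'
    obtain ⟨U, hU, hRU⟩ := ZN.ChoiceSit.exists_syl (S.isPGroup'.to_le (inf_le_left : R1 ≤ (S : Subgroup G)))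
      (inf_le_right : R1 ≤ normalizer (T : Set G))
    obtain ⟨U', hU', hRU'⟩ := ZN.ChoiceSit.exists_syl ((isPGroup_cj g S.isPGroup').to_le
      (inf_le_left : R2 ≤ cj g (S : Subgroup G))) (inf_le_right : R2 ≤ normalizer (T : Set G))
    obtain ⟨m, hm, hmU⟩ := ZN.ChoiceSit.syl_conj hU hU'
    have hmK : m ∈ normalizer (K : Set G) := hNK hm
    obtain ⟨S', hS'⟩ := hU.2.1.exists_le_sylow
    obtain ⟨x, hx⟩ := MulAction.exists_smul_eq G S S'
    have hx2 : (S' : Subgroup G) = cj x (S : Subgroup G) := by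
      rw [← hx, Sylow.coe_subgroup_smul]
      rfl
    have hUx : U ≤ cj x (S : Subgroup G) := hS'.trans hx2.le
    -- `x ∈ N(K)`
    have hxK : x ∈ normalizer (K : Set G) := by
      refine ih x ((hKT.trans h1.le).trans (hRU.trans hUx)) ?_
      have h3 : Nat.card R1 ≤ Nat.card ↥((S : Subgroup G) ⊓ cj x (S : Subgroup G)) :=
        Subgroup.card_le_of_le (le_inf inf_le_left (hRU.trans hUx))
      have h5 : Nat.card T < Nat.card R1 := by
        rcases lt_or_eq_of_le (Subgroup.card_le_of_le h1.le) with h | h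
        · exact h
        · exact absurd (Subgroup.eq_of_le_of_card_ge h1.le h.ge) h1.ne
      omega
    -- `y = (m x)⁻¹ g ∈ N(K)`
    have hmx : m * x ∈ normalizer (K : Set G) := mul_mem hmK hxK
    have hmx' := cj_eq_of_mem_normalizer (inv_mem hmx)
    have hU'x : U' ≤ cj (m * x) (S : Subgroup G) := by
      rw [← hmU, ← cj_cj]
      exact cj_mono m hUx
    have hy : (m * x)⁻¹ * g ∈ normalizer (K : Set G) := by
      refine ih _ ?_ ?_
      · rw [← cj_cj, ← hmx']
        exact cj_mono _ hKg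
      · have h3 : cj (m * x)⁻¹ R2 ≤ (S : Subgroup G) ⊓ cj ((m * x)⁻¹ * g) (S : Subgroup G) := by
          refine le_inf ?_ ?_
          · have := cj_mono (m * x)⁻¹ (hRU'.trans hU'x)
            rwa [cj_inv_cj] at this
          · rw [← cj_cj]
            exact cj_mono _ inf_le_left
        have h4 := Subgroup.card_le_of_le h3
        rw [card_cj] at h4
        have h5 : Nat.card T < Nat.card R2 := by
          rcases lt_or_eq_of_le (Subgroup.card_le_of_le h2.le) with h | h
          · exact h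
          · exact absurd (Subgroup.eq_of_le_of_card_ge h2.le h.ge) h2.ne
        omega
    have := mul_mem hmx hy
    rwa [mul_inv_cancel_left] at this

/-- `N_G(T) ≤ N_G(K)` for all `K ≤ T ≤ S`: `K` is weakly closed in `S`. -/
theorem wc_of_norm {K : Subgroup G} (hKS : K ≤ (S : Subgroup G))
    (hn : ∀ T : Subgroup G, K ≤ T → T ≤ (S : Subgroup G) → normalizer (T : Set G) ≤ normalizer (K : Set G)) :
    NO3b.Wc.WC (S : Subgroup G) K where
  le := hKS
  eq := fun g hg => by
    have h1 : K ≤ cj g⁻¹ (S : Subgroup G) := by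
      have := cj_mono g⁻¹ hg
      rwa [cj_inv_cj] at this
    have h2 := mem_norm_of hKS hn _ g⁻¹ h1 le_rfl
    have h3 := inv_mem h2
    rw [inv_inv] at h3
    exact cj_eq_of_mem_normalizer h3

theorem wc_Lev {K : Subgroup G} (hL : NO3S.Level.Lev (S : Subgroup G) K) : NO3b.Wc.WC (S : Subgroup G) K :=
  wc_of_norm hL.le hL.norm

/-- **`B = C_S(Ω₁(Z(K)))` is weakly closed**, `Lev S K`. -/
theorem wc_cent_Lev {K B : Subgroup G} (hL : NO3S.Level.Lev (S : Subgroup G) K)
    (eqB : B = (S : Subgroup G) ⊓ centralizer ((zc K : Subgroup G) : Set G)) : WeakCl.WC B :=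
  wc_cent S (wc_Lev hL) (eqB ▸ le_inf hL.le (NO3S.Level.le_centralizer_zc K)) eqB
    (NO3S.Level.normalizer_le_zc _)

theorem S_norm_Lev {K : Subgroup G} (hL : NO3S.Level.Lev (S : Subgroup G) K) :
    (S : Subgroup G) ≤ normalizer ((zc K : Subgroup G) : Set G) :=
  (le_normalizer.trans (hL.norm _ hL.le le_rfl)).trans (NO3S.Level.normalizer_le_zc _)

/-- `N_G(B) ≤ N_G(K)` for `B = C_S(Ω₁(Z(nxt S K)))`. -/
theorem norm_B_Lev {K B : Subgroup G} (hL : NO3S.Level.Lev (S : Subgroup G) K)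
    (eqB : B = (S : Subgroup G) ⊓ centralizer ((zc (nxt (S : Subgroup G) K) : Subgroup G) : Set G)) :
    normalizer (B : Set G) ≤ normalizer (K : Set G) :=
  hL.norm _ (eqB ▸ (NO3S.Level.le_nxt hL.le).trans
    (le_inf (NO3S.Level.nxt_le _ _) (NO3S.Level.le_centralizer_zc _))) (eqB ▸ inf_le_left)

end Cfsg.Agent.Omega.OM.Lev.Wc

end

section


/-!
# The offenders of the frame at a level

* `best_of_split` : `A ∈ AA` the product of `E`, `E'` with `V = C_V(E) C_V(E')`: `E` is a best offender on `X`;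
* `exists_one` : for every block a best offender which acts exactly as the root group of this block;
* `hy_of` : the structure `Nat.Hy` for `P ∈ P*(S)`, `B = C_S(ZJ)`.
-/

set_option autoImplicit false
set_option linter.unusedSectionVars false
set_option linter.unusedVariables false

namespace Cfsg.Agent.Omega.OM.Lev.Exa

open Subgroup Cfsg Cfsg.Agent.PLocal.ThompsonJ Cfsg.Agent.ZN Cfsg.Agent.ZN.ChoiceBase Cfsg.Agent.Omega.MinPar
open Cfsg.Agent.Omega.NatPair (ap ap_zero' ap_one' ap_one ap_mul ext2)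
open Cfsg.Agent.Lib.SL2Mat
open Cfsg.Agent.Omega.SQ1.FFOne
open Cfsg.Agent.Omega.SQ1.Bau (elem_comm elem_sq card_sup_comm)
open Cfsg.Agent.Omega.FFThm (NatK ActsSL Off OffM NatKM ElemM NoOverM)
open Cfsg.Agent.Omega.FrameFF (cv)
open Cfsg.Agent.Omega.NO3S.OneLine
open Cfsg.Agent.Omega.OM.Lev.Uni (FrL Best)
open Cfsg.Agent.Omega.OM.Lev.Nat

universe u

variable {G : Type u} [Group G] [Finite G] {S : Sylow 2 G} {P X L : Subgroup G} {AA : Set (Subgroup G)}

section split

variable (h : NO3S.OneLine.Exa S P X L AA)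
include h

/-- A factor of a best offender. -/
theorem best_of_split {A : Subgroup G} (hA : A ∈ AA) {E E' : Subgroup G} (hE : E ≤ A) (hE' : E' ≤ A)
    (h0 : E ⊓ E' = A ⊓ o2 P) (hEE : ∀ a ∈ A, ∃ e ∈ E, ∃ e' ∈ E', a = e * e')
    (hV : ∀ v ∈ zl (S : Subgroup G) P, ∃ u ∈ zl (S : Subgroup G) P, ∃ w ∈ zl (S : Subgroup G) P,
      (∀ e ∈ E, e * u = u * e) ∧ (∀ e ∈ E', e * w = w * e) ∧ v = u * w) : Best X E := by
  set V := zl (S : Subgroup G) P with hVd
  have hAS := h.fam.le A hA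
  have hA0 : A ⊓ o2 P ≤ E := h0.ge.trans inf_le_left
  have hA0' : A ⊓ o2 P ≤ E' := h0.ge.trans inf_le_right
  have hXc := h.Xc
  have hVX := h.VX
  -- (1)
  have c1 : Nat.card A * Nat.card ↥(A ⊓ o2 P) ≤ Nat.card E * Nat.card E' := by
    choose! f hf g hg hfg using hEE
    rw [← Nat.card_prod, ← Nat.card_prod]
    refine Nat.card_le_card_of_injective (fun p : A × (A ⊓ o2 P : Subgroup G) =>
      ((⟨f p.1 * p.2, mul_mem (hf _ p.1.2) (hA0 p.2.2)⟩, ⟨(p.2 : G)⁻¹ * g p.1, mul_mem (inv_mem (hA0' p.2.2))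
        (hg _ p.1.2)⟩) : E × E')) ?_
    rintro ⟨⟨a, ha⟩, ⟨x, hx⟩⟩ ⟨⟨b, hb⟩, ⟨y, hy⟩⟩ hab
    simp only [Prod.mk.injEq, Subtype.mk.injEq] at hab
    obtain ⟨h1, h2⟩ := hab
    have h3 : a = b := by
      rw [hfg a ha, hfg b hb]
      calc f a * g a = (f a * x) * (x⁻¹ * g a) := by group
        _ = (f b * y) * (y⁻¹ * g b) := by rw [h1, h2]
        _ = f b * g b := by group
    subst h3
    have h4 : x = y := mul_left_cancel h1
    subst h4
    rfl
  -- (2)
  have hVc : ∀ x ∈ V, ∀ y ∈ V, x * y = y * x := fun x hx y hy => hXc x (hVX hx) y (hVX hy)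
  have c2 : Nat.card V * Nat.card ↥(V ⊓ centralizer (A : Set G)) =
      Nat.card ↥(V ⊓ centralizer (E : Set G)) * Nat.card ↥(V ⊓ centralizer (E' : Set G)) := by
    have h1 := card_sup_comm (A := V ⊓ centralizer (E : Set G)) (B := V ⊓ centralizer (E' : Set G))
      fun a ha b hb => hVc a ha.1 b hb.1
    have h2 : (V ⊓ centralizer (E : Set G)) ⊔ (V ⊓ centralizer (E' : Set G)) = V := by
      refine le_antisymm (sup_le inf_le_left inf_le_left) fun v hv => ?_
      obtain ⟨u, hu, w, hw, h3, h4, rfl⟩ := hV v hv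
      exact mul_mem (mem_sup_left ⟨hu, mem_centralizer_iff.2 h3⟩) (mem_sup_right ⟨hw, mem_centralizer_iff.2 h4⟩)
    have h3 : (V ⊓ centralizer (E : Set G)) ⊓ (V ⊓ centralizer (E' : Set G)) = V ⊓ centralizer (A : Set G) := by
      apply le_antisymm
      · rintro x ⟨⟨hx, hxE⟩, ⟨-, hxE'⟩⟩
        refine ⟨hx, mem_centralizer_iff.2 fun a ha => ?_⟩
        obtain ⟨e, he, e', he', rfl⟩ := hEE a ha
        have d1 : Commute e x := mem_centralizer_iff.1 hxE e he
        have d2 : Commute e' x := mem_centralizer_iff.1 hxE' e' he'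
        exact (d1.mul_left d2).eq
      · exact le_inf (inf_le_inf_left _ (centralizer_le hE)) (inf_le_inf_left _ (centralizer_le hE'))
    rwa [h2, h3] at h1
  -- (3), (4)
  have key : ∀ E₀ : Subgroup G, E₀ ≤ A → A ⊓ o2 P ≤ E₀ →
      Nat.card E₀ * Nat.card ↥(V ⊓ centralizer (E₀ : Set G)) ≤ Nat.card V * Nat.card ↥(A ⊓ o2 P) := by
    intro E₀ h1 h2
    have h3 := h.noOver E₀ ((h1.trans hAS).trans h.SP) (elemM_mono (h.fam.elem A hA) hVX h1)
    rw [h.inf_cent (h1.trans hAS)] at h3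
    have h4 : E₀ ⊓ o2 P = A ⊓ o2 P :=
      le_antisymm (inf_le_inf_right _ h1) (le_inf h2 inf_le_right)
    rwa [h4] at h3
  have c3 := key E hE hA0
  have c4 := key E' hE' hA0'
  have c5 := h.exact hA
  rw [← hVd] at c5
  have hp0 : 0 < Nat.card ↥(A ⊓ o2 P) := Nat.card_pos
  have hpV : 0 < Nat.card V := Nat.card_pos
  have hp : 0 < Nat.card V * Nat.card ↥(A ⊓ o2 P) := Nat.mul_pos hpV hp0
  have c6 : Nat.card V * Nat.card ↥(A ⊓ o2 P) ≤
      Nat.card E * Nat.card ↥(V ⊓ centralizer (E : Set G)) := by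
    refine Nat.le_of_mul_le_mul_right ?_ hp
    calc (Nat.card V * Nat.card ↥(A ⊓ o2 P)) * (Nat.card V * Nat.card ↥(A ⊓ o2 P))
        = (Nat.card A * Nat.card ↥(V ⊓ centralizer (A : Set G))) * (Nat.card V * Nat.card ↥(A ⊓ o2 P)) := by
          rw [c5]
      _ = (Nat.card A * Nat.card ↥(A ⊓ o2 P)) * (Nat.card V * Nat.card ↥(V ⊓ centralizer (A : Set G))) := by ring
      _ ≤ (Nat.card E * Nat.card E') * (Nat.card ↥(V ⊓ centralizer (E : Set G)) *
          Nat.card ↥(V ⊓ centralizer (E' : Set G))) := by rw [c2]; exact Nat.mul_le_mul_right _ c1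
      _ = (Nat.card E * Nat.card ↥(V ⊓ centralizer (E : Set G))) *
          (Nat.card E' * Nat.card ↥(V ⊓ centralizer (E' : Set G))) := by ring
      _ ≤ _ := Nat.mul_le_mul_left _ c4
  -- (7)
  have c7 : Nat.card ↥(V ⊓ centralizer (E : Set G)) * Nat.card ↥(X ⊓ centralizer (A : Set G)) ≤
      Nat.card ↥(X ⊓ centralizer (E : Set G)) * Nat.card ↥(V ⊓ centralizer (A : Set G)) := by
    have h1 := card_sup_comm (A := V ⊓ centralizer (E : Set G)) (B := X ⊓ centralizer (A : Set G))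
      fun a ha b hb => hXc a (hVX ha.1) b hb.1
    have h2 : (V ⊓ centralizer (E : Set G)) ⊓ (X ⊓ centralizer (A : Set G)) = V ⊓ centralizer (A : Set G) := by
      apply le_antisymm
      · rintro x ⟨⟨hx, -⟩, -, hxA⟩
        exact ⟨hx, hxA⟩
      · rintro x ⟨hx, hxA⟩
        exact ⟨⟨hx, centralizer_le hE hxA⟩, hVX hx, hxA⟩
    rw [h2] at h1
    rw [← h1]
    refine Nat.mul_le_mul_right _ (Subgroup.card_le_of_le (sup_le (inf_le_inf_right _ hVX) ?_))
    exact inf_le_inf_left _ (centralizer_le hE)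
  -- (8)
  have hpA : 0 < Nat.card ↥(V ⊓ centralizer (A : Set G)) := Nat.card_pos
  have c8 : Nat.card A * Nat.card ↥(X ⊓ centralizer (A : Set G)) ≤
      Nat.card E * Nat.card ↥(X ⊓ centralizer (E : Set G)) := by
    refine Nat.le_of_mul_le_mul_right ?_ hpA
    calc Nat.card A * Nat.card ↥(X ⊓ centralizer (A : Set G)) * Nat.card ↥(V ⊓ centralizer (A : Set G))
        = (Nat.card A * Nat.card ↥(V ⊓ centralizer (A : Set G))) * Nat.card ↥(X ⊓ centralizer (A : Set G)) := by
          ring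
      _ = (Nat.card V * Nat.card ↥(A ⊓ o2 P)) * Nat.card ↥(X ⊓ centralizer (A : Set G)) := by rw [c5]
      _ ≤ (Nat.card E * Nat.card ↥(V ⊓ centralizer (E : Set G))) * Nat.card ↥(X ⊓ centralizer (A : Set G)) :=
          Nat.mul_le_mul_right _ c6
      _ = Nat.card E * (Nat.card ↥(V ⊓ centralizer (E : Set G)) * Nat.card ↥(X ⊓ centralizer (A : Set G))) := by
          ring
      _ ≤ Nat.card E * (Nat.card ↥(X ⊓ centralizer (E : Set G)) * Nat.card ↥(V ⊓ centralizer (A : Set G))) :=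
          Nat.mul_le_mul_left _ c7
      _ = _ := by ring
  intro F' hF hFE
  refine (h.fam.best A hA F' (le_trans ?_ hF) (hFE.trans hE)).trans c8
  refine le_inf (le_trans ?_ hA0) inf_le_right
  rw [← h.inf_cent hAS]
  exact inf_le_inf_left _ (centralizer_le hVX)

end split

section nat

variable {F : Type} [Field F] [Finite F] [CharP F 2] {k : ℕ}

/-- The parametrised natural modules. -/
noncomputable def natM (h : NO3S.OneLine.Exa S P X L AA)
    (N : NatKM F (S : Subgroup G) P (zl (S : Subgroup G) P) (cv (S : Subgroup G) P) k) (hk : 0 < k) :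
    NatC F (S : Subgroup G) P (zl (S : Subgroup G) P) (cv (S : Subgroup G) P) k :=
  natC_of h.minH' hk N.toNatK

variable (h : NO3S.OneLine.Exa S P X L AA)
  (N : NatKM F (S : Subgroup G) P (zl (S : Subgroup G) P) (cv (S : Subgroup G) P) k) (hk : 0 < k)
include h N hk

theorem natM_nat : (natM h N hk).nat = N.toNatK := rfl

/-- **For every block a best offender which acts exactly as the root group of this block.** -/
theorem exists_one (j : Fin k) : ∃ A : Subgroup G, A ≤ (S : Subgroup G) ∧ ElemM X A ∧ Best X A ∧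
    (∀ a ∈ A, ∃ c : F, (natM h N hk).Acts a (Function.update 1 j (up c))) ∧
    ∀ c : F, ∃ a ∈ A, (natM h N hk).Acts a (Function.update 1 j (up c)) := by
  classical
  set M := natM h N hk with hM
  have hD := h.cv_eq_bot N
  obtain ⟨A, hA, hroot⟩ := h.exists_root N hk j
  have hAS := h.fam.le A hA
  have hAP : A ≤ P := hAS.trans h.SP
  have hupd : ∀ c : F, (Pi.mulSingle j (up c) : Fin k → Matrix.SpecialLinearGroup (Fin 2) F) =
      (Function.update 1 j (up c) : Fin k → Matrix.SpecialLinearGroup (Fin 2) F) := fun c => rfl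
  have hAQ : ¬ A ≤ o2 P := by
    intro hAQ
    obtain ⟨a, ha, hac⟩ := hroot 1
    obtain ⟨v, hv, e⟩ := N.surj (Function.update 0 j ![0, 1])
    have h1 := h.comm_Q a (hAQ ha) v hv
    have h2 := hac.1 v hv j
    have h3 : a * v * a⁻¹ = v := by rw [h1]; group
    rw [h3, Pi.mulSingle_eq_same, e, Function.update_self] at h2
    have h4 := congrFun h2 0
    rw [ap_zero'] at h4
    simp at h4
  obtain ⟨I, h1, h2⟩ := N.offM A hAS (h.offM hA hAQ)
  have hact : ∀ a ∈ A, ∃ b : Fin k → F, (∀ i, i ∉ I → b i = 0) ∧ M.Acts a fun i => up (b i) := fun a ha => by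
    obtain ⟨b, hb0, hb⟩ := h1 a ha
    exact ⟨b, hb0, hb.1⟩
  have hupinj : ∀ b c : F, (up b : Matrix.SpecialLinearGroup (Fin 2) F) = up c → b = c := fun b c hbc => by
    have : ent (up b : Matrix.SpecialLinearGroup (Fin 2) F) 0 1 = ent (up c) 0 1 := by rw [hbc]
    rwa [up_01, up_01] at this
  have hup1 : (Function.update 1 j 1 : Fin k → Matrix.SpecialLinearGroup (Fin 2) F) = 1 := by
    funext i
    by_cases hi : i = j
    · subst hi; rw [Function.update_self]; rfl
    · rw [Function.update_of_ne hi]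
  -- trivial action
  have htriv : ∀ a ∈ A, M.Acts a 1 → a ∈ o2 P := by
    intro a ha ha1
    rw [← IsParS.inf_centralizer S h.char2 h.star]
    refine ⟨hAS ha, mem_centralizer_iff.2 fun v hv => ?_⟩
    have h5 := M.acts_eq hD (hAP ha) (one_mem P) ha1 NatC.acts_one hv
    rw [one_mul, inv_one, mul_one] at h5
    calc v * a = (a * v * a⁻¹) * a := by rw [h5]
      _ = a * v := by group
  have htriv' : ∀ a ∈ A ⊓ o2 P, M.Acts a 1 := by
    intro a ha v hv i
    have h5 : a * v * a⁻¹ = v := by rw [h.comm_Q a ha.2 v hv]; group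
    rw [h5, Pi.one_apply, ap_one]
  let E : Subgroup G :=
    { carrier := {a | a ∈ A ∧ ∃ c : F, M.Acts a (Function.update 1 j (up c))}
      mul_mem' := by
        rintro a b ⟨ha, c, hc⟩ ⟨hb, d, hd⟩
        refine ⟨mul_mem ha hb, c + d, ?_⟩
        have := NatC.acts_mul (hAP hb) hc hd
        rw [← hupd, ← hupd, ← Pi.mulSingle_mul, up_mul, hupd] at this
        exact this
      one_mem' := ⟨one_mem _, 0, by rw [← hupd, up_zero, Pi.mulSingle_one]; exact NatC.acts_one⟩
      inv_mem' := by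
        rintro a ⟨ha, c, hc⟩
        refine ⟨inv_mem ha, -c, ?_⟩
        have := NatC.acts_inv (hAP ha) hc
        rw [← hupd, ← Pi.mulSingle_inv, up_inv, hupd] at this
        exact this }
  let E' : Subgroup G :=
    { carrier := {a | a ∈ A ∧ ∃ b : Fin k → F, b j = 0 ∧ M.Acts a fun i => up (b i)}
      mul_mem' := by
        rintro a b ⟨ha, c, hc0, hc⟩ ⟨hb, d, hd0, hd⟩
        refine ⟨mul_mem ha hb, c + d, by rw [Pi.add_apply, hc0, hd0, add_zero], ?_⟩
        have h5 := NatC.acts_mul (hAP hb) hc hd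
        have h6 : ((fun i => up (c i)) * (fun i => up (d i)) : Fin k → Matrix.SpecialLinearGroup (Fin 2) F) =
            fun i => up ((c + d) i) := funext fun i => up_mul _ _
        rwa [h6] at h5
      one_mem' := by
        refine ⟨one_mem _, 0, rfl, ?_⟩
        have h6 : (fun i => up ((0 : Fin k → F) i) : Fin k → Matrix.SpecialLinearGroup (Fin 2) F) = 1 :=
          funext fun i => up_zero
        rw [h6]
        exact NatC.acts_one
      inv_mem' := by
        rintro a ⟨ha, c, hc0, hc⟩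
        refine ⟨inv_mem ha, -c, by rw [Pi.neg_apply, hc0, neg_zero], ?_⟩
        have h5 := NatC.acts_inv (hAP ha) hc
        have h6 : (fun i => up (c i) : Fin k → Matrix.SpecialLinearGroup (Fin 2) F)⁻¹ =
            fun i => up ((-c) i) := funext fun i => up_inv _
        rwa [h6] at h5 }
  have hEA : E ≤ A := fun a ha => ha.1
  have hE'A : E' ≤ A := fun a ha => ha.1
  have hsingle : ∀ c : F, (Function.update 1 j (up c) : Fin k → Matrix.SpecialLinearGroup (Fin 2) F) =
      (fun i => up ((Function.update 0 j c : Fin k → F) i) : Fin k → Matrix.SpecialLinearGroup (Fin 2) F) := by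
    intro c
    funext i
    by_cases hi : i = j
    · subst hi; rw [Function.update_self, Function.update_self]
    · rw [Function.update_of_ne hi, Function.update_of_ne hi]
      exact up_zero.symm
  refine ⟨E, hEA.trans hAS, elemM_mono (h.fam.elem A hA) le_rfl hEA, ?_, fun a ha => ha.2, fun c => ?_⟩
  · refine best_of_split h hA hEA hE'A ?_ ?_ ?_
    · apply le_antisymm
      · rintro a ⟨⟨ha, c, hc⟩, -, b, hb0, hb⟩
        refine ⟨ha, htriv a ha ?_⟩
        have h5 := NatC.acts_unique hc hb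
        have h6 := congrFun h5 j
        rw [Function.update_self, hb0] at h6
        rw [hupinj _ _ h6, up_zero] at hc
        rwa [hup1] at hc
      · intro a ha
        have h5 := htriv' a ha
        refine ⟨⟨ha.1, 0, ?_⟩, ha.1, 0, rfl, ?_⟩
        · rwa [up_zero, hup1]
        · have h6 : (fun i => up ((0 : Fin k → F) i) : Fin k → Matrix.SpecialLinearGroup (Fin 2) F) = 1 :=
            funext fun i => up_zero
          rwa [h6]
    · intro a ha
      obtain ⟨b, hb0, hb⟩ := hact a ha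
      obtain ⟨e, he, hec⟩ := hroot (b j)
      have he' : M.Acts e (Function.update 1 j (up (b j))) := hec.1
      have he'' : M.Acts e (fun i => up ((Function.update 0 j (b j) : Fin k → F) i)) := by
        rw [← hsingle]; exact he'
      refine ⟨e, ⟨he, _, he'⟩, e⁻¹ * a, ⟨mul_mem (inv_mem he) ha, fun i => b i - (Function.update 0 j (b j) : Fin k → F) i,
        ?_, ?_⟩, by group⟩
      · show b j - (Function.update 0 j (b j) : Fin k → F) j = 0
        rw [Function.update_self, sub_self]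
      · have h5 := NatC.acts_mul (hAP ha) (NatC.acts_inv (hAP he) he'') hb
        have h6 : ((fun i => up ((Function.update 0 j (b j) : Fin k → F) i) :
            Fin k → Matrix.SpecialLinearGroup (Fin 2) F)⁻¹ * (fun i => up (b i)) :
            Fin k → Matrix.SpecialLinearGroup (Fin 2) F) =
            fun i => up (b i - (Function.update 0 j (b j) : Fin k → F) i) := by
          funext i
          rw [Pi.mul_apply, Pi.inv_apply, up_inv, up_mul]
          congr 1
          ring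
        rwa [h6] at h5
    · intro v hv
      obtain ⟨w, hw, e⟩ := N.surj (Function.update 0 j (N.e v j))
      have hwv : v * w⁻¹ ∈ zl (S : Subgroup G) P := mul_mem hv (inv_mem hw)
      have he0 : N.e (v * w⁻¹) j = 0 := by
        rw [show N.e (v * w⁻¹) = N.e v - N.e w from M.map_div hv hw, Pi.sub_apply, e, Function.update_self, sub_self]
      refine ⟨v * w⁻¹, hwv, w, hw, ?_, ?_, by group⟩
      · rintro a ⟨ha, c, hc⟩
        have h5 : a * (v * w⁻¹) * a⁻¹ = v * w⁻¹ := by
          refine M.e_inj hD (M.Vn a (hAP ha) _ hwv) hwv ?_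
          funext i
          rw [hc _ hwv i]
          by_cases hi : i = j
          · subst hi
            rw [show M.nat.e (v * w⁻¹) i = 0 from he0, ap_z]
          · rw [Function.update_of_ne hi, Pi.one_apply, ap_one]
        calc a * (v * w⁻¹) = a * (v * w⁻¹) * a⁻¹ * a := by group
          _ = v * w⁻¹ * a := by rw [h5]
      · rintro a ⟨ha, b, hb0, hb⟩
        have h5 : a * w * a⁻¹ = w := by
          refine M.e_inj hD (M.Vn a (hAP ha) _ hw) hw ?_
          funext i
          rw [hb _ hw i]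
          by_cases hi : i = j
          · subst hi
            beta_reduce
            rw [hb0, up_zero, ap_one]
          · rw [show M.nat.e w i = 0 from by
              change N.e w i = 0
              rw [e, Function.update_of_ne hi]; rfl, ap_z]
        calc a * w = a * w * a⁻¹ * a := by group
          _ = w * a := by rw [h5]
  · obtain ⟨a, ha, hac⟩ := hroot c
    exact ⟨a, ⟨ha, c, hac.1⟩, hac.1⟩

/-- **The hypotheses on `B`, `ZJ`.** -/
theorem hy_of {B ZJ : Subgroup G} (eqB : B = (S : Subgroup G) ⊓ centralizer (ZJ : Set G))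
    (hZJ : ∀ v, v ∈ ZJ ↔ v ∈ zl (S : Subgroup G) P ∧ ∀ i, N.e v i 1 = 0) (wc : WeakCl.WC B)
    (SZJ : (S : Subgroup G) ≤ normalizer (ZJ : Set G)) : Hy (natM h N hk) B ZJ where
  syl := ⟨h.SP, S.isPGroup', fun _ _ hT hST => S.is_maximal' hT hST⟩
  D0 := h.cv_eq_bot N
  eqB := eqB
  mem_ZJ := hZJ
  mem_o2 := fun x => by
    rw [← IsParS.inf_centralizer S h.char2 h.star, mem_inf, mem_centralizer_iff]
    exact and_congr_right fun _ => ⟨fun h1 v hv => (h1 v hv).symm, fun h1 v hv => (h1 v hv).symm⟩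
  zc_eq := h.zc_o2_nat N hk
  wn := fun R hR hBR => UniPlus.WC.weakNormal wc R hR hBR
  sylB := fun R hR hBR hRZ => by
    have h1 := WOneG.syl_B S eqB SZJ
    exact h1.2.2 R hRZ hR hBR

end nat

end Cfsg.Agent.Omega.OM.Lev.Exa

end

section


/-!
# Best offenders for a general pair `(T, H)` at a level

`T` a Sylow 2-subgroup of the minimal parabolic `H`, `X` normal in `H`, `V_H ≤ X`, `AA` a family of best offenders of
`T` on `X`, no over-offender on `V_H`, a member outside `O₂(H)` (no hypothesis on `C_Z(H)`: `C_V(O²(H))` may be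
`≠ 1`, and `C_X(AA)` need not lie in `V_H`).

* `GEx.exact`, `GEx.cut`, `GEx.Y_le`, `GEx.comm_eq` : as for `OneLine.Exa`;
* `GEx.Y0` : `Y₀ = C_X({A ∈ AA | A ≤ O₂(H)})`, invariant under `H`;
* `GEx.split_card` : a factor of a best offender;
* `NatC.cent_N`, `NatC.act1` : copied from `SQ1/FFKNat.lean`; `NatC.kern_le` : `2`-elements acting trivially on `V / D`;
* `GEx.exists_one` : for every summand a member of `AA` which acts exactly as the root group of this summand;
* `GEx.mem_ZJ` : `V ∩ C_X(AA)` is the product of the lines.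
-/

set_option autoImplicit false
set_option linter.unusedSectionVars false
set_option linter.unusedVariables false

namespace Cfsg.Agent.Omega.OM.Lev

open Subgroup Cfsg Cfsg.Agent.PLocal.ThompsonJ Cfsg.Agent.ZN Cfsg.Agent.ZN.ChoiceBase
open Cfsg.Agent.ZN.ChoiceSit
open Cfsg.Agent.Omega.NatPair (ap ap_zero' ap_one' ap_one ap_mul ext2)
open Cfsg.Agent.Lib.SL2Mat
open Cfsg.Agent.PLocal.ElemAbSup
open Cfsg.Agent.Omega.SQ1.FFOne (MinH mem_norm_of conj_mem_of_norm)
open Cfsg.Agent.Omega.SQ1.Bau (elem_comm elem_sq mem_sup_comm card_sup_comm mem_sup_norm)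
open Cfsg.Agent.Omega.FFThm (NatK ActsSL Off OffM NatKM ElemM NoOverM)
open Cfsg.Agent.Omega.FrameFF (cv)
open Cfsg.Agent.Omega.NO3S.OneLine (NatC natC_of BFam elemM_mono mem_cent_sSup single_acts conj_mem)
open scoped Pointwise commutatorElement

universe u

variable {G : Type u} [Group G]

/-! ### `NatC` -/

namespace NatC'

variable {F : Type} [Field F] {T H V D : Subgroup G} {k : ℕ} (M : NatC F T H V D k)

/-- Elements of `H` inducing `A ∈ SL₂(F)^k`, `A i = 1`, centralise the preimage of the `i`-th summand. -/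
theorem cent_N [Finite G] [CharP F 2] (hm : MinH H T) {h : G} (hh : h ∈ H)
    {A : Fin k → Matrix.SpecialLinearGroup (Fin 2) F} (hA : M.Acts h A)
    (hD : ∀ d ∈ D, h * d = d * h) {i : Fin k} (hi : A i = 1) {n : G} (hn : n ∈ V)
    (hn0 : ∀ j, j ≠ i → M.nat.e n j = 0) : h * n = n * h := by
  classical
  have hneg : (-1 : F) = 1 := CharTwo.neg_eq 1
  set B0 : Matrix.SpecialLinearGroup (Fin 2) F :=
    Cfsg.Agent.Lib.SL2Mat.mk 0 1 1 1 (by rw [zero_mul, one_mul, zero_sub]; exact hneg) with hB0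
  set U : Fin k → Matrix.SpecialLinearGroup (Fin 2) F := Function.update 1 i B0 with hU
  obtain ⟨g, hg, hgA, hgD⟩ := M.nat.lift U
  have hgA' : M.Acts g U := hgA
  -- the commutator centralises `V`
  set x := g * h * g⁻¹ * h⁻¹ with hx
  have hxs : x ∈ M.stab := by
    refine ⟨mul_mem (mul_mem (mul_mem hg hh) (inv_mem hg)) (inv_mem hh), ?_, fun d hd => ?_⟩
    · have h1 := NatC.acts_mul (inv_mem hh) (NatC.acts_mul (inv_mem hg) (NatC.acts_mul hh hgA' hA)
        (NatC.acts_inv hg hgA')) (NatC.acts_inv hh hA)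
      have e : U * A * U⁻¹ * A⁻¹ = 1 := by
        funext j
        show U j * A j * (U j)⁻¹ * (A j)⁻¹ = 1
        by_cases hj : j = i
        · rw [hj, hi]
          group
        · have : U j = 1 := by rw [hU, Function.update_of_ne hj]; rfl
          rw [this]
          group
      rwa [e] at h1
    · have e1 : Commute g d := hgD d hd
      have e2 : Commute h d := hD d hd
      exact (((e1.mul_left e2).mul_left e1.inv_left).mul_left e2.inv_left).eq
  have hxc : ∀ v ∈ V, x * v = v * x := fun v hv => M.cent_of_stab hm hxs hv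
  -- choose `v`
  set y : Fin k → Fin 2 → F := Function.update 0 i ![M.nat.e n i 1, M.nat.e n i 0 + M.nat.e n i 1]
    with hy
  obtain ⟨v, hv, hev⟩ := M.nat.surj y
  have hgv := M.Vn g hg v hv
  have hhv := M.Vn h hh v hv
  -- `δ(v)`
  set δ := h * v * h⁻¹ * v⁻¹ with hδ
  have hδD : δ ∈ D := by
    rw [← M.nat.ker _ (mul_mem hhv (inv_mem hv)), M.map_div hhv hv]
    funext j
    rw [Pi.sub_apply, hA v hv j, hev]
    by_cases hj : j = i
    · subst hj
      rw [hi, ap_one, sub_self]; rfl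
    · have : y j = 0 := by rw [hy, Function.update_of_ne hj]; rfl
      rw [this]
      have e0 : ap (A j) 0 = 0 := by apply ext2 <;> simp [ap_zero', ap_one']
      rw [e0, sub_self]; rfl
  have e1 : h * (g * v * g⁻¹) * h⁻¹ = δ * (g * v * g⁻¹) := by
    have e2 : h * (g * v * g⁻¹) * h⁻¹ = x⁻¹ * (g * (h * v * h⁻¹) * g⁻¹) * x := by
      rw [hx]; group
    have e3 : h * v * h⁻¹ = δ * v := by rw [hδ]; group
    have h4 : g * (h * v * h⁻¹) * g⁻¹ ∈ V := M.Vn g hg _ hhv
    have e5 : x⁻¹ * (g * (h * v * h⁻¹) * g⁻¹) * x = g * (h * v * h⁻¹) * g⁻¹ := by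
      rw [mul_assoc, ← hxc _ h4, inv_mul_cancel_left]
    rw [e2, e5, e3]
    have e6 : g * (δ * v) * g⁻¹ = (g * δ * g⁻¹) * (g * v * g⁻¹) := by group
    rw [e6, hgD δ hδD, mul_inv_cancel_right]
  -- `h` commutes with `g v g⁻¹ v⁻¹`
  set c := g * v * g⁻¹ * v⁻¹ with hc
  have hcV : c ∈ V := mul_mem hgv (inv_mem hv)
  have h6 : h * c * h⁻¹ = c := by
    have e7 : h * c * h⁻¹ = (h * (g * v * g⁻¹) * h⁻¹) * (h * v * h⁻¹)⁻¹ := by rw [hc]; group
    have e3 : h * v * h⁻¹ = δ * v := by rw [hδ]; group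
    rw [e7, e1, e3, mul_inv_rev]
    have e8 : δ * (g * v * g⁻¹) * (v⁻¹ * δ⁻¹) = δ * c * δ⁻¹ := by rw [hc]; group
    rw [e8, M.Vcomm (M.DV hδD) hcV, mul_inv_cancel_right]
  -- `n = c d`
  have hd : c⁻¹ * n ∈ D := by
    rw [← M.nat.ker _ (mul_mem (inv_mem hcV) hn), M.nat.mul _ (inv_mem hcV) n hn, M.map_inv hcV, hc,
      M.map_div hgv hv]
    funext j
    rw [Pi.add_apply, Pi.neg_apply, Pi.sub_apply, hgA' v hv j, hev]
    by_cases hj : j = i
    · subst hj
      rw [hU, Function.update_self]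
      have hyj : y j = ![M.nat.e n j 1, M.nat.e n j 0 + M.nat.e n j 1] := by
        rw [hy, Function.update_self]
      have hB : ∀ z : Fin 2 → F, ap B0 z = ![z 1, z 0 + z 1] := by
        intro z
        apply ext2
        · rw [ap_zero', hB0, mk_00, mk_01, zero_mul, one_mul, zero_add]; rfl
        · rw [ap_one', hB0, mk_10, mk_11, one_mul, one_mul]; rfl
      rw [hyj, hB]
      apply ext2
      · show -((M.nat.e n j 0 + M.nat.e n j 1) - M.nat.e n j 1) + M.nat.e n j 0 = 0
        ring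
      · show -((M.nat.e n j 1 + (M.nat.e n j 0 + M.nat.e n j 1)) -
          (M.nat.e n j 0 + M.nat.e n j 1)) + M.nat.e n j 1 = 0
        ring
    · rw [hU, Function.update_of_ne hj]
      have : y j = 0 := by rw [hy, Function.update_of_ne hj]; rfl
      rw [this, hn0 j hj, Pi.one_apply, ap_one]
      simp
  have e9 : n = c * (c⁻¹ * n) := by group
  have h7 : Commute h c := by
    show h * c = c * h
    calc h * c = h * c * h⁻¹ * h := by group
      _ = c * h := by rw [h6]
  have h8 : Commute h (c⁻¹ * n) := hD _ hd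
  rw [e9]
  exact (h7.mul_right h8).eq

/-- Elements of `H` inducing `A` with `A j = 1` for all `j ∈ s` centralise the elements supported on `s`. -/
theorem cent_supp [Finite G] [CharP F 2] (hm : MinH H T) {h : G} (hh : h ∈ H)
    {A : Fin k → Matrix.SpecialLinearGroup (Fin 2) F} (hA : M.Acts h A)
    (hD : ∀ d ∈ D, h * d = d * h) {s : Finset (Fin k)} (hs : ∀ j ∈ s, A j = 1) {v : G} (hv : v ∈ V)
    (h0 : ∀ j, j ∉ s → M.nat.e v j = 0) : h * v = v * h := by
  classical
  induction s using Finset.induction_on generalizing v with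
  | empty =>
    refine hD v ((M.nat.ker v hv).1 ?_)
    funext j
    exact h0 j (by simp)
  | insert j s hj ih =>
    obtain ⟨n, hn, en⟩ := M.nat.surj (Function.update 0 j (M.nat.e v j))
    have h3 : Commute h n := cent_N M hm hh hA hD (hs j (by simp)) hn
      fun l hl => by rw [en, Function.update_of_ne hl]; rfl
    have h4 : Commute h (n⁻¹ * v) := by
      refine ih (fun l hl => hs l (by simp [hl])) (mul_mem (inv_mem hn) hv) fun l hl => ?_
      rw [M.nat.mul _ (inv_mem hn) v hv, M.map_inv hn, en, Pi.add_apply, Pi.neg_apply]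
      by_cases hlj : l = j
      · subst hlj
        rw [Function.update_self, neg_add_cancel]
      · rw [Function.update_of_ne hlj, h0 l (by simp [hlj, hl])]
        simp
    have e : v = n * (n⁻¹ * v) := by group
    rw [e]
    exact (h3.mul_right h4).eq

/-- the kernel of `H` on `V / D` -/
def kern (M : NatC F T H V D k) : Subgroup G where
  carrier := {x | x ∈ H ∧ M.Acts x 1}
  mul_mem' := by
    rintro a b ⟨ha, ha'⟩ ⟨hb, hb'⟩
    refine ⟨mul_mem ha hb, ?_⟩
    have := NatC.acts_mul hb ha' hb'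
    rwa [mul_one] at this
  one_mem' := ⟨one_mem H, NatC.acts_one⟩
  inv_mem' := by
    rintro a ⟨ha, ha'⟩
    refine ⟨inv_mem ha, ?_⟩
    have := NatC.acts_inv ha ha'
    rwa [inv_one] at this

theorem kern_norm : ∀ g ∈ H, ∀ x ∈ kern M, g * x * g⁻¹ ∈ kern M := by
  rintro g hg x ⟨hx, hx1⟩
  refine ⟨mul_mem (mul_mem hg hx) (inv_mem hg), fun v hv i => ?_⟩
  have hv' : g⁻¹ * v * g ∈ V := by
    have := M.Vn g⁻¹ (inv_mem hg) v hv
    rwa [inv_inv] at this
  set w := g⁻¹ * v * g with hw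
  have hxw := M.Vn x hx w hv'
  have h1 : x * w * x⁻¹ * w⁻¹ ∈ D := by
    rw [← M.nat.ker _ (mul_mem hxw (inv_mem hv')), M.map_div hxw hv']
    funext j
    rw [Pi.sub_apply, hx1 w hv' j, Pi.one_apply, ap_one, sub_self]
    rfl
  have h2 := (M.nat.ker _ (M.DV (M.Dn g hg _ h1))).2 (M.Dn g hg _ h1)
  have e1 : g * (x * w * x⁻¹ * w⁻¹) * g⁻¹ = (g * x * g⁻¹ * v * (g * x * g⁻¹)⁻¹) * v⁻¹ := by
    rw [hw]; group
  have h3 : g * x * g⁻¹ * v * (g * x * g⁻¹)⁻¹ ∈ V :=
    M.Vn _ (mul_mem (mul_mem hg hx) (inv_mem hg)) v hv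
  rw [e1, M.map_div h3 hv, sub_eq_zero] at h2
  rw [h2, Pi.one_apply, ap_one]

theorem kern_sup_ne [CharP F 2] (hT : Syl T H) : kern M ⊔ T ≠ H := by
  intro e
  have hneg : (-1 : F) = 1 := CharTwo.neg_eq 1
  set A : Matrix.SpecialLinearGroup (Fin 2) F :=
    Cfsg.Agent.Lib.SL2Mat.mk 0 1 1 1 (by rw [zero_mul, one_mul, zero_sub]; exact hneg) with hA
  have hA3 : A ^ 3 = 1 := by
    have h1 : (1 : F) + 1 = 0 := CharTwo.add_self_eq_zero 1
    rw [pow_succ, pow_two]
    apply ext_ent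
    · rw [ent_mul, ent_mul, ent_mul]; simp [hA, h1]
    · rw [ent_mul, ent_mul, ent_mul]; simp [hA, h1]
    · rw [ent_mul, ent_mul, ent_mul]; simp [hA, h1]
    · rw [ent_mul, ent_mul, ent_mul]; simp [hA, h1]
  have hA1 : A ≠ 1 := by
    intro h
    have h2 : ent A 0 0 = ent (1 : Matrix.SpecialLinearGroup (Fin 2) F) 0 0 := by rw [h]
    rw [ent_one_00, hA, mk_00] at h2
    exact zero_ne_one h2
  obtain ⟨g, hg, hgA, -⟩ := M.nat.lift fun _ => A
  have hg' : g ∈ kern M ⊔ T := by rw [e]; exact hg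
  obtain ⟨t, ht, x, hx, rfl⟩ : ∃ t ∈ T, ∃ x ∈ kern M, g = t * x := by
    refine mem_sup_norm (fun t ht => ?_) (by rwa [sup_comm] at hg')
    rw [mem_normalizer_iff]
    refine fun x => ⟨kern_norm M t (hT.1 ht) x, fun hx => ?_⟩
    have := kern_norm M t⁻¹ (inv_mem (hT.1 ht)) _ hx
    have e : t⁻¹ * (t * x * t⁻¹) * t⁻¹⁻¹ = x := by group
    rwa [e] at this
  have htH := hT.1 ht
  have htA : M.Acts t fun _ => A := by
    have h1 := NatC.acts_mul (inv_mem hx.1) (show M.Acts (t * x) (fun _ => A) from hgA)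
      (NatC.acts_inv hx.1 hx.2)
    rwa [mul_inv_cancel_right, inv_one, mul_one] at h1
  obtain ⟨n, hn⟩ := hT.2.1 ⟨t, ht⟩
  have hn' : t ^ 2 ^ n = 1 := by simpa using congrArg Subtype.val hn
  have hpow : ∀ m : ℕ, M.Acts (t ^ m) ((fun _ => A) ^ m) := by
    intro m
    induction m with
    | zero => rw [pow_zero, pow_zero]; exact NatC.acts_one
    | succ m ih => rw [pow_succ, pow_succ]; exact NatC.acts_mul htH ih htA
  have h2 := hpow (2 ^ n)
  rw [hn'] at h2
  have h3 := congrFun (NatC.acts_unique h2 NatC.acts_one) ⟨0, M.pos⟩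
  rw [Pi.pow_apply, Pi.one_apply] at h3
  have h4 : orderOf A ∣ 2 ^ n := orderOf_dvd_of_pow_eq_one h3
  have h5 : orderOf A ∣ 3 := orderOf_dvd_of_pow_eq_one hA3
  have h6 : Nat.Coprime (2 ^ n) 3 := Nat.Coprime.pow_left _ (by norm_num)
  have h7 : orderOf A = 1 := Nat.eq_one_of_dvd_coprimes h6 h4 h5
  exact hA1 (orderOf_eq_one_iff.1 h7)

theorem inf_kern_le [Finite G] [CharP F 2] (hm : MinH H T) : T ⊓ kern M ≤ o2 H :=
  hm.inf_le (fun _ h => h.1) (kern_norm M) (kern_sup_ne M hm.syl)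

/-- A 2-element of the kernel of `H` on `V / D` is in `O₂(H)`. -/
theorem kern_two [Finite G] [CharP F 2] (hm : MinH H T) {S : Subgroup G} (hS : S ≤ H) (h2 : IsPGroup 2 S)
    {x : G} (hx : x ∈ S) (hk : M.Acts x 1) : x ∈ o2 H := by
  obtain ⟨R, hR, hSR⟩ := exists_syl h2 hS
  obtain ⟨g, hg, e⟩ := syl_conj hR hm.syl
  have h1 : g * x * g⁻¹ ∈ T := by
    rw [← e]; exact ⟨x, hSR hx, rfl⟩
  have h3 := inf_kern_le M hm ⟨h1, kern_norm M g hg x ⟨hS hx, hk⟩⟩
  have h4 := conj_mem_of_norm (Cfsg.Agent.ZN.ChoiceSit.le_normalizer_o2 H (inv_mem hg)) h3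
  have e2 : g⁻¹ * (g * x * g⁻¹) * g⁻¹⁻¹ = x := by group
  rwa [e2] at h4

/-- `T ∩ C(V) ≤ O₂(H)` -/
theorem inf_cent_le [Finite G] [CharP F 2] (hm : MinH H T) (M : NatC F T H V D k) :
    T ⊓ centralizer (V : Set G) ≤ o2 H := by
  refine le_trans ?_ (inf_kern_le M hm)
  rintro x ⟨hx, hxc⟩
  refine ⟨hx, hm.syl.1 hx, fun v hv i => ?_⟩
  rw [Pi.one_apply, ap_one, ← mem_centralizer_iff.1 hxc v hv, mul_inv_cancel_right]

end NatC'


/-! ### Best offenders -/

/-- The hypotheses for a general pair `(T, H)`. -/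
structure GEx (T H X L : Subgroup G) (AA : Set (Subgroup G)) : Prop where
  min : MinH H T
  fam : BFam T X L AA
  elem : IsElementaryAbelian 2 X
  norm : H ≤ normalizer (X : Set G)
  HL : H ≤ L
  XT : X ≤ T
  VX : zl T H ≤ X
  noOver : NoOverM (zl T H) H
  ex : ∃ A ∈ AA, ¬ A ≤ o2 H
  infV : T ⊓ centralizer (zl T H : Set G) ≤ o2 H
  mem_X : ∀ x ∈ T, x ^ 2 = 1 → (∀ y ∈ T, y ∈ centralizer (X : Set G) → y * x = x * y) → x ∈ X

namespace GEx

variable {T H X L : Subgroup G} {AA : Set (Subgroup G)}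

section basic

variable [Finite G] (h : GEx T H X L AA)
include h

theorem Xc : ∀ x ∈ X, ∀ y ∈ X, x * y = y * x := elem_comm h.elem

theorem TH : T ≤ H := h.min.syl.1

theorem HV : H ≤ normalizer (zl T H : Set G) := MinSimple.VModule.le_normalizer_zl _ _

theorem QT : o2 H ≤ T := o2_le_syl h.min.syl

theorem comm_Q : ∀ a ∈ o2 H, ∀ v ∈ zl T H, a * v = v * a := fun a ha v hv =>
  SQ1.VOf.MinH.o2_cent h.min a ha v hv

theorem inf_cent {A : Subgroup G} (hA : A ≤ T) : A ⊓ centralizer (zl T H : Set G) = A ⊓ o2 H := by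
  apply le_antisymm
  · rintro a ⟨ha, hac⟩
    exact ⟨ha, h.infV ⟨hA ha, hac⟩⟩
  · rintro a ⟨ha, haQ⟩
    exact ⟨ha, mem_centralizer_iff.2 fun v hv => (h.comm_Q a haQ v hv).symm⟩

/-- exactness -/
theorem exact {A : Subgroup G} (hA : A ∈ AA) :
    Nat.card A * Nat.card ↥(zl T H ⊓ centralizer (A : Set G)) = Nat.card (zl T H) * Nat.card ↥(A ⊓ o2 H) := by
  have hAS := h.fam.le A hA
  have h1 := h.fam.off h.Xc h.VX hA
  have h2 := h.noOver A (hAS.trans h.TH) (elemM_mono (h.fam.elem A hA) h.VX le_rfl)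
  rw [h.inf_cent hAS] at h1 h2
  exact le_antisymm h2 h1

/-- `|A ∩ Q| |C_X(A ∩ Q)| = |A| |C_X(A)|` and `C_X(A ∩ Q) = V C_X(A)`. -/
theorem cut {A : Subgroup G} (hA : A ∈ AA) :
    Nat.card ↥(A ⊓ o2 H) * Nat.card ↥(X ⊓ centralizer ((A ⊓ o2 H : Subgroup G) : Set G)) =
        Nat.card A * Nat.card ↥(X ⊓ centralizer (A : Set G)) ∧
      zl T H ⊔ (X ⊓ centralizer (A : Set G)) = X ⊓ centralizer ((A ⊓ o2 H : Subgroup G) : Set G) := by
  have hAS := h.fam.le A hA
  have hc := h.exact hA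
  have hle : zl T H ⊔ (X ⊓ centralizer (A : Set G)) ≤
      X ⊓ centralizer ((A ⊓ o2 H : Subgroup G) : Set G) := by
    refine sup_le (le_inf h.VX fun v hv => mem_centralizer_iff.2 fun a ha => h.comm_Q a ha.2 v hv) ?_
    exact inf_le_inf_left _ (centralizer_le inf_le_left)
  have h1 := card_sup_comm (A := zl T H) (B := X ⊓ centralizer (A : Set G))
    fun v hv x hx => h.Xc v (h.VX hv) x hx.1
  have h2 : zl T H ⊓ (X ⊓ centralizer (A : Set G)) = zl T H ⊓ centralizer (A : Set G) := by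
    rw [← inf_assoc, inf_eq_left.2 h.VX]
  rw [h2] at h1
  have hp : 0 < Nat.card ↥(zl T H ⊓ centralizer (A : Set G)) := Nat.card_pos
  have h4 : Nat.card ↥(A ⊓ o2 H) * Nat.card ↥(X ⊓ centralizer ((A ⊓ o2 H : Subgroup G) : Set G)) ≤
      Nat.card A * Nat.card ↥(X ⊓ centralizer (A : Set G)) := by
    refine h.fam.best A hA _ ?_ inf_le_left
    rw [← h.inf_cent hAS]
    exact inf_le_inf_left _ (centralizer_le h.VX)
  have h5 := Nat.mul_le_mul_left (Nat.card ↥(A ⊓ o2 H)) (Subgroup.card_le_of_le hle)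
  have h6 : Nat.card ↥(A ⊓ o2 H) * Nat.card ↥(zl T H ⊔ (X ⊓ centralizer (A : Set G))) =
      Nat.card A * Nat.card ↥(X ⊓ centralizer (A : Set G)) := by
    refine Nat.eq_of_mul_eq_mul_right hp ?_
    calc _ = Nat.card ↥(A ⊓ o2 H) * (Nat.card ↥(zl T H ⊔ (X ⊓ centralizer (A : Set G))) *
          Nat.card ↥(zl T H ⊓ centralizer (A : Set G))) := by ring
      _ = (Nat.card (zl T H) * Nat.card ↥(A ⊓ o2 H)) *
          Nat.card ↥(X ⊓ centralizer (A : Set G)) := by rw [h1]; ring
      _ = _ := by rw [← hc]; ring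
  have h7 := le_antisymm h4 (h6 ▸ h5)
  refine ⟨h7, Subgroup.eq_of_le_of_card_ge hle ?_⟩
  have hp' : 0 < Nat.card ↥(A ⊓ o2 H) := Nat.card_pos
  exact Nat.le_of_mul_le_mul_left (h7.trans h6.symm).le hp'

/-- a member `B' ≤ T` of the family with `B' C(X) = E C(X)` -/
theorem mem_of_sup {E B' : Subgroup G} (hE : E ≤ T) (hB : B' ≤ T)
    (h3 : B' ⊔ centralizer (X : Set G) = E ⊔ centralizer (X : Set G)) {b : G} (hb : b ∈ B') :
    ∃ a ∈ E, ∃ c ∈ T, c ∈ centralizer (X : Set G) ∧ b = a * c := by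
  have h4 : b ∈ E ⊔ centralizer (X : Set G) := h3 ▸ mem_sup_left hb
  have h5 : E ≤ normalizer (centralizer (X : Set G) : Set G) := by
    intro a ha
    apply mem_normalizer_of_cj_le
    rw [cj_centralizer, cj_eq_of_mem_normalizer (h.norm (h.TH (hE ha)))]
  obtain ⟨a, ha, c, hc, rfl⟩ := mem_sup_norm h5 h4
  refine ⟨a, ha, c, ?_, hc, rfl⟩
  have := mul_mem (inv_mem (hE ha)) (hB hb)
  rwa [inv_mul_cancel_left] at this

/-- a member `B ≤ Q` of the family with `B C(X) = (A ∩ Q) C(X)` -/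
theorem exists_cut {A : Subgroup G} (hA : A ∈ AA) :
    ∃ B ∈ AA, B ≤ o2 H ∧ B ⊔ centralizer (X : Set G) = (A ⊓ o2 H) ⊔ centralizer (X : Set G) := by
  obtain ⟨h1, -⟩ := h.cut hA
  have hAS := h.fam.le A hA
  obtain ⟨B', hB', h3⟩ := h.fam.cut A hA (A ⊓ o2 H) (by
    rw [← h.inf_cent hAS]
    exact inf_le_inf_left _ (centralizer_le h.VX)) inf_le_left h1
  refine ⟨B', hB', fun b hb => ?_, h3⟩
  obtain ⟨a, ha, c, hcT, hc, rfl⟩ := h.mem_of_sup (inf_le_left.trans hAS) (h.fam.le B' hB') h3 hb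
  exact mul_mem ha.2 (h.infV ⟨hcT, centralizer_le h.VX hc⟩)

/-- `Y₀ = C_X({B ∈ AA, B ≤ Q})` is contained in `V C_X(A)`. -/
theorem Y_le {A : Subgroup G} (hA : A ∈ AA) {x : G} (hx : x ∈ X)
    (hxB : ∀ B ∈ AA, B ≤ o2 H → ∀ b ∈ B, b * x = x * b) :
    x ∈ zl T H ⊔ (X ⊓ centralizer (A : Set G)) := by
  obtain ⟨B', hB', hB'Q, h3⟩ := h.exists_cut hA
  rw [(h.cut hA).2]
  refine ⟨hx, mem_centralizer_iff.2 fun a ha => ?_⟩
  have h4 : a ∈ B' ⊔ centralizer (X : Set G) := by rw [h3]; exact mem_sup_left ha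
  have h5 : B' ⊔ centralizer (X : Set G) ≤ centralizer {x} := by
    refine sup_le (fun b hb => ?_) (fun c hc => ?_)
    · rw [mem_centralizer_singleton_iff]
      exact hxB B' hB' hB'Q b hb
    · rw [mem_centralizer_singleton_iff]
      exact (mem_centralizer_iff.1 hc x hx).symm
  exact mem_centralizer_singleton_iff.1 (h5 h4)

/-- `[x, a] = [v, a]` for some `v ∈ V` -/
theorem comm_eq {A : Subgroup G} (hA : A ∈ AA) {x : G} (hx : x ∈ X)
    (hxB : ∀ B ∈ AA, B ≤ o2 H → ∀ b ∈ B, b * x = x * b) {a : G} (ha : a ∈ A) :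
    ∃ v ∈ zl T H, a * x * a⁻¹ * x⁻¹ = a * v * a⁻¹ * v⁻¹ := by
  obtain ⟨v, hv, w, hw, rfl⟩ := mem_sup_comm (A := zl T H) (B := X ⊓ centralizer (A : Set G))
    (fun v hv a ha => h.Xc v (h.VX hv) a ha.1) (h.Y_le hA hx hxB)
  refine ⟨v, hv, ?_⟩
  have e1 : a * w = w * a := mem_centralizer_iff.1 hw.2 a ha
  have e3 : a * (v * w) * a⁻¹ * (v * w)⁻¹ = a * v * (w * a⁻¹ * w⁻¹) * v⁻¹ := by group
  have e4 : w * a⁻¹ * w⁻¹ = a⁻¹ := by
    have : w * a⁻¹ = a⁻¹ * w := by
      calc w * a⁻¹ = a⁻¹ * (a * w) * a⁻¹ := by group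
        _ = a⁻¹ * w := by rw [e1]; group
    rw [this]; group
  rw [e3, e4]

/-- conjugates of the elements of `X` which centralise the members `B ≤ Q` of the family -/
theorem Y_norm {x : G} (hx : x ∈ X) (hxB : ∀ B ∈ AA, B ≤ o2 H → ∀ b ∈ B, b * x = x * b) {p : G} (hp : p ∈ H) :
    p * x * p⁻¹ ∈ X ∧ ∀ B ∈ AA, B ≤ o2 H → ∀ b ∈ B, b * (p * x * p⁻¹) = (p * x * p⁻¹) * b := by
  refine ⟨conj_mem h.norm hp hx, fun B hB hBQ b hb => ?_⟩
  have h0 : cj p⁻¹ B ≤ o2 H := by
    have h2 := cj_mono p⁻¹ hBQ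
    rwa [cj_eq_of_mem_normalizer (Cfsg.Agent.ZN.ChoiceSit.le_normalizer_o2 H (inv_mem hp))] at h2
  have h2 := h.fam.conj B hB p⁻¹ (h.HL (inv_mem hp)) (h0.trans h.QT)
  have h3 := hxB _ h2 h0 (p⁻¹ * b * p) (by
    rw [mem_cj]
    have e : p⁻¹⁻¹ * (p⁻¹ * b * p) * p⁻¹ = b := by group
    rwa [e])
  calc b * (p * x * p⁻¹) = p * ((p⁻¹ * b * p) * x) * p⁻¹ := by group
    _ = p * (x * (p⁻¹ * b * p)) * p⁻¹ := by rw [h3]
    _ = (p * x * p⁻¹) * b := by group

/-- A factor of a best offender. -/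
theorem split_card {A : Subgroup G} (hA : A ∈ AA) {E E' : Subgroup G} (hE : E ≤ A) (hE' : E' ≤ A)
    (h0 : E ⊓ E' = A ⊓ o2 H) (hEE : ∀ a ∈ A, ∃ e ∈ E, ∃ e' ∈ E', a = e * e')
    (hV : ∀ v ∈ zl T H, ∃ u ∈ zl T H, ∃ w ∈ zl T H,
      (∀ e ∈ E, e * u = u * e) ∧ (∀ e ∈ E', e * w = w * e) ∧ v = u * w) :
    ∃ B ∈ AA, B ⊔ centralizer (X : Set G) = E ⊔ centralizer (X : Set G) := by
  set V := zl T H with hVd
  have hAS := h.fam.le A hA
  have hA0 : A ⊓ o2 H ≤ E := h0.ge.trans inf_le_left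
  have hA0' : A ⊓ o2 H ≤ E' := h0.ge.trans inf_le_right
  have hXc := h.Xc
  have hVX := h.VX
  -- (1)
  have c1 : Nat.card A * Nat.card ↥(A ⊓ o2 H) ≤ Nat.card E * Nat.card E' := by
    choose! f hf g hg hfg using hEE
    rw [← Nat.card_prod, ← Nat.card_prod]
    refine Nat.card_le_card_of_injective (fun p : A × (A ⊓ o2 H : Subgroup G) =>
      ((⟨f p.1 * p.2, mul_mem (hf _ p.1.2) (hA0 p.2.2)⟩, ⟨(p.2 : G)⁻¹ * g p.1, mul_mem (inv_mem (hA0' p.2.2))
        (hg _ p.1.2)⟩) : E × E')) ?_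
    rintro ⟨⟨a, ha⟩, ⟨x, hx⟩⟩ ⟨⟨b, hb⟩, ⟨y, hy⟩⟩ hab
    simp only [Prod.mk.injEq, Subtype.mk.injEq] at hab
    obtain ⟨h1, h2⟩ := hab
    have h3 : a = b := by
      rw [hfg a ha, hfg b hb]
      calc f a * g a = (f a * x) * (x⁻¹ * g a) := by group
        _ = (f b * y) * (y⁻¹ * g b) := by rw [h1, h2]
        _ = f b * g b := by group
    subst h3
    have h4 : x = y := mul_left_cancel h1
    subst h4
    rfl
  -- (2)
  have hVc : ∀ x ∈ V, ∀ y ∈ V, x * y = y * x := fun x hx y hy => hXc x (hVX hx) y (hVX hy)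
  have c2 : Nat.card V * Nat.card ↥(V ⊓ centralizer (A : Set G)) =
      Nat.card ↥(V ⊓ centralizer (E : Set G)) * Nat.card ↥(V ⊓ centralizer (E' : Set G)) := by
    have h1 := card_sup_comm (A := V ⊓ centralizer (E : Set G)) (B := V ⊓ centralizer (E' : Set G))
      fun a ha b hb => hVc a ha.1 b hb.1
    have h2 : (V ⊓ centralizer (E : Set G)) ⊔ (V ⊓ centralizer (E' : Set G)) = V := by
      refine le_antisymm (sup_le inf_le_left inf_le_left) fun v hv => ?_
      obtain ⟨u, hu, w, hw, h3, h4, rfl⟩ := hV v hv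
      exact mul_mem (mem_sup_left ⟨hu, mem_centralizer_iff.2 h3⟩) (mem_sup_right ⟨hw, mem_centralizer_iff.2 h4⟩)
    have h3 : (V ⊓ centralizer (E : Set G)) ⊓ (V ⊓ centralizer (E' : Set G)) = V ⊓ centralizer (A : Set G) := by
      apply le_antisymm
      · rintro x ⟨⟨hx, hxE⟩, ⟨-, hxE'⟩⟩
        refine ⟨hx, mem_centralizer_iff.2 fun a ha => ?_⟩
        obtain ⟨e, he, e', he', rfl⟩ := hEE a ha
        have d1 : Commute e x := mem_centralizer_iff.1 hxE e he
        have d2 : Commute e' x := mem_centralizer_iff.1 hxE' e' he'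
        exact (d1.mul_left d2).eq
      · exact le_inf (inf_le_inf_left _ (centralizer_le hE)) (inf_le_inf_left _ (centralizer_le hE'))
    rwa [h2, h3] at h1
  -- (3), (4)
  have key : ∀ E₀ : Subgroup G, E₀ ≤ A → A ⊓ o2 H ≤ E₀ →
      Nat.card E₀ * Nat.card ↥(V ⊓ centralizer (E₀ : Set G)) ≤ Nat.card V * Nat.card ↥(A ⊓ o2 H) := by
    intro E₀ h1 h2
    have h3 := h.noOver E₀ ((h1.trans hAS).trans h.TH) (elemM_mono (h.fam.elem A hA) hVX h1)
    rw [h.inf_cent (h1.trans hAS)] at h3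
    have h4 : E₀ ⊓ o2 H = A ⊓ o2 H :=
      le_antisymm (inf_le_inf_right _ h1) (le_inf h2 inf_le_right)
    rwa [h4] at h3
  have c3 := key E hE hA0
  have c4 := key E' hE' hA0'
  have c5 := h.exact hA
  rw [← hVd] at c5
  have hp0 : 0 < Nat.card ↥(A ⊓ o2 H) := Nat.card_pos
  have hpV : 0 < Nat.card V := Nat.card_pos
  have hp : 0 < Nat.card V * Nat.card ↥(A ⊓ o2 H) := Nat.mul_pos hpV hp0
  have c6 : Nat.card V * Nat.card ↥(A ⊓ o2 H) ≤
      Nat.card E * Nat.card ↥(V ⊓ centralizer (E : Set G)) := by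
    refine Nat.le_of_mul_le_mul_right ?_ hp
    calc (Nat.card V * Nat.card ↥(A ⊓ o2 H)) * (Nat.card V * Nat.card ↥(A ⊓ o2 H))
        = (Nat.card A * Nat.card ↥(V ⊓ centralizer (A : Set G))) * (Nat.card V * Nat.card ↥(A ⊓ o2 H)) := by
          rw [c5]
      _ = (Nat.card A * Nat.card ↥(A ⊓ o2 H)) * (Nat.card V * Nat.card ↥(V ⊓ centralizer (A : Set G))) := by ring
      _ ≤ (Nat.card E * Nat.card E') * (Nat.card ↥(V ⊓ centralizer (E : Set G)) *
          Nat.card ↥(V ⊓ centralizer (E' : Set G))) := by rw [c2]; exact Nat.mul_le_mul_right _ c1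
      _ = (Nat.card E * Nat.card ↥(V ⊓ centralizer (E : Set G))) *
          (Nat.card E' * Nat.card ↥(V ⊓ centralizer (E' : Set G))) := by ring
      _ ≤ _ := Nat.mul_le_mul_left _ c4
  -- (7)
  have c7 : Nat.card ↥(V ⊓ centralizer (E : Set G)) * Nat.card ↥(X ⊓ centralizer (A : Set G)) ≤
      Nat.card ↥(X ⊓ centralizer (E : Set G)) * Nat.card ↥(V ⊓ centralizer (A : Set G)) := by
    have h1 := card_sup_comm (A := V ⊓ centralizer (E : Set G)) (B := X ⊓ centralizer (A : Set G))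
      fun a ha b hb => hXc a (hVX ha.1) b hb.1
    have h2 : (V ⊓ centralizer (E : Set G)) ⊓ (X ⊓ centralizer (A : Set G)) = V ⊓ centralizer (A : Set G) := by
      apply le_antisymm
      · rintro x ⟨⟨hx, -⟩, -, hxA⟩
        exact ⟨hx, hxA⟩
      · rintro x ⟨hx, hxA⟩
        exact ⟨⟨hx, centralizer_le hE hxA⟩, hVX hx, hxA⟩
    rw [h2] at h1
    rw [← h1]
    refine Nat.mul_le_mul_right _ (Subgroup.card_le_of_le (sup_le (inf_le_inf_right _ hVX) ?_))
    exact inf_le_inf_left _ (centralizer_le hE)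
  -- (8)
  have hpA : 0 < Nat.card ↥(V ⊓ centralizer (A : Set G)) := Nat.card_pos
  have c8 : Nat.card A * Nat.card ↥(X ⊓ centralizer (A : Set G)) ≤
      Nat.card E * Nat.card ↥(X ⊓ centralizer (E : Set G)) := by
    refine Nat.le_of_mul_le_mul_right ?_ hpA
    calc Nat.card A * Nat.card ↥(X ⊓ centralizer (A : Set G)) * Nat.card ↥(V ⊓ centralizer (A : Set G))
        = (Nat.card A * Nat.card ↥(V ⊓ centralizer (A : Set G))) * Nat.card ↥(X ⊓ centralizer (A : Set G)) := by
          ring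
      _ = (Nat.card V * Nat.card ↥(A ⊓ o2 H)) * Nat.card ↥(X ⊓ centralizer (A : Set G)) := by rw [c5]
      _ ≤ (Nat.card E * Nat.card ↥(V ⊓ centralizer (E : Set G))) * Nat.card ↥(X ⊓ centralizer (A : Set G)) :=
          Nat.mul_le_mul_right _ c6
      _ = Nat.card E * (Nat.card ↥(V ⊓ centralizer (E : Set G)) * Nat.card ↥(X ⊓ centralizer (A : Set G))) := by
          ring
      _ ≤ Nat.card E * (Nat.card ↥(X ⊓ centralizer (E : Set G)) * Nat.card ↥(V ⊓ centralizer (A : Set G))) :=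
          Nat.mul_le_mul_left _ c7
      _ = _ := by ring
  have hAE : A ⊓ centralizer (X : Set G) ≤ E := by
    refine le_trans ?_ hA0
    rw [← h.inf_cent hAS]
    exact inf_le_inf_left _ (centralizer_le hVX)
  exact h.fam.cut A hA E hAE hE (le_antisymm (h.fam.best A hA E hAE hE) c8)

end basic

/-! ### Natural modules -/

section nat

variable [Finite G] {F : Type} [Field F] [Finite F] [CharP F 2] {k : ℕ} (h : GEx T H X L AA)
include h

/-- members of the family outside `O₂(P)` are offenders -/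
theorem offM {A : Subgroup G} (hA : A ∈ AA) (hAQ : ¬ A ≤ o2 H) : OffM (zl T H) A :=
  h.fam.offM h.Xc h.VX hA fun h1 => hAQ fun a ha => h.infV ⟨h.fam.le A hA ha, h1 ha⟩

/-- for every `j` some `A ∈ AA` contains the full root group `j` -/
theorem exists_root (N : NatKM F T H (zl T H) (cv T H) k) (hk : 0 < k) (j : Fin k) : ∃ A ∈ AA, ∀ b : F, ∃ a ∈ A,
      ActsSL N.e (zl T H) (cv T H) a (Pi.mulSingle j (up b)) := by
  classical
  have hm := h.min
  set M := natC_of hm hk N.toNatK with hM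
  obtain ⟨A, hA, hAQ⟩ := h.ex
  obtain ⟨I, h1, h2⟩ := N.offM A (h.fam.le A hA) (h.offM hA hAQ)
  obtain ⟨i, hi⟩ : I.Nonempty := by
    by_contra hcon
    rw [Set.not_nonempty_iff_eq_empty] at hcon
    apply (h.offM hA hAQ).ne
    intro a ha
    obtain ⟨b, hb0, hb⟩ := h1 a ha
    have hb1 : b = 0 := by
      funext l
      exact hb0 l (by rw [hcon]; simp)
    subst hb1
    have hs : a ∈ M.stab := by
      refine ⟨h.TH (h.fam.le A hA ha), fun w hw l => ?_, hb.2⟩
      have h5 : N.e (a * w * a⁻¹) l = ap (up ((0 : Fin k → F) l)) (N.e w l) := hb.1 w hw l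
      rw [Pi.zero_apply, up_zero] at h5
      exact h5
    exact mem_centralizer_iff.2 fun w hw => (M.cent_of_stab hm hs hw).symm
  obtain ⟨t, ht, htr⟩ := N.trans i j
  have hcj : cj t A ≤ T := by
    have h3 := cj_mono t (h.fam.le A hA)
    rwa [cj_eq_of_mem_normalizer (le_normalizer ht : t ∈ normalizer (T : Set G))] at h3
  have hA' := h.fam.conj A hA t (h.HL (h.TH ht)) hcj
  have hAQ' : ¬ cj t A ≤ o2 H := by
    intro h3
    apply hAQ
    have h4 := cj_mono t⁻¹ h3
    rw [cj_inv_cj, cj_eq_of_mem_normalizer (Cfsg.Agent.ZN.ChoiceSit.le_normalizer_o2 H (h.TH (inv_mem ht)))] at h4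
    exact h4
  obtain ⟨I', h1', h2'⟩ := N.offM (cj t A) hcj (h.offM hA' hAQ')
  have hj : j ∈ I' := by
    by_contra hj
    obtain ⟨a, ha, hac⟩ := h2 (Pi.single i 1) fun l hl => by
      rw [Pi.single_eq_of_ne]
      rintro rfl
      exact hl hi
    rw [single_acts] at hac
    obtain ⟨v, hv, hev⟩ := N.surj (Pi.single i ![0, 1])
    have haP := h.TH (h.fam.le A hA ha)
    have hav := conj_mem h.HV haP hv
    have htP := h.TH ht
    have hu : a * v * a⁻¹ * v⁻¹ ∈ zl T H := mul_mem hav (inv_mem hv)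
    have htv := conj_mem h.HV htP hv
    have ha' : t * a * t⁻¹ ∈ cj t A := ⟨a, ha, rfl⟩
    obtain ⟨b', hb0, hb'⟩ := h1' _ ha'
    have h3 : N.e (t * (a * v * a⁻¹ * v⁻¹) * t⁻¹) j = 0 := by
      have e1 : t * (a * v * a⁻¹ * v⁻¹) * t⁻¹ =
          (t * a * t⁻¹) * (t * v * t⁻¹) * (t * a * t⁻¹)⁻¹ * (t * v * t⁻¹)⁻¹ := by group
      have h4 : (t * a * t⁻¹) * (t * v * t⁻¹) * (t * a * t⁻¹)⁻¹ ∈ zl T H :=
        conj_mem h.HV (h.TH (hcj ha')) htv
      have h5 : N.e ((t * a * t⁻¹) * (t * v * t⁻¹) * (t * a * t⁻¹)⁻¹) j =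
          ap (up (b' j)) (N.e (t * v * t⁻¹) j) := hb'.1 _ htv j
      have hd : N.e ((t * a * t⁻¹) * (t * v * t⁻¹) * (t * a * t⁻¹)⁻¹ * (t * v * t⁻¹)⁻¹) =
          N.e ((t * a * t⁻¹) * (t * v * t⁻¹) * (t * a * t⁻¹)⁻¹) - N.e (t * v * t⁻¹) := M.map_div h4 htv
      rw [e1, hd, Pi.sub_apply, h5, hb0 j hj, up_zero, ap_one, sub_self]
    have h6 := (htr _ hu).1 h3
    rw [show N.e (a * v * a⁻¹ * v⁻¹) = N.e (a * v * a⁻¹) - N.e v from M.map_div hav hv] at h6
    have h7 : N.e (a * v * a⁻¹) i = ap ((Pi.mulSingle i (up 1) : Fin k → _) i) (N.e v i) := hac.1 v hv i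
    rw [Pi.sub_apply, h7, Pi.mulSingle_eq_same, hev, Pi.single_eq_same] at h6
    have h8 := congrFun h6 0
    rw [Pi.sub_apply, ap_zero', up_00, up_01] at h8
    simp at h8
  refine ⟨cj t A, hA', fun b => ?_⟩
  obtain ⟨a, ha, hac⟩ := h2' (Pi.single j b) fun l hl => by
    rw [Pi.single_eq_of_ne]
    rintro rfl
    exact hl hj
  rw [single_acts] at hac
  exact ⟨a, ha, hac⟩

/-- an element of `C(X)` does not change the action on `V` -/
theorem acts_congr {N : NatKM F T H (zl T H) (cv T H) k} {a c : G} (hc : c ∈ centralizer (X : Set G))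
    {A : Fin k → Matrix.SpecialLinearGroup (Fin 2) F} (ha : ActsSL N.e (zl T H) (cv T H) a A) :
    ActsSL N.e (zl T H) (cv T H) (a * c) A := by
  have hcv : ∀ v ∈ zl T H, c * v = v * c := fun v hv => (mem_centralizer_iff.1 hc v (h.VX hv)).symm
  refine ⟨fun v hv i => ?_, fun d hd => ?_⟩
  · have e : a * c * v * (a * c)⁻¹ = a * (c * v * c⁻¹) * a⁻¹ := by group
    rw [e, hcv v hv, mul_inv_cancel_right]
    exact ha.1 v hv i
  · have hd' : d ∈ zl T H := (inf_le_left : cv T H ≤ zl T H) hd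
    have c1 : Commute a d := ha.2 d hd
    have c2 : Commute c d := hcv d hd'
    exact (c1.mul_left c2).eq

/-- **For every block a member of the family which acts exactly as the root group of this block.** -/
theorem exists_one (N : NatKM F T H (zl T H) (cv T H) k) (hk : 0 < k) (j : Fin k) : ∃ A ∈ AA,
    (∀ a ∈ A, ∃ c : F, ActsSL N.e (zl T H) (cv T H) a (Pi.mulSingle j (up c))) ∧
    ∀ c : F, ∃ a ∈ A, ActsSL N.e (zl T H) (cv T H) a (Pi.mulSingle j (up c)) := by
  classical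
  have hm := h.min
  set M := natC_of hm hk N.toNatK with hM
  obtain ⟨A, hA, hroot⟩ := h.exists_root N hk j
  have hAS := h.fam.le A hA
  have hAP : A ≤ H := hAS.trans h.TH
  have hAQ : ¬ A ≤ o2 H := by
    intro hAQ
    obtain ⟨a, ha, hac⟩ := hroot 1
    obtain ⟨v, hv, e⟩ := N.surj (Pi.single j ![0, 1])
    have h1 := h.comm_Q a (hAQ ha) v hv
    have h2 := hac.1 v hv j
    have h3 : a * v * a⁻¹ = v := by rw [h1]; group
    rw [h3, Pi.mulSingle_eq_same, e, Pi.single_eq_same] at h2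
    have h4 := congrFun h2 0
    rw [ap_zero'] at h4
    simp at h4
  obtain ⟨I, h1, h2⟩ := N.offM A hAS (h.offM hA hAQ)
  have hupinj : ∀ b c : F, (up b : Matrix.SpecialLinearGroup (Fin 2) F) = up c → b = c := fun b c hbc => by
    have : ent (up b : Matrix.SpecialLinearGroup (Fin 2) F) 0 1 = ent (up c) 0 1 := by rw [hbc]
    rwa [up_01, up_01] at this
  have hmul : ∀ {a b : G} {A B : Fin k → Matrix.SpecialLinearGroup (Fin 2) F}, b ∈ H →
      ActsSL N.e (zl T H) (cv T H) a A → ActsSL N.e (zl T H) (cv T H) b B →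
        ActsSL N.e (zl T H) (cv T H) (a * b) (A * B) := by
    intro a b A B hb hA hB
    refine ⟨NatC.acts_mul (M := M) hb hA.1 hB.1, fun d hd => ?_⟩
    have c1 : Commute a d := hA.2 d hd
    have c2 : Commute b d := hB.2 d hd
    exact (c1.mul_left c2).eq
  have hinv : ∀ {a : G} {A : Fin k → Matrix.SpecialLinearGroup (Fin 2) F}, a ∈ H →
      ActsSL N.e (zl T H) (cv T H) a A → ActsSL N.e (zl T H) (cv T H) a⁻¹ A⁻¹ := by
    intro a A ha hA
    refine ⟨NatC.acts_inv (M := M) ha hA.1, fun d hd => ?_⟩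
    have c1 : Commute a d := hA.2 d hd
    exact c1.inv_left.eq
  have hone : ActsSL N.e (zl T H) (cv T H) 1 1 := ⟨NatC.acts_one (M := M), fun d _ => by simp⟩
  -- trivial action
  have htriv : ∀ a ∈ A, ActsSL N.e (zl T H) (cv T H) a 1 → a ∈ o2 H := by
    intro a ha ha1
    refine h.infV ⟨hAS ha, mem_centralizer_iff.2 fun v hv => ?_⟩
    exact (M.cent_of_stab hm ⟨hAP ha, ha1.1, ha1.2⟩ hv).symm
  have htriv' : ∀ a ∈ A ⊓ o2 H, ActsSL N.e (zl T H) (cv T H) a 1 := by
    intro a ha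
    refine ⟨fun v hv i => ?_, fun d hd => h.comm_Q a ha.2 d ((inf_le_left : cv T H ≤ zl T H) hd)⟩
    have h5 : a * v * a⁻¹ = v := by rw [h.comm_Q a ha.2 v hv]; group
    rw [h5, Pi.one_apply, ap_one]
  let E : Subgroup G :=
    { carrier := {a | a ∈ A ∧ ∃ c : F, ActsSL N.e (zl T H) (cv T H) a (Pi.mulSingle j (up c))}
      mul_mem' := by
        rintro a b ⟨ha, c, hc⟩ ⟨hb, d, hd⟩
        refine ⟨mul_mem ha hb, c + d, ?_⟩
        have := hmul (hAP hb) hc hd
        rwa [← Pi.mulSingle_mul, up_mul] at this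
      one_mem' := ⟨one_mem _, 0, by rw [up_zero, Pi.mulSingle_one]; exact hone⟩
      inv_mem' := by
        rintro a ⟨ha, c, hc⟩
        refine ⟨inv_mem ha, -c, ?_⟩
        have := hinv (hAP ha) hc
        rwa [← Pi.mulSingle_inv, up_inv] at this }
  let E' : Subgroup G :=
    { carrier := {a | a ∈ A ∧ ∃ b : Fin k → F, b j = 0 ∧ ActsSL N.e (zl T H) (cv T H) a fun i => up (b i)}
      mul_mem' := by
        rintro a b ⟨ha, c, hc0, hc⟩ ⟨hb, d, hd0, hd⟩
        refine ⟨mul_mem ha hb, c + d, by rw [Pi.add_apply, hc0, hd0, add_zero], ?_⟩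
        have h5 := hmul (hAP hb) hc hd
        have h6 : ((fun i => up (c i)) * (fun i => up (d i)) : Fin k → Matrix.SpecialLinearGroup (Fin 2) F) =
            fun i => up ((c + d) i) := funext fun i => up_mul _ _
        rwa [h6] at h5
      one_mem' := by
        refine ⟨one_mem _, 0, rfl, ?_⟩
        have h6 : (fun i => up ((0 : Fin k → F) i) : Fin k → Matrix.SpecialLinearGroup (Fin 2) F) = 1 :=
          funext fun i => up_zero
        rw [h6]
        exact hone
      inv_mem' := by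
        rintro a ⟨ha, c, hc0, hc⟩
        refine ⟨inv_mem ha, -c, by rw [Pi.neg_apply, hc0, neg_zero], ?_⟩
        have h5 := hinv (hAP ha) hc
        have h6 : (fun i => up (c i) : Fin k → Matrix.SpecialLinearGroup (Fin 2) F)⁻¹ =
            fun i => up ((-c) i) := funext fun i => up_inv _
        rwa [h6] at h5 }
  have hEA : E ≤ A := fun a ha => ha.1
  have hE'A : E' ≤ A := fun a ha => ha.1
  obtain ⟨B', hB', h3⟩ : ∃ B ∈ AA, B ⊔ centralizer (X : Set G) = E ⊔ centralizer (X : Set G) := by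
    refine h.split_card hA hEA hE'A ?_ ?_ ?_
    · apply le_antisymm
      · rintro a ⟨⟨ha, c, hc⟩, -, b, hb0, hb⟩
        refine ⟨ha, htriv a ha ?_⟩
        have h5 := NatC.acts_unique (M := M) hc.1 hb.1
        have h6 := congrFun h5 j
        rw [Pi.mulSingle_eq_same, hb0] at h6
        rw [hupinj _ _ h6, up_zero, Pi.mulSingle_one] at hc
        exact hc
      · intro a ha
        have h5 := htriv' a ha
        refine ⟨⟨ha.1, 0, ?_⟩, ha.1, 0, rfl, ?_⟩
        · rwa [up_zero, Pi.mulSingle_one]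
        · have h6 : (fun i => up ((0 : Fin k → F) i) : Fin k → Matrix.SpecialLinearGroup (Fin 2) F) = 1 :=
            funext fun i => up_zero
          rwa [h6]
    · intro a ha
      obtain ⟨b, hb0, hb⟩ := h1 a ha
      obtain ⟨e, he, hec⟩ := hroot (b j)
      have he'' : ActsSL N.e (zl T H) (cv T H) e (fun i => up ((Pi.single j (b j) : Fin k → F) i)) := by
        rw [single_acts]; exact hec
      refine ⟨e, ⟨he, _, hec⟩, e⁻¹ * a, ⟨mul_mem (inv_mem he) ha, fun i => b i - (Pi.single j (b j) : Fin k → F) i,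
        ?_, ?_⟩, by group⟩
      · show b j - (Pi.single j (b j) : Fin k → F) j = 0
        rw [Pi.single_eq_same, sub_self]
      · have h5 := hmul (hAP ha) (hinv (hAP he) he'') hb
        have h6 : ((fun i => up ((Pi.single j (b j) : Fin k → F) i) :
            Fin k → Matrix.SpecialLinearGroup (Fin 2) F)⁻¹ * (fun i => up (b i)) :
            Fin k → Matrix.SpecialLinearGroup (Fin 2) F) =
            fun i => up (b i - (Pi.single j (b j) : Fin k → F) i) := by
          funext i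
          rw [Pi.mul_apply, Pi.inv_apply, up_inv, up_mul]
          congr 1
          ring
        rwa [h6] at h5
    · intro v hv
      obtain ⟨w, hw, e⟩ := N.surj (Pi.single j (N.e v j))
      have hwv : v * w⁻¹ ∈ zl T H := mul_mem hv (inv_mem hw)
      have he0 : N.e (v * w⁻¹) j = 0 := by
        rw [show N.e (v * w⁻¹) = N.e v - N.e w from M.map_div hv hw, Pi.sub_apply, e, Pi.single_eq_same, sub_self]
      refine ⟨v * w⁻¹, hwv, w, hw, ?_, ?_, by group⟩
      · rintro a ⟨ha, c, hc⟩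
        refine NatC'.cent_supp M hm (hAP ha) hc.1 hc.2 (s := Finset.univ.erase j) (fun i hi => ?_) hwv fun i hi => ?_
        · rw [Pi.mulSingle_eq_of_ne (Finset.ne_of_mem_erase hi)]
        · have hij : i = j := by
            by_contra hne
            exact hi (Finset.mem_erase.2 ⟨hne, Finset.mem_univ i⟩)
          rw [hij]
          exact he0
      · rintro a ⟨ha, b, hb0, hb⟩
        refine NatC'.cent_N M hm (hAP ha) hb.1 hb.2 (i := j) (by rw [hb0, up_zero]) hw fun i hi => ?_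
        show N.e w i = 0
        rw [e, Pi.single_eq_of_ne hi]
  refine ⟨B', hB', fun b hb => ?_, fun c => ?_⟩
  · obtain ⟨a, ha, c, hcT, hc, rfl⟩ := h.mem_of_sup (hEA.trans hAS) (h.fam.le B' hB') h3 hb
    obtain ⟨-, d, hd⟩ := ha
    exact ⟨d, h.acts_congr hc hd⟩
  · obtain ⟨a, ha, hac⟩ := hroot c
    obtain ⟨b, hb, c', hcT, hc, e⟩ := h.mem_of_sup (h.fam.le B' hB') (hEA.trans hAS) h3.symm
      (show a ∈ E from ⟨ha, c, hac⟩)
    refine ⟨b, hb, ?_⟩
    have e' : b = a * c'⁻¹ := by rw [e]; group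
    rw [e']
    exact h.acts_congr (inv_mem hc) hac

/-- members of the family centralise the product of the lines -/
theorem cent_line (N : NatKM F T H (zl T H) (cv T H) k) (hk : 0 < k) {A : Subgroup G} (hA : A ∈ AA) {v : G}
    (hv : v ∈ zl T H) (hl : ∀ i, N.e v i 1 = 0) {a : G} (ha : a ∈ A) : a * v = v * a := by
  by_cases hAQ : A ≤ o2 H
  · exact h.comm_Q a (hAQ ha) v hv
  set M := natC_of h.min hk N.toNatK with hM
  obtain ⟨I, h1, h2⟩ := N.offM A (h.fam.le A hA) (h.offM hA hAQ)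
  exact M.cent_line h.min (h.fam.le A hA) (h.fam.off h.Xc h.VX hA) h1 h2 hv hl ha

/-- **`V ∩ C_X(AA)` is the product of the lines.** -/
theorem mem_ZJ (N : NatKM F T H (zl T H) (cv T H) k) (hk : 0 < k) {v : G} (hv : v ∈ zl T H) :
    v ∈ X ⊓ centralizer ((sSup AA : Subgroup G) : Set G) ↔ ∀ i, N.e v i 1 = 0 := by
  constructor
  · rintro ⟨-, hvc⟩ i
    obtain ⟨A, hA, -, hroot⟩ := h.exists_one N hk i
    obtain ⟨a, ha, hac⟩ := hroot 1
    have h1 := mem_cent_sSup.1 hvc A hA a ha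
    have h2 := hac.1 v hv i
    rw [h1, mul_inv_cancel_right, Pi.mulSingle_eq_same] at h2
    have h3 := congrFun h2 0
    rw [ap_zero', up_00, up_01, one_mul, one_mul] at h3
    exact left_eq_add.1 h3
  · intro hl
    exact ⟨h.VX hv, mem_cent_sSup.2 fun A hA a ha => h.cent_line N hk hA hv hl ha⟩

end nat

end GEx

end Cfsg.Agent.Omega.OM.Lev

end
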